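import Cfsg.Agent.ClassicalMax.TPow.Slot
import Cfsg.Agent.ClassicalMax.TPow.Wreath

/-!
Subgroups of the isometry group of a tensor power of a symplectic form containing the isometries of the wreath group:
square-zero slot elements and their commutators.
-/

set_option autoImplicit false
set_option linter.unusedSectionVars false

namespace Cfsg.Agent.ClassicalMax.SpWreath

open Matrix Cfsg.Geo Cfsg.Agent.ClassicalMax.TPow

variable {F : Type*} [Field F] {k t : ℕ}

/-- the form of the tensor power -/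
def GV (J : Matrix (Fin k) (Fin k) F) {β : Type} [Fintype β] [DecidableEq β] :
    Matrix (β → Fin k) (β → Fin k) F := tens fun _ => J

/-- the matrix is that of an element of the group -/
def InH (H : Subgroup (GL (Fin t → Fin k) F)) (X : Matrix (Fin t → Fin k) (Fin t → Fin k) F) : Prop :=
  ∃ h ∈ H, (h : Matrix (Fin t → Fin k) (Fin t → Fin k) F) = X

/-- the one-parameter group of the matrix lies in the group -/
def Root (H : Subgroup (GL (Fin t → Fin k) F)) (X : Matrix (Fin t → Fin k) (Fin t → Fin k) F) : Prop :=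
  ∀ s : F, InH H (1 + s • X)

/-- a group of isometries containing the slot root groups and the even permutations of the slots; for an odd number
of slots all permutations -/
structure Setting (J : Matrix (Fin k) (Fin k) F) (H : Subgroup (GL (Fin t → Fin k) F)) : Prop where
  two : (2 : F) ≠ 0
  skew : Jᵀ = -J
  det : IsUnit J.det
  tpos : 0 < t
  kpos : 2 ≤ k
  iso : ∀ g ∈ H, (g : Matrix (Fin t → Fin k) (Fin t → Fin k) F)ᵀ * GV J *
    (g : Matrix (Fin t → Fin k) (Fin t → Fin k) F) = GV J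
  root : ∀ (i : Fin t) (u : Fin k → F), Root H (sl i (rk J u u))
  perm : ∀ σ : Equiv.Perm (Fin t), (Equiv.Perm.sign σ = 1 ∨ Odd t) → Asch.permU (F := F) (m := k) σ ∈ H

section Form

variable {J : Matrix (Fin k) (Fin k) F} {β : Type} [Fintype β] [DecidableEq β]

theorem GV_transpose (hJT : Jᵀ = -J) : (GV J (β := β))ᵀ = (-1 : F) ^ Fintype.card β • GV J := by
  rw [GV, tens_transpose, ← Finset.card_univ, ← Finset.prod_const, ← tens_smul]
  simp [hJT]

theorem GV_det (hJ : IsUnit J.det) : IsUnit (GV J (β := β)).det := by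
  refine (isUnit_iff_isUnit_det _).1 (IsUnit.of_mul_eq_one (tens fun _ => J⁻¹) ?_)
  rw [GV, tens_mul, show ((fun _ : β => J) * fun _ => J⁻¹) = 1 from funext fun _ => mul_nonsing_inv J hJ, tens_one]

theorem bf_self (h2 : (2 : F) ≠ 0) {ν : Type} [Fintype ν] [DecidableEq ν] {G : Matrix ν ν F} (hG : Gᵀ = -G)
    (u : ν → F) : bf G u u = 0 := by
  have h := bf_swap G (ε := (-1 : F)) (by rw [hG, neg_one_smul]) u u
  refine (mul_eq_zero.1 ?_).resolve_left h2
  linear_combination h

theorem bf_skew {ν : Type} [Fintype ν] [DecidableEq ν] {G : Matrix ν ν F} (hG : Gᵀ = -G) (u v : ν → F) :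
    bf G u v = -bf G v u := by
  rw [bf_swap G (ε := (-1 : F)) (by rw [hG, neg_one_smul]), neg_one_mul]

/-- skewness in one slot gives skewness -/
theorem sl_skew {A : Matrix (Fin k) (Fin k) F} (hA : Aᵀ * J = -(J * A)) (i : β) :
    (sl i A)ᵀ * GV J = -(GV J * sl i A) := by
  rw [sl, GV, tens_transpose, tens_mul, tens_mul, ← neg_one_smul F (tens _)]
  have e : ((fun j => (Function.update (1 : β → Matrix (Fin k) (Fin k) F) i A j)ᵀ) * fun _ => J) =
      Function.update (fun _ => J) i ((-1 : F) • (J * A)) := by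
    funext j
    rcases eq_or_ne j i with rfl | hj <;> simp [*]
  rw [e, tens_update_smul]
  congr 2
  funext j
  rcases eq_or_ne j i with rfl | hj <;> simp [*]

theorem mixed_skew (hJT : Jᵀ = -J) (u v : Fin k → F) :
    (rk J u v + rk J v u)ᵀ * J = -(J * (rk J u v + rk J v u)) := by
  rw [transpose_add, add_mul, rk_transpose J (ε := (-1 : F)) (by rw [hJT, neg_one_smul]),
    rk_transpose J (ε := (-1 : F)) (by rw [hJT, neg_one_smul]), mul_add]
  module

theorem root_skew (hJT : Jᵀ = -J) (u : Fin k → F) : (rk J u u)ᵀ * J = -(J * rk J u u) := by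
  rw [rk_transpose J (ε := (-1 : F)) (by rw [hJT, neg_one_smul]), neg_one_smul]

theorem root_sq (h2 : (2 : F) ≠ 0) (hJT : Jᵀ = -J) (u : Fin k → F) : rk J u u * rk J u u = 0 := by
  rw [rk_mul_rk, bf_self h2 hJT, zero_smul]

theorem mixed_sq (h2 : (2 : F) ≠ 0) (hJT : Jᵀ = -J) {u v : Fin k → F} (huv : bf J u v = 0) :
    (rk J u v + rk J v u) * (rk J u v + rk J v u) = 0 := by
  have hvu : bf J v u = 0 := by rw [bf_skew hJT, huv, neg_zero]
  simp [add_mul, mul_add, rk_mul_rk, bf_self h2 hJT, huv, hvu]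

end Form

/-- the unit `1 + X` of a square-zero matrix -/
def uni {ν : Type} [Fintype ν] [DecidableEq ν] (X : Matrix ν ν F) (h : X * X = 0) : GL ν F :=
  ⟨1 + X, 1 - X, by rw [mul_sub, mul_one, add_mul, one_mul, h]; abel,
    by rw [sub_mul, one_mul, mul_add, mul_one, h]; abel⟩

theorem inv_val_eq {ν : Type} [Fintype ν] [DecidableEq ν] {g : GL ν F} {X : Matrix ν ν F}
    (hg : (g : Matrix ν ν F) = 1 + X) (h : X * X = 0) : ((g⁻¹ : GL ν F) : Matrix ν ν F) = 1 - X := by
  rw [show g = uni X h from Units.ext hg]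
  rfl

variable {J : Matrix (Fin k) (Fin k) F} {H : Subgroup (GL (Fin t → Fin k) F)}

theorem Root.smul {X : Matrix (Fin t → Fin k) (Fin t → Fin k) F} (h : Root H X) (c : F) : Root H (c • X) :=
  fun s => by rw [smul_smul]; exact h _

theorem Root.neg {X : Matrix (Fin t → Fin k) (Fin t → Fin k) F} (h : Root H X) : Root H (-X) :=
  neg_one_smul F X ▸ h.smul _

theorem Root.zero : Root H (0 : Matrix (Fin t → Fin k) (Fin t → Fin k) F) :=
  fun s => ⟨1, one_mem _, by simp⟩

theorem Root.of_smul {X : Matrix (Fin t → Fin k) (Fin t → Fin k) F} {c : F} (hc : c ≠ 0) (h : Root H (c • X)) :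
    Root H X := by simpa [inv_smul_smul₀ hc] using h.smul c⁻¹

theorem Root.add {X Y : Matrix (Fin t → Fin k) (Fin t → Fin k) F} (hX : Root H X) (hY : Root H Y)
    (h : X * Y = 0) : Root H (X + Y) := fun s => by
  obtain ⟨a, ha, ea⟩ := hX s
  obtain ⟨b, hb, eb⟩ := hY s
  refine ⟨a * b, mul_mem ha hb, ?_⟩
  rw [Units.val_mul, ea, eb, add_mul, one_mul, mul_add, mul_one, smul_mul_assoc, mul_smul_comm, h, smul_zero,
    smul_zero, smul_add]
  abel

theorem Root.conj {X : Matrix (Fin t → Fin k) (Fin t → Fin k) F} (hX : Root H X) {g : GL (Fin t → Fin k) F}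
    (hg : g ∈ H) : Root H ((g : Matrix (Fin t → Fin k) (Fin t → Fin k) F) * X *
      ((g⁻¹ : GL (Fin t → Fin k) F) : Matrix (Fin t → Fin k) (Fin t → Fin k) F)) := fun s => by
  obtain ⟨a, ha, ea⟩ := hX s
  refine ⟨g * a * g⁻¹, mul_mem (mul_mem hg ha) (inv_mem hg), ?_⟩
  rw [Units.val_mul, Units.val_mul, ea, mul_add, add_mul, mul_one, ← Units.val_mul, mul_inv_cancel, Units.val_one,
    mul_smul_comm, smul_mul_assoc]

/-- the commutator of two root elements -/
theorem Root.comm {X Y : Matrix (Fin t → Fin k) (Fin t → Fin k) F} (hX : Root H X) (hY : Root H Y)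
    (hXX : X * X = 0) (hYY : Y * Y = 0) (hXYX : X * Y * X = 0) (hYXY : Y * X * Y = 0) :
    Root H (X * Y - Y * X) := fun s => by
  obtain ⟨a, ha, ea⟩ := hX s
  obtain ⟨b, hb, eb⟩ := hY 1
  rw [one_smul] at eb
  refine ⟨a * b * a⁻¹ * b⁻¹, mul_mem (mul_mem (mul_mem ha hb) (inv_mem ha)) (inv_mem hb), ?_⟩
  rw [Units.val_mul, Units.val_mul, Units.val_mul, ea, eb,
    inv_val_eq ea (by rw [smul_mul_assoc, mul_smul_comm, hXX, smul_zero, smul_zero]), inv_val_eq eb hYY]
  simp only [mul_sub, sub_mul, mul_add, add_mul, one_mul, mul_one, smul_mul_assoc, mul_smul_comm, smul_zero,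
    smul_sub, hXX, hYY, hXYX, hYXY, zero_mul, mul_zero, add_zero, sub_zero, zero_add]
  simp only [mul_assoc, hXX, hYY, mul_zero, smul_zero, zero_add, add_zero, sub_zero]
  module

theorem permU_iso (σ : Equiv.Perm (Fin t)) :
    (Asch.permU (F := F) (m := k) σ : Matrix (Fin t → Fin k) (Fin t → Fin k) F)ᵀ * GV J *
      (Asch.permU (F := F) (m := k) σ : Matrix (Fin t → Fin k) (Fin t → Fin k) F) = GV J := by
  have e1 : (Asch.permM σ : Matrix (Fin t → Fin k) (Fin t → Fin k) F)ᵀ = Asch.permM σ⁻¹ := by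
    ext x y
    simp only [Asch.permM, transpose_apply, Matrix.of_apply]
    refine if_congr ⟨fun h => ?_, fun h => ?_⟩ rfl rfl <;> subst h <;> funext j <;> simp
  show (Asch.permM σ)ᵀ * GV J * Asch.permM σ = GV J
  rw [e1]
  ext x y
  rw [mul_apply, Finset.sum_eq_single (y ∘ ⇑(σ⁻¹ : Equiv.Perm (Fin t))), mul_apply,
    Finset.sum_eq_single (x ∘ ⇑(σ⁻¹ : Equiv.Perm (Fin t)))]
  · have hy : y = (y ∘ ⇑(σ⁻¹ : Equiv.Perm (Fin t))) ∘ ⇑σ := by funext j; simp
    simp only [Asch.permM, Matrix.of_apply, if_pos hy, if_true, one_mul, mul_one, GV, tens_apply]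
    exact (Equiv.prod_comp σ⁻¹ fun j => J (x j) (y j))
  · intro z _ hz
    simp only [Asch.permM, Matrix.of_apply]
    rw [if_neg hz, zero_mul]
  · exact fun h => absurd (Finset.mem_univ _) h
  · intro z _ hz
    simp only [Asch.permM, Matrix.of_apply]
    rw [if_neg, mul_zero]
    rintro rfl
    exact hz (by funext j; simp)
  · exact fun h => absurd (Finset.mem_univ _) h

theorem iso_skew {X : Matrix (Fin t → Fin k) (Fin t → Fin k) F} (hX : Xᵀ * GV J = -(GV J * X)) (hXX : X * X = 0) :
    (1 + X)ᵀ * GV J * (1 + X) = GV J := by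
  rw [transpose_add, transpose_one, add_mul, one_mul, hX, mul_add, mul_one, add_mul, neg_mul, mul_assoc, hXX,
    mul_zero]
  abel

theorem slot_root (hw : ∀ g ∈ tensorWreathStandard k t F, (g : Matrix (Fin t → Fin k) (Fin t → Fin k) F)ᵀ * GV J *
    (g : Matrix (Fin t → Fin k) (Fin t → Fin k) F) = GV J → g ∈ H)
    (i : Fin t) {A : Matrix (Fin k) (Fin k) F} (hA : Aᵀ * J = -(J * A)) (hAA : A * A = 0) :
    Root H (sl i A) := fun s => by
  have hsA : (s • A) * (s • A) = 0 := by rw [smul_mul_assoc, mul_smul_comm, hAA, smul_zero, smul_zero]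
  refine ⟨Asch.pureU (Function.update 1 i (uni (s • A) hsA)), hw _ ?_ ?_, ?_⟩
  · exact Subgroup.subset_closure (Or.inl ⟨_, fun _ _ => rfl⟩)
  all_goals
    have e : (Asch.pureU (Function.update 1 i (uni (s • A) hsA)) :
        Matrix (Fin t → Fin k) (Fin t → Fin k) F) = 1 + s • sl i A := by
      rw [← sl_smul, ← sl_one (β := Fin t) (κ := Fin k) (F := F) i, ← sl_add]
      show tens (fun j => (Function.update (1 : Fin t → GL (Fin k) F) i (uni (s • A) hsA) j :
        Matrix (Fin k) (Fin k) F)) = _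
      rw [sl]
      congr 1
      funext j
      rcases eq_or_ne j i with rfl | hj
      · simp [uni]
      · simp [hj]
  · rw [e]
    refine iso_skew ?_ (by rw [smul_mul_assoc, mul_smul_comm, sl_mul, hAA, sl_zero, smul_zero, smul_zero])
    rw [transpose_smul, smul_mul_assoc, sl_skew hA, mul_smul_comm, smul_neg]
  · exact e

namespace Setting

/-- a group of isometries containing the isometries in the wreath group, for an odd number of slots -/
theorem of_wreath (two : (2 : F) ≠ 0) (skew : Jᵀ = -J) (det : IsUnit J.det) (odd : Odd t) (kpos : 2 ≤ k)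
    (iso : ∀ g ∈ H, (g : Matrix (Fin t → Fin k) (Fin t → Fin k) F)ᵀ * GV J *
      (g : Matrix (Fin t → Fin k) (Fin t → Fin k) F) = GV J)
    (wreath : ∀ g ∈ tensorWreathStandard k t F, (g : Matrix (Fin t → Fin k) (Fin t → Fin k) F)ᵀ * GV J *
      (g : Matrix (Fin t → Fin k) (Fin t → Fin k) F) = GV J → g ∈ H) : Setting J H where
  two := two
  skew := skew
  det := det
  tpos := odd.pos
  kpos := kpos
  iso := iso
  root i u := slot_root wreath i (root_skew skew u) (root_sq two skew u)
  perm σ _ := wreath _ (Subgroup.subset_closure (Or.inr ⟨σ, fun _ _ => rfl⟩)) (permU_iso σ)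

variable (hS : Setting J H)
include hS

theorem mixed (i : Fin t) {u v : Fin k → F} (huv : bf J u v = 0) : Root H (sl i (rk J u v + rk J v u)) := by
  have hvu : bf J v u = 0 := by rw [bf_skew hS.skew, huv, neg_zero]
  have h := ((hS.root i (u + v)).add (hS.root i u).neg ?_).add (hS.root i v).neg ?_
  · refine cast (congrArg (Root H) ?_) h
    rw [rk_add_left, rk_add_right, rk_add_right, sl_add, sl_add, sl_add, sl_add]
    abel
  · rw [mul_neg, sl_mul, rk_mul_rk, bf_add_left, bf_self hS.two hS.skew, hvu, add_zero, zero_smul, sl_zero, neg_zero]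
  · rw [mul_neg, add_mul, neg_mul, sl_mul, sl_mul, rk_mul_rk, rk_mul_rk, bf_add_left, bf_self hS.two hS.skew, huv,
      add_zero, zero_smul, zero_smul, sl_zero, neg_zero, add_zero, neg_zero]

end Setting

end Cfsg.Agent.ClassicalMax.SpWreath
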