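import Cfsg.Agent.ClassicalMax.OTensor.Words
import Cfsg.Agent.ClassicalMax.SpTensor.Criterion

/-!
Words for a non-scalar operator over a field of odd order at least five whose upper corner has a non-scalar square.
-/

set_option autoImplicit false
set_option linter.unusedSectionVars false
set_option linter.style.haveILetI false

namespace Cfsg.Agent.ClassicalMax.SpWreath

open Matrix Polynomial Module
open Cfsg.Agent.RootSub.Dickson
open Cfsg.Agent.ClassicalMax.OTensor
open scoped MatrixGroups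

variable {F : Type*} [Field F] [Finite F]

/-- an upper triangular element whose square is outside the ground field when the generator is -/
theorem exists_torus_sq {K : Type*} [Field K] [Algebra F K] [FiniteDimensional F K] (h2 : (2 : F) ≠ 0)
    (h5 : 5 ≤ Nat.card F) {μ : K} (hμ0 : μ ≠ 0) (hgen : Algebra.adjoin F ({μ} : Set K) = ⊤) :
    ∃ g ∈ dicksonGroup F μ, g 1 0 = 0 ∧ g 0 0 ^ 2 ≠ 1 ∧
      ((∀ κ : F, algebraMap F K κ ≠ μ) → ∀ κ : F, g 0 0 ^ 2 ≠ algebraMap F K κ) := by
  haveI : Finite K := Module.finite_of_finite F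
  have htop := dicksonGroup_eq_top h2 (by omega) hμ0 hgen
  have h2K : (2 : K) ≠ 0 := by rw [← map_ofNat (algebraMap F K) 2]; simpa using h2
  suffices ∃ ν : K, ν ≠ 0 ∧ ν ^ 2 ≠ 1 ∧ ((∀ κ : F, algebraMap F K κ ≠ μ) → ∀ κ : F, ν ^ 2 ≠ algebraMap F K κ) by
    obtain ⟨ν, h0, h1, h3⟩ := this
    exact ⟨⟨!![ν, 0; 0, ν⁻¹], by simp [Matrix.det_fin_two, h0]⟩, htop ▸ Subgroup.mem_top _, rfl, h1, h3⟩
  by_cases hμ : ∀ κ : F, algebraMap F K κ ≠ μ
  · by_cases hs : ∀ κ : F, μ ^ 2 ≠ algebraMap F K κ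
    · exact ⟨μ, hμ0, fun e => hs 1 (by rw [e, map_one]), fun _ => hs⟩
    push Not at hs
    obtain ⟨κ, hκ⟩ := hs
    have hne : ∀ κ' : F, (μ + 1) ^ 2 ≠ algebraMap F K κ' := fun κ' e => hμ ((κ' - κ - 1) / 2) (by
      rw [map_div₀, map_sub, map_sub, map_one, map_ofNat, ← e, ← hκ]
      field_simp
      ring)
    exact ⟨μ + 1, fun e => hne 0 (by rw [e, map_zero, zero_pow two_ne_zero]), fun e => hne 1 (by rw [e, map_one]),
      fun _ => hne⟩
  obtain ⟨l, hl0, hl1, hl2⟩ := SpTensor.exists_scale (F := F) h5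
  refine ⟨algebraMap F K l, (_root_.map_ne_zero _).2 hl0, fun e => ?_, fun h => absurd h hμ⟩
  rw [← map_pow, ← map_one (algebraMap F K)] at e
  rcases eq_or_eq_neg_of_sq_eq_sq l 1 (by rw [(algebraMap F K).injective e, one_pow]) with h | h
  · exact hl1 h
  · exact hl2 h

/-- a word congruent to one at zero with square of the upper corner moved modulo an irreducible polynomial -/
theorem exists_split_sq (h2 : (2 : F) ≠ 0) (h5 : 5 ≤ Nat.card F) {f : F[X]} (hf : Irreducible f) (hf0 : ¬ X ∣ f)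
    (n : ℕ) :
    ∃ M ∈ wordGroup F, X ^ n ∣ M 1 0 ∧ X ^ n ∣ M 0 0 - 1 ∧ f ∣ M 1 0 ∧ ¬ f ∣ M 0 0 ^ 2 - 1 ∧
      ((∀ κ : F, ¬ f ∣ X - C κ) → ∀ κ : F, ¬ f ∣ M 0 0 ^ 2 - C κ) := by
  classical
  haveI : Fact (Irreducible f) := ⟨hf⟩
  haveI : FiniteDimensional F (AdjoinRoot f) := (AdjoinRoot.powerBasis hf.ne_zero).finite
  have hroot : AdjoinRoot.root f ≠ 0 := fun h => by
    rw [← AdjoinRoot.mk_X, AdjoinRoot.mk_eq_zero] at h
    exact hf0 (hf.associated_of_dvd irreducible_X h).symm.dvd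
  obtain ⟨g, hg, hg0, hg1, hg2⟩ := exists_torus_sq h2 h5 hroot AdjoinRoot.adjoinRoot_eq_top
  obtain ⟨M₀, hM₀, hMg⟩ := Cfsg.Agent.RootSub.Dickson.exists_word F hg
  obtain ⟨p, hp⟩ := CharP.exists F
  haveI : Fact p.Prime := ⟨CharP.char_is_prime F p⟩
  haveI : CharP (AdjoinRoot f) p := charP_of_injective_algebraMap (algebraMap F (AdjoinRoot f)).injective p
  haveI : ExpChar (AdjoinRoot f) p := ExpChar.prime Fact.out
  haveI : ExpChar F p := ExpChar.prime Fact.out
  set k := 2 * n + 1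
  have hP : 2 * n ≤ p ^ k := by
    have h1 := Nat.lt_pow_self (n := k) (Nat.Prime.one_lt (Fact.out : p.Prime))
    omega
  refine ⟨M₀ ^ (p ^ k), pow_mem hM₀ _, ?_⟩
  obtain ⟨h10, h00, h11⟩ := word_shape hM₀
  set A : Matrix (Fin 2) (Fin 2) F[X] := (M₀ : Matrix (Fin 2) (Fin 2) F[X]) with hA
  have hsq : ∃ N : Matrix (Fin 2) (Fin 2) F[X], (A - 1) * (A - 1) = (X : F[X]) • N := by
    obtain ⟨a, ha⟩ := h00
    obtain ⟨c, hc⟩ := h10
    obtain ⟨d, hd⟩ := h11
    refine ⟨!![X * a * a + M₀ 0 1 * c, M₀ 0 1 * (a + d); X * c * (a + d), M₀ 0 1 * c + X * d * d], ?_⟩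
    refine Matrix.ext fun i j => ?_
    fin_cases i <;> fin_cases j <;>
      simp [Matrix.mul_apply, Fin.sum_univ_two] <;> simp only [ha, hc, hd] <;> ring
  obtain ⟨N, hN⟩ := hsq
  haveI : CharP (Matrix (Fin 2) (Fin 2) F[X]) p := inferInstance
  haveI : ExpChar (Matrix (Fin 2) (Fin 2) F[X]) p := ExpChar.prime Fact.out
  have hpow : A ^ p ^ k - 1 = (X ^ n : F[X]) • (N ^ n * (A - 1) ^ (p ^ k - 2 * n)) := by
    have h1 := sub_pow_expChar_pow_of_commute (p := p) (n := k) (Commute.one_right A)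
    rw [one_pow] at h1
    rw [← h1, ← smul_mul_assoc, ← _root_.smul_pow, ← hN, ← pow_two, ← pow_mul, ← pow_add, Nat.add_sub_cancel' hP]
  have hcoe : ((M₀ ^ (p ^ k) : SL(2, F[X])) : Matrix (Fin 2) (Fin 2) F[X]) = A ^ p ^ k :=
    Matrix.SpecialLinearGroup.coe_pow _ _
  have hXd : ∀ i j, X ^ n ∣ (A ^ p ^ k - 1) i j := fun i j => by
    rw [hpow, Matrix.smul_apply, smul_eq_mul]; exact dvd_mul_right _ _
  have hgP : ∀ m : ℕ, (g ^ m) 1 0 = 0 ∧ (g ^ m) 0 0 = (g 0 0) ^ m := fun m => by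
    induction m with
    | zero => simp
    | succ m ih =>
      obtain ⟨i1, i2⟩ := ih
      constructor <;>
        rw [pow_succ, Matrix.SpecialLinearGroup.coe_mul, Matrix.mul_apply, Fin.sum_univ_two, hg0]
      · simp [i1]
      · simp [i2, pow_succ]
  have hvalP : ∀ i j, AdjoinRoot.mk f ((M₀ ^ p ^ k) i j) = (g ^ p ^ k) i j := fun i j => by
    rw [← hMg, ← map_pow, Matrix.SpecialLinearGroup.map_apply_coe, RingHom.mapMatrix_apply, Matrix.map_apply]
    simp [Matrix.SpecialLinearGroup.map_apply_coe, RingHom.mapMatrix_apply, AdjoinRoot.aeval_eq]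
  have hinj : Function.Injective fun x : AdjoinRoot f => x ^ p ^ k := by
    have := iterateFrobenius_inj (AdjoinRoot f) p k
    simpa [iterateFrobenius_def, Function.Injective] using this
  refine ⟨?_, ?_, AdjoinRoot.mk_eq_zero.1 ((hvalP 1 0).trans (hgP _).1), fun h => ?_, fun hlin κ h => ?_⟩
  · simpa [hcoe] using hXd 1 0
  · simpa [hcoe] using hXd 0 0
  · have h1 := AdjoinRoot.mk_eq_zero.2 h
    rw [map_sub, map_one, map_pow, hvalP, (hgP _).2, sub_eq_zero, ← pow_mul, mul_comm, pow_mul] at h1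
    exact hg1 (hinj (h1.trans (one_pow _).symm))
  · obtain ⟨κ', rfl⟩ : ∃ κ', κ' ^ p ^ k = κ := by
      haveI := Fintype.ofFinite F
      obtain ⟨x, hx⟩ := (Finite.injective_iff_surjective.1 (iterateFrobenius_inj F p k)) κ
      exact ⟨x, by simpa [iterateFrobenius_def] using hx⟩
    have h1 := AdjoinRoot.mk_eq_zero.2 h
    rw [map_sub, map_pow, hvalP, (hgP _).2, sub_eq_zero, ← pow_mul, mul_comm, pow_mul, AdjoinRoot.mk_C,
      ← AdjoinRoot.algebraMap_eq, map_pow] at h1
    refine hg2 (fun c e => hlin c (AdjoinRoot.mk_eq_zero.1 ?_)) κ' (hinj h1)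
    rw [map_sub, AdjoinRoot.mk_X, AdjoinRoot.mk_C, ← AdjoinRoot.algebraMap_eq, e, sub_self]

variable {L : Type*} [AddCommGroup L] [Module F L] [FiniteDimensional F L]

omit [Finite F] in
theorem upper_sq [Nontrivial L] (h2 : (2 : F) ≠ 0) (K : Module.End F L) (M : SL(2, F[X]))
    (h0 : aeval K (M 1 0) ≠ 0) (h1 : aeval K (M 1 0) ^ 2 = 0) :
    ∀ κ : F, aeval K ((M * upR (C 1) * M⁻¹ : SL(2, F[X])) 0 0) ^ 2 ≠ algebraMap F (Module.End F L) κ := by
  intro κ e
  have hd := det2 M
  have e1 : (M * upR (C 1) * M⁻¹ : SL(2, F[X])) 0 0 = 1 - M 0 0 * M 1 0 := by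
    simp [coe_upR, Matrix.SpecialLinearGroup.coe_mul, Matrix.SpecialLinearGroup.coe_inv, Matrix.adjugate_fin_two,
      Matrix.mul_apply, Fin.sum_univ_two]
    linear_combination hd
  have hs := upper_nonscalar K M h0 h1
  rw [e1] at e hs
  have hz : aeval K ((M 0 0 * M 1 0) ^ 2) = 0 := by rw [mul_pow, map_mul, map_pow (aeval K) (M 1 0), h1, mul_zero]
  have e2 : aeval K ((1 - M 0 0 * M 1 0) ^ 2) = aeval K (1 - C 2 * (M 0 0 * M 1 0)) := by
    rw [show (1 - M 0 0 * M 1 0) ^ 2 = 1 - C 2 * (M 0 0 * M 1 0) + (M 0 0 * M 1 0) ^ 2 by rw [C_ofNat]; ring,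
      map_add, hz, add_zero]
  rw [← map_pow, e2, map_sub, map_one, map_mul, aeval_C] at e
  refine hs ((1 + κ) / 2) ?_
  rw [map_sub, map_one]
  refine LinearMap.ext fun z => ?_
  have e' := LinearMap.congr_fun e z
  simp only [LinearMap.sub_apply, Module.End.one_apply, Module.End.mul_apply, Module.algebraMap_end_apply] at e' ⊢
  have h3 : (2 : F) • (aeval K (M 0 0 * M 1 0)) z = z - κ • z := by rw [← e']; module
  rw [show (aeval K (M 0 0 * M 1 0)) z = (2 : F)⁻¹ • (z - κ • z) by rw [← h3, inv_smul_smul₀ h2]]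
  match_scalars
  field_simp
  ring

/-- a word for an operator that is not scalar -/
theorem exists_good_sq (h2 : (2 : F) ≠ 0) (h5 : 5 ≤ Nat.card F) (K : Module.End F L)
    (hK : ∀ κ : F, K ≠ algebraMap F (Module.End F L) κ) :
    ∃ M ∈ wordGroup F, (Exact K M ∧ ∀ κ : F, aeval K (M 0 0) ^ 2 ≠ algebraMap F (Module.End F L) κ) ∨
      ((∀ κ : F, -aeval K (M 1 0) ^ 2 ≠ algebraMap F (Module.End F L) κ) ∧
        finrank F (LinearMap.range ((-aeval K (M 1 0) ^ 2) ^ finrank F L)) <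
          finrank F (LinearMap.range (K ^ finrank F L))) := by
  classical
  haveI : Nontrivial L := by
    by_contra h
    haveI := not_nontrivial_iff_subsingleton.1 h
    exact hK 0 (Subsingleton.elim _ _)
  set N := finrank F L with hNd
  have hnon : ∀ (f : Module.End F L) (z : L), z ≠ 0 → f z = 0 → f ≠ 0 →
      ∀ κ : F, f ≠ algebraMap F (Module.End F L) κ := fun f z hz hfz hf κ e => by
    have h1 := LinearMap.congr_fun e z
    rw [hfz, Module.algebraMap_end_apply, eq_comm, smul_eq_zero] at h1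
    exact hf (by rw [e, h1.resolve_right hz, map_zero])
  have hint : IsIntegral F K := Algebra.IsIntegral.isIntegral K
  have hkerf : ∀ f : F[X], Irreducible f → f ∣ minpoly F K → ∃ p : L, p ≠ 0 ∧ aeval K f p = 0 := fun f hf hfg => by
    obtain ⟨q, hq⟩ := hfg
    have hq0 : q ≠ 0 := fun h => minpoly.ne_zero hint (by rw [hq, h, mul_zero])
    have hne : aeval K q ≠ 0 := fun h => by
      have h1 := Polynomial.natDegree_le_of_dvd (minpoly.dvd F K h) hq0
      rw [hq, Polynomial.natDegree_mul hf.ne_zero hq0] at h1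
      have := hf.natDegree_pos
      omega
    obtain ⟨y, hy⟩ : ∃ y, aeval K q y ≠ 0 := by
      by_contra h
      push Not at h
      exact hne (LinearMap.ext h)
    refine ⟨aeval K q y, hy, ?_⟩
    rw [← Module.End.mul_apply, ← map_mul, ← hq, minpoly.aeval, LinearMap.zero_apply]
  by_cases hinj : Function.Injective K
  · have hleft : ∀ M ∈ wordGroup F, aeval K (M 1 0) ≠ 0 → ∀ p : L, p ≠ 0 → aeval K (M 1 0) p = 0 →
        ∃ M ∈ wordGroup F, (Exact K M ∧ ∀ κ : F, aeval K (M 0 0) ^ 2 ≠ algebraMap F (Module.End F L) κ) ∨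
          ((∀ κ : F, -aeval K (M 1 0) ^ 2 ≠ algebraMap F (Module.End F L) κ) ∧
            finrank F (LinearMap.range ((-aeval K (M 1 0) ^ 2) ^ finrank F L)) <
              finrank F (LinearMap.range (K ^ finrank F L))) := fun M hM hc0 p hp hcp => by
      by_cases hsq : aeval K (M 1 0) ^ 2 = 0
      · exact ⟨_, mul_mem (mul_mem hM (upR_word 1)) (inv_mem hM),
          Or.inl ⟨Or.inl ⟨hinj, by rw [lower_conj, map_neg, map_pow, hsq, neg_zero]⟩, upper_sq h2 K M hc0 hsq⟩⟩
      have hKp : (-aeval K (M 1 0) ^ 2) p = 0 := by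
        rw [LinearMap.neg_apply, pow_two, Module.End.mul_apply, hcp, map_zero, neg_zero]
      refine ⟨M, hM, Or.inr ⟨hnon _ p hp hKp (neg_ne_zero.2 hsq), ?_⟩⟩
      have hN0 : 0 < N := Module.finrank_pos
      have htop : LinearMap.range (K ^ N) = ⊤ := LinearMap.range_eq_top.2
        (LinearMap.injective_iff_surjective.1 (by rw [Module.End.coe_pow]; exact hinj.iterate N))
      rw [htop, finrank_top]
      refine Submodule.finrank_lt fun e => hp ?_
      have hs := LinearMap.injective_iff_surjective.2 (LinearMap.range_eq_top.1 e)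
      refine hs ?_
      rw [map_zero, show finrank F L = N - 1 + 1 by omega, pow_succ, Module.End.mul_apply, hKp, map_zero]
    by_cases he : ∃ (μ : F) (p : L), p ≠ 0 ∧ K p = μ • p
    · obtain ⟨μ, p, hp, hpμ⟩ := he
      have hμ0 : μ ≠ 0 := fun h => hp (hinj (by rw [hpμ, h, zero_smul, map_zero]))
      obtain ⟨c, hc0, hc⟩ : ∃ c : F, c ≠ 0 ∧ c ≠ -μ := by
        by_cases h : (1 : F) = -μ
        · exact ⟨-1, neg_ne_zero.2 one_ne_zero, fun e => h2 (by linear_combination h - e)⟩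
        · exact ⟨1, one_ne_zero, h⟩
      have hd0 : -μ - c ≠ 0 := fun h => hc (by linear_combination -h)
      set a := c⁻¹
      set b := (-μ - c)⁻¹
      set w : SL(2, F[X]) := lowR (C b * X) * upR (C (1 : F)) * lowR (C a * X)
      have hab : a + b = a * b * (-μ) := by
        simp only [a, b]
        field_simp
        ring
      have hM : w 1 0 = C (a * b) * (X * (X - C μ)) := by
        have hab' : C a + C b = C a * C b * (-C μ) := by rw [← C_add, hab, C_mul, C_mul, C_neg]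
        simp [w, coe_upR, coe_lowR, Matrix.SpecialLinearGroup.coe_mul, Matrix.mul_apply, Fin.sum_univ_two]
        linear_combination (X : F[X]) * hab'
      have hev : ∀ z, aeval K (w 1 0) z = (a * b) • K (K z - μ • z) := fun z => by
        rw [hM, map_mul (aeval K), map_mul (aeval K), aeval_C, map_sub, aeval_X, aeval_C, Module.End.mul_apply,
          Module.End.mul_apply, LinearMap.sub_apply, Module.algebraMap_end_apply, Module.algebraMap_end_apply]
      refine hleft w (mul_mem (mul_mem (lowR_mem F _ _) (upR_mem F _ _)) (lowR_mem F _ _))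
        (fun h0 => hK μ (LinearMap.ext fun z => ?_)) p hp (by rw [hev, hpμ, sub_self, map_zero, smul_zero])
      have := hev z
      rw [h0, LinearMap.zero_apply, eq_comm, smul_eq_zero] at this
      rw [Module.algebraMap_end_apply]
      rcases this with h | h
      · exact absurd h (mul_ne_zero (inv_ne_zero hc0) (inv_ne_zero hd0))
      · exact sub_eq_zero.1 (hinj (h.trans (map_zero K).symm))
    obtain ⟨f, hf, hfdvd⟩ := WfDvdMonoid.exists_irreducible_factor (minpoly.not_isUnit F K) (minpoly.ne_zero hint)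
    obtain ⟨p, hp, hpf⟩ := hkerf f hf hfdvd
    have hlin : ∀ κ : F, ¬ f ∣ X - C κ := fun κ ⟨r, hr⟩ => he ⟨κ, p, hp, by
      have h2' := congrArg (fun q => aeval K q p) hr
      simp only [mul_comm f r, map_mul, Module.End.mul_apply, hpf, map_zero, map_sub, aeval_X, aeval_C,
        LinearMap.sub_apply, Module.algebraMap_end_apply, sub_eq_zero] at h2'
      exact h2'⟩
    obtain ⟨M, hM, -, -, hfc, -, hfa⟩ := exists_split_sq h2 h5 hf (fun h => hlin 0 (by
      rw [map_zero, sub_zero]; exact (hf.associated_of_dvd irreducible_X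
        ((irreducible_X.associated_of_dvd hf h).symm.dvd)).dvd)) 1
    by_cases hc0 : aeval K (M 1 0) = 0
    · refine ⟨M, hM, Or.inl ⟨Or.inl ⟨hinj, hc0⟩, fun κ e => hfa hlin κ (hfdvd.trans (minpoly.dvd F K ?_))⟩⟩
      rw [map_sub, map_pow, e, aeval_C, sub_self]
    · obtain ⟨q, hq⟩ := hfc
      exact hleft M hM hc0 p hp (by rw [hq, mul_comm, map_mul, Module.End.mul_apply, hpf, map_zero])
  obtain ⟨z, hz0, hz⟩ : ∃ z, z ≠ 0 ∧ K z = 0 := by
    by_contra! h
    exact hinj ((injective_iff_map_eq_zero K).2 fun z hz => by_contra fun h0 => h z h0 hz)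
  have hzX : ∀ s : F[X], aeval K (X * s) z = 0 := fun s => by
    rw [mul_comm, map_mul, Module.End.mul_apply, aeval_X, hz, map_zero]
  by_cases hnil : K ^ N = 0
  · -- nilpotent
    obtain ⟨M, hM, ⟨r, hr⟩, ⟨w, hw⟩⟩ := exists_nil_word h2 N
    refine ⟨M, hM, Or.inl ⟨Or.inr ⟨X ^ N * r, by rw [hr, pow_add]; ring, by
      rw [map_mul, map_pow, aeval_X, hnil, zero_mul]⟩, fun κ e => ?_⟩⟩
    have hnK : IsNilpotent (aeval K (X : F[X])) := ⟨N, by rw [aeval_X, hnil]⟩
    have hn1 : ∀ s : F[X], IsNilpotent (aeval K (X * s)) := fun s => by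
      rw [map_mul]
      exact Commute.isNilpotent_mul_right (by show _ = _; rw [← map_mul, ← map_mul, mul_comm]) hnK
    set u : F[X] := (1 + X * w) * (C 2 + X * (1 + X * w)) with hu
    have hM2 : M 0 0 ^ 2 = 1 + X * u := by
      rw [hu, show M 0 0 = 1 + (X * (1 + X * w)) by linear_combination hw, C_ofNat]; ring
    rw [← map_pow, hM2, map_add, map_one] at e
    have e' : aeval K (X * u) = algebraMap F (Module.End F L) (κ - 1) := by
      rw [map_sub, map_one, ← e]; abel
    have hκ : κ - 1 = 0 := nilpotent_scalar (by rw [← e']; exact hn1 u)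
    rw [hκ, map_zero, map_mul, aeval_X] at e'
    have hu1 : IsUnit (aeval K u) := by
      rw [hu, map_mul, map_add, map_one, map_add, aeval_C]
      refine IsUnit.mul (hn1 w).isUnit_one_add ?_
      exact (hn1 (1 + X * w)).isUnit_add_left_of_commute (RingHom.isUnit_map _ (Ne.isUnit h2))
        (Algebra.commutes _ _).symm
    refine hK 0 ?_
    rw [map_zero]
    exact hu1.mul_left_injective (e'.trans (zero_mul _).symm)
  -- a factor away from zero
  obtain ⟨g, hg, hgX⟩ := exists_eq_pow_rootMultiplicity_mul_and_not_dvd (minpoly F K) (minpoly.ne_zero hint) 0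
  rw [map_zero, sub_zero] at hg hgX
  set l := rootMultiplicity 0 (minpoly F K)
  have hgu : ¬ IsUnit g := fun hu => hnil (LinearMap.ext fun x => ker_pow_stable K le_rfl (l := l) (by
    obtain ⟨u, hu⟩ := hu
    have h1 : aeval K (minpoly F K * ((u⁻¹ : F[X]ˣ) : F[X])) = 0 := by rw [map_mul, minpoly.aeval, zero_mul]
    rw [hg, mul_assoc, ← hu, Units.mul_inv, mul_one, map_pow, aeval_X] at h1
    rw [h1, LinearMap.zero_apply]))
  have hg0 : g ≠ 0 := fun h => minpoly.ne_zero hint (by rw [hg, h, mul_zero])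
  obtain ⟨f, hf, hfg⟩ := WfDvdMonoid.exists_irreducible_factor hgu hg0
  have hf0 : ¬ X ∣ f := fun h => hgX (h.trans hfg)
  obtain ⟨p, hp, hpf⟩ := hkerf f hf (hfg.trans (Dvd.intro_left _ hg.symm))
  have hpE : p ∈ LinearMap.range (K ^ N) := by
    have hcop : IsCoprime f ((X : F[X]) ^ N) := (hf.coprime_iff_not_dvd.2 fun h =>
      hf0 (hf.associated_of_dvd irreducible_X (hf.prime.dvd_of_dvd_pow (show f ∣ X ^ N from h))).symm.dvd)
    obtain ⟨u, v, huv⟩ := hcop
    refine ⟨aeval K v p, ?_⟩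
    have := congrArg (fun q => aeval K q p) huv
    simp only [map_add, map_mul, LinearMap.add_apply, Module.End.mul_apply, hpf, map_zero, zero_add, map_one,
      Module.End.one_apply, map_pow, aeval_X] at this
    rw [← Module.End.mul_apply] at this ⊢
    rw [show K ^ N * aeval K v = aeval K (v * X ^ N) by rw [mul_comm v, map_mul, map_pow, aeval_X]]
    rw [map_mul, map_pow, aeval_X]
    exact this
  obtain ⟨M, hM, ⟨s, hs⟩, ⟨t, ht⟩, hfc, hfa, -⟩ := exists_split_sq h2 h5 hf hf0 (N + 2)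
  have hcp : aeval K (M 1 0) p = 0 := by
    obtain ⟨q, hq⟩ := hfc
    rw [hq, mul_comm, map_mul, Module.End.mul_apply, hpf, map_zero]
  by_cases hc0 : aeval K (M 1 0) = 0
  · refine ⟨M, hM, Or.inl ⟨Or.inr ⟨X ^ N * s, by rw [hs, pow_add]; ring,
      aeval_stable K le_rfl s (l := N + 2) (by rw [← hs]; exact hc0)⟩, fun κ e => ?_⟩⟩
    have h1 := LinearMap.congr_fun e z
    have haz : aeval K (M 0 0) z = z := by
      rw [show M 0 0 = 1 + X * (X ^ (N + 1) * t) by linear_combination ht, map_add, map_one, LinearMap.add_apply,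
        hzX, add_zero, Module.End.one_apply]
    rw [pow_two, Module.End.mul_apply, haz, haz, Module.algebraMap_end_apply] at h1
    have hκ : κ = 1 := (smul_left_injective F hz0 (show (1 : F) • z = κ • z by rwa [one_smul])).symm
    subst hκ
    have h3 : aeval K (M 0 0 ^ 2 - 1) p = 0 := by
      rw [map_sub, map_pow, e, map_one, map_one, sub_self, LinearMap.zero_apply]
    obtain ⟨u, v, huv⟩ := hf.coprime_iff_not_dvd.2 hfa
    have := congrArg (fun q => aeval K q p) huv
    simp only [map_add, map_mul, LinearMap.add_apply, Module.End.mul_apply, hpf, h3, map_zero, zero_add, map_one,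
      Module.End.one_apply] at this
    exact hp this.symm
  by_cases hsq : aeval K (M 1 0) ^ 2 = 0
  · refine ⟨_, mul_mem (mul_mem hM (upR_word 1)) (inv_mem hM), Or.inl ⟨Or.inr ⟨X ^ N * (-(X ^ (N + 2) * s ^ 2)),
      by rw [lower_conj, hs]; ring, ?_⟩, upper_sq h2 K M hc0 hsq⟩⟩
    refine aeval_stable K le_rfl _ (l := N + 2) ?_
    rw [show (X : F[X]) ^ (N + 2) * (-(X ^ (N + 2) * s ^ 2)) = -(M 1 0) ^ 2 by rw [hs]; ring, map_neg, map_pow, hsq,
      neg_zero]
  have hKz : (-aeval K (M 1 0) ^ 2) z = 0 := by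
    rw [LinearMap.neg_apply, pow_two, Module.End.mul_apply, hs, show N + 2 = N + 1 + 1 from rfl, pow_succ',
      mul_assoc, hzX, map_zero, neg_zero]
  refine ⟨M, hM, Or.inr ⟨hnon _ z hz0 hKz (neg_ne_zero.2 hsq), ?_⟩⟩
  rw [hs] at hcp ⊢
  exact rank_drop K (l := N + 1) hp hpE hcp

end Cfsg.Agent.ClassicalMax.SpWreath
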