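import Cfsg.Agent.ClassicalMax.SpWreath.Struct
import Cfsg.Agent.ClassicalMax.SpWreath.Words
import Cfsg.Agent.ClassicalMax.LWreath.Rep

/-!
Either every contraction of a moved root element is scalar or the group has a root element `Q ⊗ c` with `c` not scalar.
-/

set_option autoImplicit false
set_option linter.unusedSectionVars false

namespace Cfsg.Agent.ClassicalMax.SpWreath

open Matrix Polynomial Cfsg.Geo Cfsg.Agent.Classical Cfsg.Agent.ClassicalMax Cfsg.Agent.ClassicalMax.TPow
open scoped MatrixGroups Polynomial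

variable {F : Type*} [Field F] [Finite F] {k t : ℕ} {J : Matrix (Fin k) (Fin k) F}
  {H : Subgroup (GL (Fin t → Fin k) F)}

/-- one chosen slot -/
abbrev at1 (i : Fin t) : Fin 1 → Fin t := fun _ => i

theorem at1_inj (i : Fin t) : Function.Injective (at1 i) := fun _ _ _ => Subsingleton.elim _ _

/-- a vector as a tensor on one slot -/
def fu (u : Fin k → F) : (Fin 1 → Fin k) → F := fun x => u (x 0)

theorem bf_fu (J : Matrix (Fin k) (Fin k) F) (u v : Fin k → F) :
    bf (GV J (β := Fin 1)) (fu u) (fu v) = bf J u v := by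
  simp only [bf, dotProduct, mulVec, fu, GV, tens_apply, Fin.prod_univ_one]
  rw [← Equiv.sum_comp (Equiv.funUnique (Fin 1) (Fin k)).symm]
  refine Finset.sum_congr rfl fun a _ => ?_
  rw [← Equiv.sum_comp (Equiv.funUnique (Fin 1) (Fin k)).symm]
  rfl

theorem fu_ne {u : Fin k → F} (hu : u ≠ 0) : fu u ≠ 0 := fun h => hu (funext fun a => congrFun h fun _ => a)

theorem rk_fu (J : Matrix (Fin k) (Fin k) F) (u v : Fin k → F) :
    rk (GV J (β := Fin 1)) (fu u) (fu v) = sl (0 : Fin 1) (rk J u v) := by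
  ext x y
  simp only [rk, vecMulVec_apply, vecMul, dotProduct, fu, GV, tens_apply, Fin.prod_univ_one, sl_apply]
  rw [← Equiv.sum_comp (Equiv.funUnique (Fin 1) (Fin k)).symm,
    if_pos fun j hj => absurd (Subsingleton.elim j 0) hj]
  rfl

theorem emb_sl0 (i : Fin t) (A : Matrix (Fin k) (Fin k) F) : emb (at1_inj i) (sl (0 : Fin 1) A) 1 = sl i A := by
  rw [sl, sl, ← emb_tens (at1_inj i) (Function.update 1 i A)]
  congr 1
  · congr 1
    funext a
    rw [Subsingleton.elim a 0]
    simp
  · rw [← tens_one]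
    congr 1
    funext j
    rw [Function.update_of_ne fun h => j.2 0 h.symm]
    rfl

variable (J) in
/-- a slot inclusion -/
noncomputable def inS (i : Fin t) (u : Fin k → F) : Matrix (Fin t → Fin k) (Rest (at1 i) → Fin k) F :=
  inM (at1_inj i) (fu u)

variable (J) in
/-- a slot contraction -/
noncomputable def outS (i : Fin t) (u : Fin k → F) : Matrix (Rest (at1 i) → Fin k) (Fin t → Fin k) F :=
  outM (at1_inj i) (GV J) (fu u)

theorem inS_outS (i : Fin t) (u v : Fin k → F) : inS i u * outS J i v = sl i (rk J u v) := by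
  rw [← Matrix.mul_one (inS i u), inS, outS, inM_mul_outM, rk_fu, emb_sl0]

theorem outS_inS (i : Fin t) (u v : Fin k → F) :
    outS J i v * inS i u = bf J v u • (1 : Matrix (Rest (at1 i) → Fin k) (Rest (at1 i) → Fin k) F) := by
  rw [inS, outS, outM_mul_inM, bf_fu]

theorem outS_add (i : Fin t) (u v : Fin k → F) : outS J i (u + v) = outS J i u + outS J i v := by
  ext y x
  simp only [outS, outM, fu, Matrix.of_apply, Matrix.add_apply]
  split_ifs
  · rw [← Pi.add_apply (vecMul _ _) (vecMul _ _), ← add_vecMul]; rfl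
  · rw [add_zero]

theorem split_symm_at1 (i : Fin t) (a : Fin 1 → Fin k) (x : Fin t → Fin k) :
    (split (at1_inj i)).symm (a, (split (at1_inj i) x).2) = Function.update x i (a 0) := by
  apply (split (at1_inj i)).injective
  rw [Equiv.apply_symm_apply]
  refine Prod.ext (funext fun b => ?_) (funext fun j => ?_)
  · show a b = Function.update x i (a 0) i
    rw [Function.update_self, Subsingleton.elim b 0]
  · exact (Function.update_of_ne (fun h => j.2 0 h.symm) _ _).symm

theorem outS_mul_inS_apply (i : Fin t) (u : Fin k → F) (Y : Matrix (Fin t → Fin k) (Fin t → Fin k) F)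
    (x x' : Fin t → Fin k) :
    (outS J i u * Y * inS i u) (split (at1_inj i) x).2 (split (at1_inj i) x').2 = bf J u (slice Y i x x' *ᵥ u) := by
  rw [inS, outS, mul_inM_apply]
  simp only [outM_mul_apply, split_symm_at1, Finset.sum_mul]
  rw [bf, dotProduct_mulVec, dotProduct_mulVec, dotProduct, ← Equiv.sum_comp (Equiv.funUnique (Fin 1) (Fin k)).symm]
  refine Finset.sum_congr rfl fun b _ => ?_
  simp only [vecMul, dotProduct, Finset.sum_mul, fu, GV, tens_apply, Fin.prod_univ_one, slice, Matrix.of_apply]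
  rw [← Equiv.sum_comp (Equiv.funUnique (Fin 1) (Fin k)).symm]
  refine Finset.sum_congr rfl fun a _ => ?_
  rw [← Equiv.sum_comp (Equiv.funUnique (Fin 1) (Fin k)).symm]
  rfl

/-- the form on the other slots -/
abbrev GR (J : Matrix (Fin k) (Fin k) F) (i : Fin t) :
    Matrix (Rest (at1 i) → Fin k) (Rest (at1 i) → Fin k) F := GV J

theorem GR_transpose (hJT : Jᵀ = -J) (i : Fin t) :
    (GR J i)ᵀ = (-1 : F) ^ (t - 1) • GV J := by
  rw [GV_transpose hJT]
  have hc : Fintype.card (Rest (at1 i)) = t - 1 := by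
    refine (@Fintype.card_of_subtype _ _ (Finset.univ.erase i) (fun j => ?_) (instFintypeRest (at1 i))).trans ?_
    · simp [at1, eq_comm]
    · rw [Finset.card_erase_of_mem (Finset.mem_univ i), Finset.card_univ, Fintype.card_fin]
  rw [hc]

theorem GV_emb (i : Fin t) : emb (at1_inj i) (GV J (β := Fin 1)) (GR J i) = GV J (β := Fin t) :=
  emb_tens (at1_inj i) fun _ => J

theorem inS_transpose (i : Fin t) (u : Fin k → F) :
    (inS i u)ᵀ * GV J (β := Fin t) = GR J i * outS J i u := by
  rw [← GV_emb i, inS, inM_transpose_mul]; rfl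

theorem permU_one : Asch.permU (F := F) (m := k) (1 : Equiv.Perm (Fin t)) = 1 := by
  refine Units.ext (Matrix.ext fun x y => ?_)
  show Asch.permM 1 x y = (1 : Matrix (Fin t → Fin k) (Fin t → Fin k) F) x y
  simp [Asch.permM, Matrix.one_apply, eq_comm]

theorem mul_iso {a b : GL (Fin t → Fin k) F}
    (ha : (a : Matrix (Fin t → Fin k) (Fin t → Fin k) F)ᵀ * GV J * (a : Matrix (Fin t → Fin k) (Fin t → Fin k) F) = GV J)
    (hb : (b : Matrix (Fin t → Fin k) (Fin t → Fin k) F)ᵀ * GV J * (b : Matrix (Fin t → Fin k) (Fin t → Fin k) F) = GV J) :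
    ((a * b : GL (Fin t → Fin k) F) : Matrix (Fin t → Fin k) (Fin t → Fin k) F)ᵀ * GV J *
      ((a * b : GL (Fin t → Fin k) F) : Matrix (Fin t → Fin k) (Fin t → Fin k) F) = GV J := by
  rw [Units.val_mul, transpose_mul]
  conv_rhs => rw [← hb, ← ha]
  simp only [Matrix.mul_assoc]

/-- a non-scalar root element `Q ⊗ c` -/
def Rad (J : Matrix (Fin k) (Fin k) F) (H : Subgroup (GL (Fin t → Fin k) F)) : Prop :=
  ∃ (i : Fin t) (u : Fin k → F), u ≠ 0 ∧ ∃ c : Matrix (Rest (at1 i) → Fin k) (Rest (at1 i) → Fin k) F,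
    (∀ κ : F, c ≠ κ • (1 : Matrix (Rest (at1 i) → Fin k) (Rest (at1 i) → Fin k) F)) ∧
      Root H (inS i u * c * outS J i u)

namespace Setting

variable (hS : Setting J H)
include hS

theorem GR_det (i : Fin t) : IsUnit (GR J i).det := GV_det hS.det

theorem cancel_GR (i : Fin t) {ν : Type} {A B : Matrix (Rest (at1 i) → Fin k) ν F}
    (h : GR J i * A = GR J i * B) : A = B := by
  have e := congrArg ((GR J i)⁻¹ * ·) h
  simpa [← Matrix.mul_assoc, nonsing_inv_mul _ (hS.GR_det i)] using e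

omit hS in
theorem inv_transpose {g : GL (Fin t → Fin k) F} (hg : (g : Matrix (Fin t → Fin k) (Fin t → Fin k) F)ᵀ * GV J *
      (g : Matrix (Fin t → Fin k) (Fin t → Fin k) F) = GV J) :
    (g : Matrix (Fin t → Fin k) (Fin t → Fin k) F)ᵀ * GV J =
      GV J * ((g⁻¹ : GL (Fin t → Fin k) F) : Matrix (Fin t → Fin k) (Fin t → Fin k) F) := by
  calc _ = (g : Matrix (Fin t → Fin k) (Fin t → Fin k) F)ᵀ * GV J * ((g : Matrix (Fin t → Fin k) (Fin t → Fin k) F) *
        ((g⁻¹ : GL (Fin t → Fin k) F) : Matrix (Fin t → Fin k) (Fin t → Fin k) F)) := by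
          rw [← Units.val_mul, mul_inv_cancel, Units.val_one, mul_one]
    _ = _ := by rw [← mul_assoc, hg]

omit hS in
theorem inv_iso {g : GL (Fin t → Fin k) F} (hg : (g : Matrix (Fin t → Fin k) (Fin t → Fin k) F)ᵀ * GV J *
      (g : Matrix (Fin t → Fin k) (Fin t → Fin k) F) = GV J) :
    ((g⁻¹ : GL (Fin t → Fin k) F) : Matrix (Fin t → Fin k) (Fin t → Fin k) F)ᵀ * GV J *
      ((g⁻¹ : GL (Fin t → Fin k) F) : Matrix (Fin t → Fin k) (Fin t → Fin k) F) = GV J := by
  set G' := ((g⁻¹ : GL (Fin t → Fin k) F) : Matrix (Fin t → Fin k) (Fin t → Fin k) F) with hG'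
  have e : (g : Matrix (Fin t → Fin k) (Fin t → Fin k) F) * G' = 1 := by
    rw [hG', ← Units.val_mul, mul_inv_cancel, Units.val_one]
  conv_lhs => rw [← hg]
  calc _ = ((g : Matrix (Fin t → Fin k) (Fin t → Fin k) F) * G')ᵀ * GV J *
        ((g : Matrix (Fin t → Fin k) (Fin t → Fin k) F) * G') := by rw [transpose_mul]; simp only [mul_assoc]
    _ = GV J := by rw [e, transpose_one, one_mul, mul_one]

theorem outS_conj (i : Fin t) (u : Fin k → F) {h : GL (Fin t → Fin k) F} (hh : h ∈ H)
    {a : Matrix (Rest (at1 i) → Fin k) (Rest (at1 i) → Fin k) F}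
    (ha : aᵀ * GR J i = GR J i * a) (hi : (h : Matrix (Fin t → Fin k) (Fin t → Fin k) F) * inS i u = inS i u * a) :
    outS J i u * ((h⁻¹ : GL (Fin t → Fin k) F) : Matrix (Fin t → Fin k) (Fin t → Fin k) F) = a * outS J i u := by
  refine hS.cancel_GR i ?_
  rw [← Matrix.mul_assoc, ← inS_transpose, Matrix.mul_assoc, ← inv_transpose (hS.iso h hh), ← Matrix.mul_assoc,
    ← transpose_mul, hi, transpose_mul, Matrix.mul_assoc, inS_transpose, ← Matrix.mul_assoc, ha, Matrix.mul_assoc]

/-- the compressed operators are self-adjoint -/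
theorem kK_adj (i : Fin t) (u v : Fin k → F) {g : GL (Fin t → Fin k) F}
    (hg : (g : Matrix (Fin t → Fin k) (Fin t → Fin k) F)ᵀ * GV J *
      (g : Matrix (Fin t → Fin k) (Fin t → Fin k) F) = GV J) :
    (outS J i u * (g : Matrix (Fin t → Fin k) (Fin t → Fin k) F) * inS i v *
      (outS J i v * ((g⁻¹ : GL (Fin t → Fin k) F) : Matrix (Fin t → Fin k) (Fin t → Fin k) F) * inS i u))ᵀ * GR J i =
    GR J i * (outS J i u * (g : Matrix (Fin t → Fin k) (Fin t → Fin k) F) * inS i v *
      (outS J i v * ((g⁻¹ : GL (Fin t → Fin k) F) : Matrix (Fin t → Fin k) (Fin t → Fin k) F) * inS i u)) := by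
  set G : Matrix (Fin t → Fin k) (Fin t → Fin k) F := (g : Matrix (Fin t → Fin k) (Fin t → Fin k) F)
  set G' : Matrix (Fin t → Fin k) (Fin t → Fin k) F :=
    ((g⁻¹ : GL (Fin t → Fin k) F) : Matrix (Fin t → Fin k) (Fin t → Fin k) F)
  have e1 : Gᵀ * GV J = GV J * G' := inv_transpose hg
  have e2 : G'ᵀ * GV J = GV J * G := by
    have := inv_transpose (inv_iso hg)
    rwa [inv_inv] at this
  have e3 : ∀ w, (outS J i w)ᵀ * GR J i = -(GV J (β := Fin t) * inS i w) := fun w => by
    have h := congrArg Matrix.transpose (inS_transpose (J := J) i w)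
    rw [transpose_mul, transpose_mul, transpose_transpose, GV_transpose hS.skew, GR_transpose hS.skew, Fintype.card_fin,
      Matrix.smul_mul, Matrix.mul_smul] at h
    obtain ⟨r, rfl⟩ : ∃ r, t = r + 1 := ⟨t - 1, by have := hS.tpos; omega⟩
    rw [Nat.add_sub_cancel, pow_succ, mul_smul, neg_one_smul] at h
    exact ((smul_right_injective _ (pow_ne_zero _ (neg_ne_zero.2 one_ne_zero))) h).symm
  have s1 : (outS J i u * G * inS i v)ᵀ * GR J i = -(GR J i * (outS J i v * G' * inS i u)) := by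
    rw [transpose_mul, transpose_mul, Matrix.mul_assoc, Matrix.mul_assoc, e3, Matrix.mul_neg, ← Matrix.mul_assoc Gᵀ,
      e1, Matrix.mul_neg]
    simp only [← Matrix.mul_assoc, inS_transpose]
  have s2 : (outS J i v * G' * inS i u)ᵀ * GR J i = -(GR J i * (outS J i u * G * inS i v)) := by
    rw [transpose_mul, transpose_mul, Matrix.mul_assoc, Matrix.mul_assoc, e3, Matrix.mul_neg, ← Matrix.mul_assoc G'ᵀ,
      e2, Matrix.mul_neg]
    simp only [← Matrix.mul_assoc, inS_transpose]
  rw [transpose_mul, Matrix.mul_assoc, s1, Matrix.mul_neg, ← Matrix.mul_assoc, s2, Matrix.neg_mul, neg_neg,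
    Matrix.mul_assoc]

omit hS in
theorem aeval_adj {ν : Type} [Fintype ν] [DecidableEq ν] {G K : Matrix ν ν F} (h : Kᵀ * G = G * K) (f : F[X]) :
    (aeval K f)ᵀ * G = G * aeval K f := by
  induction f using Polynomial.induction_on with
  | C c => simp [Algebra.algebraMap_eq_smul_one]
  | add p q hp hq => rw [map_add, transpose_add, add_mul, mul_add, hp, hq]
  | monomial n c ih =>
    have e : C c * X ^ (n + 1) = (C c * X ^ n) * X := by ring
    have hc := congrArg (aeval K) (mul_comm X (C c * X ^ n))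
    rw [map_mul (aeval K) X, map_mul (aeval K) (C c * X ^ n) X, aeval_X] at hc
    rw [e, map_mul, aeval_X, transpose_mul, mul_assoc, ih, ← mul_assoc, h, mul_assoc, hc]

/-- from an element preserving a slot subspace -/
theorem rad_of_stable (i : Fin t) {u : Fin k → F} (hu : u ≠ 0) {h : GL (Fin t → Fin k) F} (hh : h ∈ H)
    {a : Matrix (Rest (at1 i) → Fin k) (Rest (at1 i) → Fin k) F} (ha : aᵀ * GR J i = GR J i * a)
    (hi : (h : Matrix (Fin t → Fin k) (Fin t → Fin k) F) * inS i u = inS i u * a)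
    (hker : ∀ x, outS J i u *ᵥ x = 0 → ∃ y, (h : Matrix (Fin t → Fin k) (Fin t → Fin k) F) *ᵥ x = x + inS i u *ᵥ y)
    (hgood : (k = 2 ∧ ∀ κ : F, a * a ≠ κ • (1 : Matrix (Rest (at1 i) → Fin k) (Rest (at1 i) → Fin k) F)) ∨
      (3 ≤ k ∧ ∀ κ : F, a ≠ κ • (1 : Matrix (Rest (at1 i) → Fin k) (Rest (at1 i) → Fin k) F))) :
    Rad J H := by
  classical
  set M : Matrix (Fin t → Fin k) (Fin t → Fin k) F := (h : Matrix (Fin t → Fin k) (Fin t → Fin k) F) with hMd
  set M' : Matrix (Fin t → Fin k) (Fin t → Fin k) F :=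
    ((h⁻¹ : GL (Fin t → Fin k) F) : Matrix (Fin t → Fin k) (Fin t → Fin k) F) with hM'd
  have hou : outS J i u * M' = a * outS J i u := hS.outS_conj i u hh ha hi
  rcases hgood with ⟨-, hg⟩ | ⟨hk, hg⟩
  · refine ⟨i, u, hu, a * a, hg, ?_⟩
    have hr := (hS.root i u).conj hh
    rw [← inS_outS, ← Matrix.mul_assoc, hi, Matrix.mul_assoc, hou] at hr
    simpa only [Matrix.mul_assoc] using hr
  -- a vector orthogonal to `u` and one separating them
  obtain ⟨w₀, hw₀⟩ := exists_bf_ne J hS.det hu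
  obtain ⟨v, huv, hv⟩ : ∃ v, bf J u v = 0 ∧ ∀ c : F, v ≠ c • u := by
    by_contra! hc
    have hle : (⊤ : Submodule F (Fin k → F)) ≤ Submodule.span F ({u, w₀} : Set (Fin k → F)) := fun z _ => by
      obtain ⟨c, hc'⟩ := hc (z + (-(bf J u z / bf J u w₀)) • w₀) (by
        rw [bf_add_right, bf_smul_right, neg_mul, div_mul_cancel₀ _ hw₀, add_neg_cancel])
      rw [show z = c • u + (bf J u z / bf J u w₀) • w₀ by rw [← hc']; module]
      exact Submodule.mem_span_pair.2 ⟨_, _, rfl⟩
    have h1 := Submodule.finrank_mono hle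
    rw [finrank_top, Module.finrank_fintype_fun_eq_card, Fintype.card_fin] at h1
    have h2 : Module.finrank F (Submodule.span F ({u, w₀} : Set (Fin k → F))) ≤ 2 := by
      rw [show ({u, w₀} : Set (Fin k → F)) = ↑({u, w₀} : Finset (Fin k → F)) by simp]
      exact (finrank_span_finset_le_card _).trans Finset.card_le_two
    omega
  obtain ⟨v', huv', hvv'⟩ : ∃ v', bf J u v' = 0 ∧ bf J v v' = 1 := by
    obtain ⟨w, h1, h2⟩ : ∃ w, bf J u w = 0 ∧ bf J v w ≠ 0 := by
      by_contra! hc
      obtain ⟨z, hz⟩ : ∃ z, bf J (v + (-(bf J v w₀ / bf J u w₀)) • u) z ≠ 0 := exists_bf_ne J hS.det fun e =>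
        hv (bf J v w₀ / bf J u w₀) (by linear_combination (norm := module) e)
      refine hz ?_
      have h3 := hc (z + (-(bf J u z / bf J u w₀)) • w₀) (by
        rw [bf_add_right, bf_smul_right, neg_mul, div_mul_cancel₀ _ hw₀, add_neg_cancel])
      rw [bf_add_right, bf_smul_right] at h3
      rw [bf_add_left, bf_smul_left, ← h3]
      field_simp
    exact ⟨(bf J v w)⁻¹ • w, by rw [bf_smul_right, h1, mul_zero], by rw [bf_smul_right, inv_mul_cancel₀ h2]⟩
  have hvu : bf J v u = 0 := by rw [bf_skew hS.skew, huv, neg_zero]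
  have huu := bf_self hS.two hS.skew u
  have hvv := bf_self hS.two hS.skew v
  have hv'u : bf J v' u = 0 := by rw [bf_skew hS.skew, huv', neg_zero]
  have hv'v : bf J v' v = -1 := by rw [bf_skew hS.skew, hvv']
  obtain ⟨p, hp⟩ : ∃ p : Matrix (Rest (at1 i) → Fin k) (Rest (at1 i) → Fin k) F,
      M * inS i v = inS i v + inS i u * p := by
    have hcol : ∀ b, ∃ y, M *ᵥ (fun x => inS i v x b) = (fun x => inS i v x b) + inS i u *ᵥ y := fun b => hker _ (by
      funext y'
      have h1 := congrFun (congrFun (outS_inS (J := J) i v u) y') b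
      rw [huv, zero_smul] at h1
      exact h1)
    choose y hy using hcol
    refine ⟨Matrix.of fun r b => y b r, Matrix.ext fun x b => ?_⟩
    exact congrFun (hy b) x
  set p' := (GR J i)⁻¹ * pᵀ * GR J i with hp'
  have hov : outS J i v * M' = outS J i v + p' * outS J i u := by
    refine hS.cancel_GR i ?_
    rw [← Matrix.mul_assoc, ← inS_transpose, Matrix.mul_assoc, ← inv_transpose (hS.iso h hh), ← Matrix.mul_assoc,
      ← transpose_mul, hp, transpose_add, transpose_mul, Matrix.add_mul, Matrix.mul_assoc, inS_transpose, inS_transpose,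
      Matrix.mul_add, hp']
    simp only [← Matrix.mul_assoc, mul_nonsing_inv _ (hS.GR_det i), Matrix.one_mul]
  set c := a * p' + p * a with hc
  set D := inS i u * (a - 1) * outS J i v + inS i v * (a - 1) * outS J i u + inS i u * c * outS J i u with hD
  set X := sl i (rk J u v + rk J v u) with hX
  have hXe : X = inS i u * outS J i v + inS i v * outS J i u := by rw [hX, sl_add, inS_outS, inS_outS]
  have hM2 : M * X * M' = X + D := by
    rw [hXe, Matrix.mul_add, Matrix.add_mul, ← Matrix.mul_assoc, hi, Matrix.mul_assoc _ (outS J i v), hov,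
      ← Matrix.mul_assoc M, hp, Matrix.mul_assoc _ (outS J i u), hou, hD, hc]
    simp only [Matrix.mul_add, Matrix.add_mul, Matrix.mul_sub, Matrix.sub_mul, Matrix.mul_one,
      ← Matrix.mul_assoc]
    abel
  have oi : ∀ (a₁ b₁ : Fin k → F) (P : Matrix (Rest (at1 i) → Fin k) (Fin t → Fin k) F),
      outS J i a₁ * (inS i b₁ * P) = bf J a₁ b₁ • P := fun a₁ b₁ P => by
    rw [← Matrix.mul_assoc, outS_inS, Matrix.smul_mul, Matrix.one_mul]
  have hRX : Root H X := hS.mixed i huv
  have hRD : Root H D := by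
    have e : D = M * X * M' + (-X) := by rw [hM2]; abel
    rw [e]
    refine (hRX.conj hh).add hRX.neg ?_
    rw [hM2, mul_neg, neg_eq_zero, hD, hXe]
    simp only [Matrix.add_mul, Matrix.mul_add, Matrix.mul_assoc, oi, huu, hvv, huv, hvu, zero_smul, Matrix.mul_zero,
      add_zero]
  have hRN : Root H (sl i (rk J u v' + rk J v' u)) := hS.mixed i huv'
  have hNe : sl i (rk J u v' + rk J v' u) = inS i u * outS J i v' + inS i v' * outS J i u := by
    rw [sl_add, inS_outS, inS_outS]
  rw [hNe] at hRN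
  set N := inS i u * outS J i v' + inS i v' * outS J i u with hN
  have hfin := hRD.comm hRN
    (by simp only [hD, Matrix.add_mul, Matrix.mul_add, Matrix.mul_assoc, oi, huu, hvv, huv, hvu, zero_smul,
      Matrix.mul_zero, add_zero])
    (by simp only [hN, Matrix.add_mul, Matrix.mul_add, Matrix.mul_assoc, oi, huu, huv', hv'u,
      bf_self hS.two hS.skew v', zero_smul, Matrix.mul_zero, add_zero])
    (by simp only [hD, hN, Matrix.add_mul, Matrix.mul_add, Matrix.mul_assoc, oi, huu, hvv, huv, hvu, huv', hv'u,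
      hvv', hv'v, zero_smul, one_smul, neg_smul, Matrix.mul_zero, Matrix.mul_neg, Matrix.neg_mul, Matrix.mul_assoc, oi, add_zero, zero_add, neg_zero])
    (by simp only [hD, hN, Matrix.add_mul, Matrix.mul_add, Matrix.mul_assoc, oi, huu, hvv, huv, hvu, huv', hv'u,
      hvv', hv'v, zero_smul, one_smul, neg_smul, Matrix.mul_zero, Matrix.mul_neg, Matrix.neg_mul, Matrix.mul_assoc, oi, add_zero, zero_add, neg_zero])
  have hval : D * N - N * D = inS i u * ((2 : F) • (a - 1)) * outS J i u := by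
    simp only [hD, hN, Matrix.add_mul, Matrix.mul_add, Matrix.mul_assoc, oi, huu, hvv, huv, hvu, huv', hv'u,
      hvv', hv'v, zero_smul, one_smul, neg_smul, Matrix.mul_zero, Matrix.mul_neg, add_zero, zero_add, neg_zero,
      sub_neg_eq_add, Matrix.smul_mul, Matrix.mul_smul, two_smul]
  rw [hval] at hfin
  refine ⟨i, u, hu, (2 : F) • (a - 1), fun κ e => hg (κ / 2 + 1) ?_, hfin⟩
  have e' := congrArg ((2 : F)⁻¹ • ·) e
  simp only [smul_smul, inv_mul_cancel₀ hS.two, one_smul] at e'
  rw [add_smul, one_smul, div_eq_inv_mul]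
  exact sub_eq_iff_eq_add.1 e'

/-- maps of a slot, moved by a permutation of the slots -/
def family (J : Matrix (Fin k) (Fin k) F) (i : Fin t)
    (a : ((Rest (at1 i) → Fin k) → F) →ₗ[F] ((Fin t → Fin k) → F))
    (b : ((Fin t → Fin k) → F) →ₗ[F] ((Rest (at1 i) → Fin k) → F)) : Prop :=
  ∃ (σ : Equiv.Perm (Fin t)) (u : Fin k → F), u ≠ 0 ∧
    a = (((Asch.permU σ : GL (Fin t → Fin k) F) : Matrix (Fin t → Fin k) (Fin t → Fin k) F) * inS i u : Matrix (Fin t → Fin k) (Rest (at1 i) → Fin k) F).mulVecLin ∧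
    b = (outS J i u * ((((Asch.permU σ)⁻¹ : GL (Fin t → Fin k) F)) : Matrix (Fin t → Fin k) (Fin t → Fin k) F) :
      Matrix (Rest (at1 i) → Fin k) (Fin t → Fin k) F).mulVecLin

/-- the alternative -/
theorem rad_or_standard (hq : k = 2 → 5 ≤ Nat.card F) (hne : ¬ Rad J H) {g : GL (Fin t → Fin k) F} (hg : g ∈ H) :
    g ∈ tensorWreathStandard k t F := by
  classical
  have key : ∀ (i : Fin t) (u v : Fin k → F), u ≠ 0 → v ≠ 0 → ∀ g ∈ H, ∀ σ : Equiv.Perm (Fin t), ∃ κ : F,
      outS J i u * ((g * Asch.permU σ : GL (Fin t → Fin k) F) : Matrix (Fin t → Fin k) (Fin t → Fin k) F) * inS i v *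
        (outS J i v * (((g * Asch.permU σ)⁻¹ : GL (Fin t → Fin k) F) : Matrix (Fin t → Fin k) (Fin t → Fin k) F) *
          inS i u) =
      κ • (1 : Matrix (Rest (at1 i) → Fin k) (Rest (at1 i) → Fin k) F) := by
    intro i u v hu hv g hg σ
    set E := glEquiv (Fin t → Fin k) F with hE
    let T := Matrix.toLinAlgEquiv' (R := F) (n := Rest (at1 i) → Fin k)
    have hpair : ∀ a b, family J i a b → LWreath.Pair (H.map E.toMonoidHom) a b := by
      rintro a b ⟨τ, w, hw, rfl, rfl⟩
      set Pm := ((Asch.permU τ : GL (Fin t → Fin k) F) : Matrix (Fin t → Fin k) (Fin t → Fin k) F) with hPm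
      set Pm' := (((Asch.permU τ)⁻¹ : GL (Fin t → Fin k) F) : Matrix (Fin t → Fin k) (Fin t → Fin k) F) with hPm'
      have hPP : Pm' * Pm = 1 := by rw [hPm, hPm', ← Units.val_mul, inv_mul_cancel, Units.val_one]
      refine ⟨fun z => ?_, ?_, fun s => ?_⟩
      · simp only [mulVecLin_apply, mulVec_mulVec]
        rw [Matrix.mul_assoc (outS J i w), ← Matrix.mul_assoc Pm', hPP, Matrix.one_mul, outS_inS,
          bf_self hS.two hS.skew, zero_smul, zero_mulVec]
      · rw [mulVecLin_mul]
        exact (Matrix.mulVec_injective_iff_isUnit.2 (Units.isUnit _)).comp (inM_injective (fu_ne hw))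
      · obtain ⟨x, hx, hxe⟩ := hS.root (τ i) w s
        refine ⟨E x, Subgroup.mem_map_of_mem _ hx, fun z => ?_⟩
        have e : Pm * (inS i w * outS J i w) * Pm' = sl (τ i) (rk J w w) := by
          rw [inS_outS, hPm, hPm', permU_conj]
        rw [hE, glEquiv_apply, hxe, ← e, add_mulVec, one_mulVec, smul_mulVec]
        simp only [mulVecLin_apply, mulVec_mulVec, Matrix.mul_assoc]
    have hKmat : ∀ (g : GL (Fin t → Fin k) F) (τ : Equiv.Perm (Fin t)) (v : Fin k → F),
        LWreath.kK (inS i u).mulVecLin (outS J i u).mulVecLin (E g)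
          (((Asch.permU τ : GL (Fin t → Fin k) F) : Matrix (Fin t → Fin k) (Fin t → Fin k) F) * inS i v : Matrix (Fin t → Fin k) (Rest (at1 i) → Fin k) F).mulVecLin
          (outS J i v * ((((Asch.permU τ)⁻¹ : GL (Fin t → Fin k) F)) : Matrix (Fin t → Fin k) (Fin t → Fin k) F) :
            Matrix (Rest (at1 i) → Fin k) (Fin t → Fin k) F).mulVecLin =
        T (outS J i u * ((g * Asch.permU τ : GL (Fin t → Fin k) F) : Matrix (Fin t → Fin k) (Fin t → Fin k) F) * inS i v *
          (outS J i v * (((g * Asch.permU τ)⁻¹ : GL (Fin t → Fin k) F) : Matrix (Fin t → Fin k) (Fin t → Fin k) F) *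
            inS i u)) := by
      intro g τ v
      refine LinearMap.ext fun z => ?_
      show _ = _ *ᵥ z
      simp only [Units.val_mul, _root_.mul_inv_rev, ← mulVec_mulVec, LWreath.kK, ← map_inv,
        LinearMap.comp_apply, mulVecLin_apply]
      rfl
    let good : Module.End F ((Rest (at1 i) → Fin k) → F) → Prop := fun a =>
      (k = 2 ∧ ∀ κ : F, a ^ 2 ≠ algebraMap F _ κ) ∨ (3 ≤ k ∧ ∀ κ : F, a ≠ algebraMap F _ κ)
    rcases LWreath.exc_or_scalar (H := H.map E.toMonoidHom) (Φ := family J i) (good := good)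
      (fun K hK => by
        rcases eq_or_lt_of_le hS.kpos with h2k | h3k
        · obtain ⟨M, hM, h⟩ := exists_good_sq hS.two (hq h2k.symm) K hK
          exact ⟨M, hM, h.imp (fun h => ⟨h.1, Or.inl ⟨h2k.symm, h.2⟩⟩) id⟩
        · obtain ⟨M, hM, h⟩ := OTensor.exists_good hS.two K hK
          exact ⟨M, hM, h.imp (fun h => ⟨h.1, Or.inr ⟨h3k, h.2⟩⟩) id⟩)
      hpair (i := (inS i u).mulVecLin) (iT := (outS J i u).mulVecLin) ⟨1, u, hu, by rw [permU_one, Units.val_one, Matrix.one_mul],
        by rw [permU_one, inv_one, Units.val_one, Matrix.mul_one]⟩ (g := E g) (Subgroup.mem_map_of_mem _ hg)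
      ⟨σ, v, hv, rfl, rfl⟩ with he | ⟨κ, hκ⟩
    · refine absurd ?_ hne
      obtain ⟨_, ⟨h, hh, rfl⟩, _, ⟨g', hg', rfl⟩, i', iT', f, ⟨τ, w, -, rfl, rfl⟩, hgood, -, hi, hker⟩ := he
      rw [MulEquiv.coe_toMonoidHom] at hgood hi hker
      rw [hKmat g' τ w, aeval_algEquiv, AlgHom.comp_apply] at hgood hi
      set a := aeval (outS J i u * ((g' * Asch.permU τ : GL (Fin t → Fin k) F) : Matrix (Fin t → Fin k) (Fin t → Fin k) F) *
          inS i w * (outS J i w * (((g' * Asch.permU τ)⁻¹ : GL (Fin t → Fin k) F) :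
            Matrix (Fin t → Fin k) (Fin t → Fin k) F) * inS i u)) f with hadef
      have hTa : ∀ y, T a y = a *ᵥ y := fun y => rfl
      refine hS.rad_of_stable i hu hh (a := a) (aeval_adj (hS.kK_adj i u w (mul_iso (hS.iso _ hg') (permU_iso τ))) f) ?_ (fun x hx => ?_) ?_
      · refine Matrix.toLin'.injective (LinearMap.ext fun y => ?_)
        simp only [Matrix.toLin'_apply, ← mulVec_mulVec]
        exact hi y
      · obtain ⟨y, hy⟩ := hker x hx
        exact ⟨y, hy⟩
      · rcases hgood with ⟨hk, hg2⟩ | ⟨hk, hg2⟩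
        · refine Or.inl ⟨hk, fun κ e => hg2 κ ?_⟩
          show T a ^ 2 = _
          rw [← map_pow, pow_two, e, map_smul, map_one, Algebra.algebraMap_eq_smul_one]
        · refine Or.inr ⟨hk, fun κ e => hg2 κ ?_⟩
          show T a = _
          rw [e, map_smul, map_one, Algebra.algebraMap_eq_smul_one]
    · refine ⟨κ, T.injective ?_⟩
      rw [← hKmat, hκ, map_smul, map_one, Algebra.algebraMap_eq_smul_one]
  refine hS.mem_standard hg fun j w i x y v => ?_
  set Y := (g : Matrix (Fin t → Fin k) (Fin t → Fin k) F) * sl j (rk J w w) *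
    ((g⁻¹ : GL (Fin t → Fin k) F) : Matrix (Fin t → Fin k) (Fin t → Fin k) F) with hY
  obtain ⟨κ, hκ⟩ : ∃ κ : F, outS J i v * Y * inS i v =
      κ • (1 : Matrix (Rest (at1 i) → Fin k) (Rest (at1 i) → Fin k) F) := by
    by_cases hw : w = 0
    · refine ⟨0, ?_⟩
      rw [hY, hw, rk, zero_vecMulVec, sl_zero]
      simp
    by_cases hv : v = 0
    · refine ⟨0, ?_⟩
      have : (inS i v : Matrix (Fin t → Fin k) (Rest (at1 i) → Fin k) F) = 0 := by
        ext a b; simp [inS, inM, fu, hv]
      rw [this]; simp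
    obtain ⟨κ, hκ⟩ := key i v w hv hw g hg (Equiv.swap i j)
    refine ⟨κ, ?_⟩
    rw [← hκ, hY]
    have e := permU_conj (Equiv.swap i j) i (rk J w w)
    rw [Equiv.swap_apply_left, ← inS_outS] at e
    rw [← e]
    simp only [_root_.mul_inv_rev, Units.val_mul, Matrix.mul_assoc]
  have hval : ∀ a b, bf J v (slice Y i a b *ᵥ v) = if ∀ l, l ≠ i → a l = b l then κ else 0 := fun a b => by
    rw [← outS_mul_inS_apply, hκ, Matrix.smul_apply, Matrix.one_apply, smul_eq_mul, mul_ite, mul_one, mul_zero]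
    refine if_congr ⟨fun h l hl => congrFun h ⟨l, fun _ e => hl e.symm⟩, fun h => funext fun l => h l.1
      fun e => l.2 0 e.symm⟩ rfl rfl
  rw [hval, hval, if_pos fun _ _ => rfl]

end Setting

end Cfsg.Agent.ClassicalMax.SpWreath
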