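import Cfsg.Agent.ClassicalMax.SpWreath.Basic
import Cfsg.Agent.ClassicalMax.TPow.SpDecomp

/-!
If all contractions of moved root elements are scalar then every element permutes the slot algebras, hence lies in the
wreath group.
-/

set_option autoImplicit false
set_option linter.unusedSectionVars false

namespace Cfsg.Agent.ClassicalMax.SpWreath

open Matrix Cfsg.Geo Cfsg.Agent.ClassicalMax.TPow

variable {F : Type*} [Field F] [Finite F] {k t : ℕ} {J : Matrix (Fin k) (Fin k) F}
  {H : Subgroup (GL (Fin t → Fin k) F)}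

theorem slice'_eq (i : Fin t) (R : Matrix (Fin t → Fin k) (Fin t → Fin k) F) (x y : Fin t → Fin k) :
    slice' R i x y = slice R i x y := rfl

theorem slice'_add (i : Fin t) (R Z : Matrix (Fin t → Fin k) (Fin t → Fin k) F) (x y : Fin t → Fin k) :
    slice' (R + Z) i x y = slice' R i x y + slice' Z i x y := rfl

theorem slice'_sum {γ : Type*} (s : Finset γ) (i : Fin t) (f : γ → Matrix (Fin t → Fin k) (Fin t → Fin k) F)
    (x y : Fin t → Fin k) : slice' (∑ c ∈ s, f c) i x y = ∑ c ∈ s, slice' (f c) i x y := by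
  ext a b
  simp [slice', Matrix.sum_apply]

theorem slice'_sl_self (i : Fin t) (A : Matrix (Fin k) (Fin k) F) (x y : Fin t → Fin k) :
    slice' (sl i A) i x y = if ∀ j, j ≠ i → x j = y j then A else 0 := by
  ext a b
  rw [slice', Matrix.of_apply, sl_apply]
  have e : (∀ j, j ≠ i → Function.update x i a j = Function.update y i b j) ↔ ∀ j, j ≠ i → x j = y j :=
    forall_congr' fun j => imp_congr_right fun hj => by simp [hj]
  simp only [Function.update_self, e]
  split_ifs <;> rfl

/-- a matrix commuting with everything -/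
theorem scalar_of_commute {A : Matrix (Fin k) (Fin k) F} (h : ∀ B, A * B = B * A) :
    ∃ c : F, A = c • (1 : Matrix (Fin k) (Fin k) F) := by
  obtain ⟨c, hc⟩ := Matrix.mem_range_scalar_of_commute_single (M := A) fun i j _ => (h _).symm
  exact ⟨c, by rw [← hc, Matrix.scalar_apply, Matrix.smul_one_eq_diagonal]⟩

theorem slice_scalar (i : Fin t) {R : Matrix (Fin t → Fin k) (Fin t → Fin k) F} (h : ∀ A, Commute R (sl i A))
    (x y : Fin t → Fin k) : ∃ c : F, slice' R i x y = c • (1 : Matrix (Fin k) (Fin k) F) :=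
  scalar_of_commute fun B => by rw [← slice'_mul_sl, ← slice'_sl_mul, (h B).eq]

theorem adjJ_one (hJ : IsUnit J.det) : adjJ J (1 : Matrix (Fin k) (Fin k) F) = 1 := by
  rw [adjJ, transpose_one, mul_one, nonsing_inv_mul J hJ]

theorem adjJ_add (A B : Matrix (Fin k) (Fin k) F) : adjJ J (A + B) = adjJ J A + adjJ J B := by
  rw [adjJ, adjJ, adjJ, transpose_add, mul_add, add_mul]

theorem adjJ_smul (c : F) (A : Matrix (Fin k) (Fin k) F) : adjJ J (c • A) = c • adjJ J A := by
  rw [adjJ, adjJ, transpose_smul, mul_smul_comm, smul_mul_assoc]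

theorem adjJ_mul (hJ : IsUnit J.det) (A B : Matrix (Fin k) (Fin k) F) :
    adjJ J (A * B) = adjJ J B * adjJ J A := by
  rw [adjJ, adjJ, adjJ, transpose_mul]
  simp only [mul_assoc]
  rw [← mul_assoc J J⁻¹, mul_nonsing_inv J hJ, one_mul]

theorem skew_scalar_zero (h2 : (2 : F) ≠ 0) (hJ : IsUnit J.det) {s : Matrix (Fin k) (Fin k) F}
    (hs : adjJ J s = -s) {c : F} (h : s = c • (1 : Matrix (Fin k) (Fin k) F)) : s = 0 := by
  have h' : adjJ J s = s := by rw [h, adjJ_smul, adjJ_one hJ]
  have h3 : (2 : F) • s = 0 := by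
    rw [two_smul]
    nth_rewrite 2 [← h']
    rw [hs, add_neg_cancel]
  exact (smul_eq_zero.1 h3).resolve_left h2

theorem slots_unique (h2 : (2 : F) ≠ 0) (hJ : IsUnit J.det) {s : Fin t → Matrix (Fin k) (Fin k) F}
    (hs : ∀ l, adjJ J (s l) = -s l) (h : ∑ l, sl l (s l) = 0) (l : Fin t) : s l = 0 := by
  rcases Nat.eq_zero_or_pos k with rfl | hk
  · ext a
    exact a.elim0
  let z : Fin t → Fin k := fun _ => ⟨0, hk⟩
  obtain ⟨c, hc⟩ := slice_scalar l (R := ∑ j ∈ Finset.univ.erase l, sl j (s j))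
    (fun A => Commute.sum_left _ _ _ fun j hj => sl_commute (Finset.ne_of_mem_erase hj) _ _) z z
  refine skew_scalar_zero h2 hJ (hs l) (c := -c) ?_
  have h' : slice' (∑ l, sl l (s l)) l z z = 0 := by rw [h]; rfl
  rw [← Finset.add_sum_erase _ _ (Finset.mem_univ l), slice'_add, slice'_sl_self, if_pos fun _ _ => rfl, hc] at h'
  rw [eq_neg_of_add_eq_zero_left h', neg_smul]

namespace Setting

variable (hS : Setting J H)
include hS

/-- the conjugate of a slot root element -/
theorem moved_skew {g : GL (Fin t → Fin k) F} (hg : g ∈ H) {X : Matrix (Fin t → Fin k) (Fin t → Fin k) F}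
    (hX : Xᵀ * GV J = -(GV J * X)) :
    ((g : Matrix (Fin t → Fin k) (Fin t → Fin k) F) * X *
      ((g⁻¹ : GL (Fin t → Fin k) F) : Matrix (Fin t → Fin k) (Fin t → Fin k) F))ᵀ * GV J =
    -(GV J * ((g : Matrix (Fin t → Fin k) (Fin t → Fin k) F) * X *
      ((g⁻¹ : GL (Fin t → Fin k) F) : Matrix (Fin t → Fin k) (Fin t → Fin k) F))) := by
  set G : Matrix (Fin t → Fin k) (Fin t → Fin k) F := (g : Matrix (Fin t → Fin k) (Fin t → Fin k) F)
  set G' : Matrix (Fin t → Fin k) (Fin t → Fin k) F :=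
    ((g⁻¹ : GL (Fin t → Fin k) F) : Matrix (Fin t → Fin k) (Fin t → Fin k) F)
  have e1 : Gᵀ * GV J = GV J * G' := by
    calc Gᵀ * GV J = Gᵀ * GV J * (G * G') := by rw [← Units.val_mul, mul_inv_cancel, Units.val_one, mul_one]
      _ = GV J * G' := by rw [← mul_assoc, hS.iso g hg]
  have e2 : G'ᵀ * GV J = GV J * G := by
    have := hS.iso g⁻¹ (inv_mem hg)
    calc G'ᵀ * GV J = G'ᵀ * GV J * (G' * G) := by rw [← Units.val_mul, inv_mul_cancel, Units.val_one, mul_one]
      _ = GV J * G := by rw [← mul_assoc, this]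
  calc (G * X * G')ᵀ * GV J = G'ᵀ * Xᵀ * (Gᵀ * GV J) := by simp only [transpose_mul, mul_assoc]
    _ = G'ᵀ * (Xᵀ * GV J) * G' := by rw [e1]; simp only [mul_assoc]
    _ = -((G'ᵀ * GV J) * X * G') := by rw [hX, mul_neg, neg_mul]; simp only [mul_assoc]
    _ = -(GV J * (G * X * G')) := by rw [e2]; simp only [mul_assoc]

/-- a square-zero skew element with scalar contractions lies in one slot -/
theorem one_slot {Y : Matrix (Fin t → Fin k) (Fin t → Fin k) F} (hY : Yᵀ * GV J = -(GV J * Y)) (hYY : Y * Y = 0)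
    (hY0 : Y ≠ 0)
    (hblk : ∀ i x y u, bf J u (slice Y i x y *ᵥ u) =
      if ∀ j, j ≠ i → x j = y j then bf J u (slice Y i (fun _ => ⟨0, by have := hS.kpos; omega⟩)
        (fun _ => ⟨0, by have := hS.kpos; omega⟩) *ᵥ u) else 0) :
    ∃ l s, adjJ J s = -s ∧ s ≠ 0 ∧ Y = sl l s := by
  haveI : Nonempty (Fin k) := ⟨⟨0, by have := hS.kpos; omega⟩⟩
  obtain ⟨s, hs, hsum⟩ := exists_sum_slots hS.two hS.skew hS.det hY (fun i x y u => by
    rw [hblk i x y u]
    split_ifs with h
    · have e := hblk i (fun _ => Classical.arbitrary (Fin k)) (fun _ => Classical.arbitrary (Fin k)) u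
      rw [if_pos fun _ _ => rfl] at e
      exact e.symm
    · rfl)
  obtain ⟨l, hl⟩ : ∃ l, s l ≠ 0 := by
    by_contra! h
    exact hY0 (hsum.trans (Finset.sum_eq_zero fun l _ => by rw [h l, sl_zero]))
  refine ⟨l, s l, hs l, hl, ?_⟩
  set R := ∑ j ∈ Finset.univ.erase l, sl j (s j) with hR
  have hYR : Y = sl l (s l) + R := hsum.trans (Finset.add_sum_erase _ (fun j => sl j (s j)) (Finset.mem_univ l)).symm
  have hRc : ∀ A, Commute R (sl l A) := fun A =>
    Commute.sum_left _ _ _ fun j hj => sl_commute (Finset.ne_of_mem_erase hj) _ _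
  suffices R = 0 by rw [hYR, this, add_zero]
  have h4 : Y * Y = sl l (s l * s l) + (sl l ((2 : F) • s l) * R + R * R) := by
    rw [hYR, mul_add, add_mul, add_mul, (hRc (s l)).eq, sl_mul, sl_smul, two_smul, add_mul]
    abel
  ext x y
  obtain ⟨r, hr⟩ := slice_scalar l hRc x y
  obtain ⟨ρ, hρ⟩ := slice_scalar l (R := R * R) (fun A => (hRc A).mul_left (hRc A)) x y
  have h5 : slice' (Y * Y) l x y = 0 := by rw [hYY]; rfl
  rw [h4, slice'_add, slice'_add, slice'_sl_mul, hr, hρ, slice'_sl_self, smul_mul_assoc, mul_smul_comm, mul_one]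
    at h5
  have h6 := congrArg (adjJ J) h5
  rw [adjJ_add, adjJ_add, adjJ_smul, adjJ_smul, adjJ_smul, adjJ_one hS.det, hs l,
    show adjJ J (0 : Matrix (Fin k) (Fin k) F) = 0 by simp [adjJ]] at h6
  have h7 : adjJ J (if ∀ j, j ≠ l → x j = y j then s l * s l else 0) =
      if ∀ j, j ≠ l → x j = y j then s l * s l else 0 := by
    split_ifs
    · rw [adjJ_mul hS.det, hs l, neg_mul_neg]
    · simp [adjJ]
  rw [h7] at h6
  have h8 : ((4 : F) * r) • s l = 0 := by
    calc ((4 : F) * r) • s l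
        = ((if ∀ j, j ≠ l → x j = y j then s l * s l else 0) + ((2 : F) • r • s l + ρ • 1)) -
          ((if ∀ j, j ≠ l → x j = y j then s l * s l else 0) + ((2 : F) • r • -s l + ρ • 1)) := by module
      _ = 0 := by rw [h5, h6, sub_zero]
  have hr0 : r = 0 := by
    rcases mul_eq_zero.1 ((smul_eq_zero.1 h8).resolve_right hl) with h | h
    · exact absurd h (by rw [show (4 : F) = 2 * 2 by norm_num]; exact mul_ne_zero hS.two hS.two)
    · exact h
  have := congrFun (congrFun hr (x l)) (y l)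
  rw [hr0, zero_smul, slice', Matrix.of_apply, Function.update_eq_self, Function.update_eq_self] at this
  exact this

/-- elements with scalar contractions lie in the wreath group -/
theorem mem_standard {g : GL (Fin t → Fin k) F} (hg : g ∈ H)
    (hK : ∀ j u, ∀ i x y v, bf J v (slice ((g : Matrix (Fin t → Fin k) (Fin t → Fin k) F) * sl j (rk J u u) *
        ((g⁻¹ : GL (Fin t → Fin k) F) : Matrix (Fin t → Fin k) (Fin t → Fin k) F)) i x y *ᵥ v) =
      if ∀ l, l ≠ i → x l = y l then bf J v (slice ((g : Matrix (Fin t → Fin k) (Fin t → Fin k) F) * sl j (rk J u u) *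
        ((g⁻¹ : GL (Fin t → Fin k) F) : Matrix (Fin t → Fin k) (Fin t → Fin k) F)) i
        (fun _ => ⟨0, by have := hS.kpos; omega⟩) (fun _ => ⟨0, by have := hS.kpos; omega⟩) *ᵥ v) else 0) :
    g ∈ tensorWreathStandard k t F := by
  classical
  haveI : Nonempty (Fin k) := ⟨⟨0, by have := hS.kpos; omega⟩⟩
  set G : Matrix (Fin t → Fin k) (Fin t → Fin k) F := (g : Matrix (Fin t → Fin k) (Fin t → Fin k) F)
  set G' : Matrix (Fin t → Fin k) (Fin t → Fin k) F :=
    ((g⁻¹ : GL (Fin t → Fin k) F) : Matrix (Fin t → Fin k) (Fin t → Fin k) F)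
  have hG'G : G' * G = 1 := by rw [← Units.val_mul, inv_mul_cancel, Units.val_one]
  have hGG' : G * G' = 1 := by rw [← Units.val_mul, mul_inv_cancel, Units.val_one]
  have hnz : ∀ (j : Fin t) (A : Matrix (Fin k) (Fin k) F), A ≠ 0 → G * sl j A * G' ≠ 0 := fun j A hA h => hA (by
    refine sl_injective j ?_
    rw [sl_zero]
    calc sl j A = (G' * G) * sl j A * (G' * G) := by rw [hG'G, one_mul, mul_one]
      _ = G' * (G * sl j A * G') * G := by simp only [mul_assoc]
      _ = 0 := by rw [h, mul_zero, zero_mul])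
  have hone : ∀ j (u : Fin k → F), u ≠ 0 → ∃ l s, adjJ J s = -s ∧ s ≠ 0 ∧ G * sl j (rk J u u) * G' = sl l s :=
    fun j u hu => hS.one_slot (hS.moved_skew hg (sl_skew (root_skew hS.skew u) j))
      (by
        calc G * sl j (rk J u u) * G' * (G * sl j (rk J u u) * G')
            = G * sl j (rk J u u) * (G' * G) * (sl j (rk J u u) * G') := by simp only [mul_assoc]
          _ = 0 := by rw [hG'G, mul_one, mul_assoc G, ← mul_assoc (sl j _), sl_mul, root_sq hS.two hS.skew, sl_zero,
              zero_mul, mul_zero])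
      (hnz j _ (rk_eq_zero J hS.det hu hu)) (hK j u)
  choose π₀ s₀ hs₀ hs₀n hY₀ using hone
  have hconst : ∀ (j : Fin t) (u v : Fin k → F) (hu : u ≠ 0) (hv : v ≠ 0), bf J u v ≠ 0 → π₀ j u hu = π₀ j v hv := by
    intro j u v hu hv huv
    by_contra hne
    have hadd : u + v ≠ 0 := fun h => huv (by
      rw [eq_neg_of_add_eq_zero_left h, ← neg_one_smul F v, bf_smul_left,
        bf_self hS.two hS.skew, mul_zero])
    have hsub : u + (-1 : F) • v ≠ 0 := fun h => huv (by
      rw [eq_neg_of_add_eq_zero_left h, ← neg_one_smul F (_ : Fin k → F), smul_smul, neg_one_mul, neg_neg, one_smul,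
        bf_self hS.two hS.skew])
    have hpar : G * sl j (rk J (u + v) (u + v)) * G' + G * sl j (rk J (u + (-1 : F) • v) (u + (-1 : F) • v)) * G' =
        (2 : F) • (G * sl j (rk J u u) * G') + (2 : F) • (G * sl j (rk J v v) * G') := by
      rw [← smul_add, ← add_mul, ← mul_add, ← sl_add, ← add_mul, ← mul_add, ← sl_add,
        show rk J (u + v) (u + v) + rk J (u + (-1 : F) • v) (u + (-1 : F) • v) = (2 : F) • (rk J u u + rk J v v) by
          simp only [rk_add_left, rk_add_right, rk_smul_left, rk_smul_right]; module,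
        sl_smul, mul_smul_comm, smul_mul_assoc]
    rw [hY₀ j _ hadd, hY₀ j _ hsub, hY₀ j u hu, hY₀ j v hv] at hpar
    set a := π₀ j u hu
    set b := π₀ j v hv
    set c := π₀ j _ hadd
    set d := π₀ j _ hsub
    let f : Fin t → Matrix (Fin k) (Fin k) F := fun l =>
      (if c = l then s₀ j _ hadd else 0) + (if d = l then s₀ j _ hsub else 0) +
        ((if a = l then (-2 : F) • s₀ j u hu else 0) + (if b = l then (-2 : F) • s₀ j v hv else 0))
    have hf : ∀ l, adjJ J (f l) = -f l := fun l => by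
      have e0 : ∀ (P : Prop) [Decidable P] (A : Matrix (Fin k) (Fin k) F), adjJ J A = -A →
          adjJ J (if P then A else 0) = -(if P then A else 0) := fun P _ A hA => by
        split_ifs
        · exact hA
        · simp [adjJ]
      simp only [f, adjJ_add]
      rw [e0 _ _ (hs₀ j _ hadd), e0 _ _ (hs₀ j _ hsub), e0 _ _ (by rw [adjJ_smul, hs₀, smul_neg]),
        e0 _ _ (by rw [adjJ_smul, hs₀, smul_neg])]
      abel
    have e1 : ∀ (l : Fin t) (A : Matrix (Fin k) (Fin k) F), ∑ l', sl l' (if l = l' then A else 0) = sl l A :=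
      fun l A => by
        rw [Finset.sum_eq_single l (fun l' _ h => by rw [if_neg (Ne.symm h), sl_zero])
          (fun h => absurd (Finset.mem_univ l) h), if_pos rfl]
    have h0 := slots_unique hS.two hS.det hf (by
      simp only [f, sl_add, Finset.sum_add_distrib, e1, sl_smul]
      rw [hpar]
      module)
    have h2n : (-2 : F) ≠ 0 := neg_ne_zero.2 hS.two
    have ha := h0 a
    have hb := h0 b
    simp only [f, if_true, if_neg hne, if_neg (Ne.symm hne), add_zero, zero_add] at ha hb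
    have hca : c = a ∨ d = a := by
      by_contra! h
      rw [if_neg h.1, if_neg h.2, add_zero, zero_add] at ha
      exact smul_ne_zero h2n (hs₀n j u hu) ha
    have hcb : c = b ∨ d = b := by
      by_contra! h
      rw [if_neg h.1, if_neg h.2, add_zero, zero_add] at hb
      exact smul_ne_zero h2n (hs₀n j v hv) hb
    have key : ∀ (w z : Fin k → F) (hw : w ≠ 0) (hz : z ≠ 0), π₀ j w hw = π₀ j z hz →
        s₀ j w hw = (2 : F) • s₀ j z hz → rk J w w = (2 : F) • rk J z z := fun w z hw hz hπ hsz => by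
      refine sl_injective j ?_
      have h : G * sl j (rk J w w) * G' = G * sl j ((2 : F) • rk J z z) * G' := by
        rw [hY₀ j w hw, hπ, hsz, sl_smul, ← hY₀ j z hz, sl_smul, mul_smul_comm, smul_mul_assoc]
      calc sl j (rk J w w) = G' * (G * sl j (rk J w w) * G') * G := by
            simp only [mul_assoc, hG'G, mul_one]; rw [← mul_assoc, hG'G, one_mul]
        _ = sl j ((2 : F) • rk J z z) := by
            rw [h]; simp only [mul_assoc, hG'G, mul_one]; rw [← mul_assoc, hG'G, one_mul]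
    rcases eq_or_ne c a with hc | hc
    · have hd : d = b := hcb.resolve_left fun h => hne (hc.symm.trans h)
      rw [if_pos hc, if_neg (fun h => hne (h.symm.trans hd)), add_zero, neg_smul, add_neg_eq_zero] at ha
      have h := congrArg (· *ᵥ u) (key _ _ hadd hu hc ha)
      simp only [Matrix.smul_mulVec, rk_mulVec, bf_add_left, bf_self hS.two hS.skew, zero_add, zero_smul, smul_zero,
        smul_eq_zero] at h
      refine h.elim (fun h => huv ?_) hadd
      rw [bf_skew hS.skew, h, neg_zero]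
    · have hd : d = a := hca.resolve_left hc
      have hc' : c = b := hcb.resolve_right fun h => hne (hd.symm.trans h)
      rw [if_pos hc', if_neg (fun h => hne (hd.symm.trans h)), add_zero, neg_smul, add_neg_eq_zero] at hb
      have h := congrArg (· *ᵥ v) (key _ _ hadd hv hc' hb)
      simp only [Matrix.smul_mulVec, rk_mulVec, bf_add_left, bf_self hS.two hS.skew, add_zero, zero_smul, smul_zero,
        smul_eq_zero] at h
      exact h.elim huv hadd
  have hu1 : (Pi.single (⟨0, by have := hS.kpos; omega⟩ : Fin k) (1 : F) : Fin k → F) ≠ 0 := by simp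
  let π : Fin t → Fin t := fun j => π₀ j _ hu1
  have hall : ∀ (j : Fin t) (u : Fin k → F) (hu : u ≠ 0), π₀ j u hu = π j := fun j u hu => by
    obtain ⟨w1, hw1⟩ := exists_bf_ne J hS.det hu
    obtain ⟨w2, hw2⟩ := exists_bf_ne J hS.det hu1
    obtain ⟨w, hwu, hw⟩ : ∃ w, bf J u w ≠ 0 ∧ bf J (Pi.single (⟨0, by have := hS.kpos; omega⟩ : Fin k) 1) w ≠ 0 := by
      by_contra! h
      by_cases h12 : bf J u w2 = 0
      · have h3 := h (w1 + w2) (by rw [bf_add_right, h12, add_zero]; exact hw1)
        rw [bf_add_right, h w1 hw1, zero_add] at h3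
        exact hw2 h3
      · exact hw2 (h w2 h12)
    have hw0 : w ≠ 0 := fun h => hw (by rw [h, bf, mulVec_zero, dotProduct_zero])
    exact (hconst j u w hu hw0 hwu).trans (hconst j _ w hu1 hw0 hw).symm
  refine mem_wreath hS.kpos (hS.tpos) π fun j => ?_
  let P : Matrix (Fin k) (Fin k) F → Prop := fun A => ∃ B, G * sl j A = sl (π j) B * G
  have hP0 : P 0 := ⟨0, by rw [sl_zero, sl_zero, mul_zero, zero_mul]⟩
  have hPa : ∀ A A', P A → P A' → P (A + A') := fun A A' ⟨B, hB⟩ ⟨B', hB'⟩ =>
    ⟨B + B', by rw [sl_add, sl_add, mul_add, hB, hB', add_mul]⟩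
  have hPs : ∀ (c : F) A, P A → P (c • A) := fun c A ⟨B, hB⟩ =>
    ⟨c • B, by rw [sl_smul, sl_smul, mul_smul_comm, hB, smul_mul_assoc]⟩
  have hPQ : ∀ u, P (rk J u u) := fun u => by
    by_cases hu : u = 0
    · rw [hu, rk, zero_vecMulVec]; exact hP0
    refine ⟨s₀ j u hu, ?_⟩
    rw [← hall j u hu, ← hY₀ j u hu]
    simp only [mul_assoc, hG'G, mul_one]
  have hPm : ∀ A A', P A → P A' → P (A * A') := fun A A' ⟨B, hB⟩ ⟨B', hB'⟩ =>
    ⟨B * B', by rw [← sl_mul, ← sl_mul, ← mul_assoc, hB, mul_assoc, hB', mul_assoc]⟩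
  have hP1 : ∀ u v, bf J u v ≠ 0 → P (rk J u v) := fun u v h => by
    have := hPs (bf J u v)⁻¹ _ (hPm _ _ (hPQ u) (hPQ v))
    rwa [rk_mul_rk, smul_smul, inv_mul_cancel₀ h, one_smul] at this
  have hP2 : ∀ u v, P (rk J u v) := fun u v => by
    by_cases hu : u = 0
    · rw [hu, rk, zero_vecMulVec]; exact hP0
    by_cases huv : bf J u v = 0
    · obtain ⟨w, hw⟩ := exists_bf_ne J hS.det hu
      rw [show v = (v + (-1 : F) • w) + w by module, rk_add_right]
      exact hPa _ _ (hP1 _ _ (by rwa [bf_add_right, bf_smul_right, huv, zero_add, neg_one_mul, neg_ne_zero]))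
        (hP1 _ _ hw)
    · exact hP1 u v huv
  intro A
  have hA : A = ∑ a, rk J (Pi.single a 1) (A.row a ᵥ* J⁻¹) := by
    ext a b
    simp only [rk, Matrix.sum_apply, vecMulVec_apply, vecMul_vecMul, nonsing_inv_mul J hS.det, vecMul_one,
      Pi.single_apply, ite_mul, one_mul, zero_mul, Finset.sum_ite_eq, Finset.mem_univ, if_true]
    rfl
  rw [hA]
  refine Finset.sum_induction _ P hPa hP0 fun a _ => hP2 _ _

end Setting

end Cfsg.Agent.ClassicalMax.SpWreath
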