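import Cfsg.Agent.ClassicalMax.SpWreath.Grow

/-!
An even number of slots: from a root element `Q ⊗ c` with `c` not scalar to the root elements of planes of pure tensors
that differ in one slot.
-/

set_option autoImplicit false
set_option linter.unusedSectionVars false
set_option linter.unusedSimpArgs false

namespace Cfsg.Agent.ClassicalMax.SpWreath

open Matrix Cfsg.Geo Cfsg.Agent.ClassicalMax.TPow

variable {F : Type*} [Field F] [Finite F] {k t : ℕ} {J : Matrix (Fin k) (Fin k) F}
  {H : Subgroup (GL (Fin t → Fin k) F)}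

/-- the difference of the two rank-one maps of a pair -/
def pl (J : Matrix (Fin k) (Fin k) F) (x y : Fin k → F) : Matrix (Fin k) (Fin k) F := rk J x y - rk J y x

/-- the root elements of the planes of pure tensors differing in one slot -/
def PlaneAt (J : Matrix (Fin k) (Fin k) F) (H : Subgroup (GL (Fin t → Fin k) F)) (d : Fin t) : Prop :=
  ∀ (a : Fin t → Fin k → F) (x y : Fin k → F), (k = 2 ∨ bf J x y = 0) →
    Root H (tens (Function.update (fun j => rk J (a j) (a j)) d (pl J x y)))

theorem pl_conj (hJ : Jᵀ = -J) (h2 : (2 : F) ≠ 0) (z : Fin k → F) (s : F) (x y : Fin k → F) :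
    (1 + s • rk J z z) * pl J x y * (1 + (-s) • rk J z z) =
      pl J (x + (s * bf J z x) • z) (y + (s * bf J z y) • z) := by
  simp only [pl, mul_sub, sub_mul, mul_add, add_mul, one_mul, mul_one, smul_mul_assoc, mul_smul_comm, rk_mul_rk,
    smul_smul, rk_add_left, rk_add_right, rk_smul_left, rk_smul_right, bf_skew hJ x z, bf_skew hJ y z, smul_sub]
  module

theorem pl_adj (hJ : Jᵀ = -J) (x y : Fin k → F) : (pl J x y)ᵀ * J = J * pl J x y := by
  rw [pl, transpose_sub, sub_mul, rk_transpose J (ε := (-1 : F)) (by rw [hJ, neg_one_smul]),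
    rk_transpose J (ε := (-1 : F)) (by rw [hJ, neg_one_smul]), mul_sub]
  module

theorem pl_mulVec (x y z : Fin k → F) : pl J x y *ᵥ z = bf J y z • x - bf J x z • y := by
  rw [pl, sub_mulVec, rk_mulVec, rk_mulVec]

theorem pl_two (hk : k = 2) (h2 : (2 : F) ≠ 0) (hJ : Jᵀ = -J) (x y : Fin k → F) :
    pl J x y = (-bf J x y) • (1 : Matrix (Fin k) (Fin k) F) := by
  subst hk
  have hd : ∀ a, J a a = 0 := fun a => by
    have h := congrFun (congrFun hJ a) a
    rw [transpose_apply, neg_apply] at h
    refine (mul_eq_zero.1 (show (2 : F) * J a a = 0 by linear_combination h)).resolve_left h2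
  have h10 : J 1 0 = -J 0 1 := by
    have h := congrFun (congrFun hJ 0) 1
    rwa [transpose_apply, neg_apply] at h
  ext a b
  fin_cases a <;> fin_cases b <;>
    simp [pl, rk, bf, vecMulVec_apply, vecMul, mulVec, dotProduct, Fin.sum_univ_two, hd, h10] <;> ring

namespace Setting

variable (hS : Setting J H)
include hS

/-- contractions of a pair of monomials -/
theorem contract {C C' : Fin t → Matrix (Fin k) (Fin k) F} {c : F} (h : Root H (tens C + c • tens C')) {l : Fin t}
    {y : Fin k → F} (hl : C l = rk J y y) (hl' : C' l = rk J y y) (u u' : Fin t → Fin k → F) (s : Finset (Fin t))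
    (hls : l ∉ s)
    (hs : ∀ j ∈ s, C j = rk J (u j) (u' j) ∧ C' j = rk J (u' j) (u j) ∧ bf J (u j) (u' j) ≠ 0) :
    Root H (tens (s.piecewise (fun j => rk J (u j + u' j) (u j + u' j)) C) +
      c • tens (s.piecewise (fun j => rk J (u j + u' j) (u j + u' j)) C')) := by
  induction s using Finset.induction_on with
  | empty => rwa [Finset.piecewise_empty, Finset.piecewise_empty]
  | insert j s hj ih =>
    rw [Finset.mem_insert, not_or] at hls
    obtain ⟨hjl, hls⟩ := hls
    have h := ih hls fun m hm => hs m (Finset.mem_insert_of_mem hm)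
    obtain ⟨hC, hC', hne⟩ := hs j (Finset.mem_insert_self j s)
    set v : Fin t → Matrix (Fin k) (Fin k) F := fun j => rk J (u j + u' j) (u j + u' j) with hv
    set T0 : Fin t → Matrix (Fin k) (Fin k) F := Function.update 1 l (rk J y y) with hT0
    have hsplit : ∀ U : Fin t → Matrix (Fin k) (Fin k) F, U l = rk J y y →
        tens T0 * tens (Function.update U l 1) = tens U ∧ Commute (tens (Function.update U l 1)) (tens T0) :=
      fun U hU => by
        refine ⟨?_, sl_commute_of_one (Function.update_self l 1 U) _⟩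
        rw [tens_mul]
        congr 1
        funext m
        rcases eq_or_ne m l with rfl | hm <;> simp [*]
    have hd1 : s.piecewise v C l = rk J y y := by rw [Finset.piecewise_eq_of_notMem _ _ _ hls, hl]
    have hd2 : s.piecewise v C' l = rk J y y := by rw [Finset.piecewise_eq_of_notMem _ _ _ hls, hl']
    obtain ⟨e1, c1⟩ := hsplit _ hd1
    obtain ⟨e2, c2⟩ := hsplit _ hd2
    rw [← e1, ← e2, ← mul_smul_comm, ← mul_add] at h
    have h' := (hS.extract (T := T0) (i := l) (by rw [hT0, Function.update_self, root_sq hS.two hS.skew])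
      (c1.add_left (c2.smul_left c)) h (j := j) (by rw [hT0, Function.update_of_ne (Ne.symm hjl)]; rfl)
      (u j + u' j)).1
    have hN : ∀ U : Fin t → Matrix (Fin k) (Fin k) F, (U j = rk J (u j) (u' j) ∨ U j = rk J (u' j) (u j)) →
        U l = rk J y y →
        tens T0 * (sl j (v j) * tens (Function.update U l 1) * sl j (v j)) =
          (bf J (u j) (u' j) * bf J (u j) (u' j)) • tens (Function.update U j (v j)) := fun U hU hUl => by
      rw [← tens_update_smul, sl, tens_mul, tens_mul, tens_mul]
      congr 1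
      funext m
      rcases eq_or_ne m j with rfl | hm
      · rw [hT0]
        simp only [Pi.mul_apply, Function.update_self, Function.update_of_ne (Ne.symm hjl), one_mul, Pi.one_apply, v]
        rcases hU with hU | hU <;>
        · rw [hU, rk_mul_rk, smul_mul_assoc, rk_mul_rk, smul_smul]
          congr 1
          simp only [bf_add_left, bf_add_right, bf_self hS.two hS.skew, bf_skew hS.skew (u' m) (u m), zero_add,
            add_zero, neg_mul_neg]
      · rcases eq_or_ne m l with rfl | hml
        · simp [hT0, hm, hUl]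
        · simp [hT0, hm, hml]
    simp only [mul_add, add_mul, mul_smul_comm, smul_mul_assoc] at h'
    rw [hN _ (Or.inl ?_) hd1, hN _ (Or.inr ?_) hd2, smul_comm c, ← smul_add, ← Finset.piecewise_insert,
      ← Finset.piecewise_insert] at h'
    · exact Root.of_smul (mul_ne_zero hne hne) h'
    · rw [Finset.piecewise_eq_of_notMem _ _ _ hj]; exact hC'
    · rw [Finset.piecewise_eq_of_notMem _ _ _ hj]; exact hC

/-- from a self-adjoint non-scalar factor to a plane factor -/
theorem pl_of_adj {T : Fin t → Matrix (Fin k) (Fin k) F} {d i : Fin t} (hid : i ≠ d) (hTi : T i * T i = 0)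
    (hadj : (T d)ᵀ * J = J * T d) (hns : ∀ κ : F, T d ≠ κ • (1 : Matrix (Fin k) (Fin k) F))
    (hT : Root H (tens T)) : ∃ x y : Fin k → F, bf J x y = 0 ∧ x ≠ 0 ∧ (∀ s : F, y ≠ s • x) ∧
      Root H (tens (Function.update T d (pl J x y))) := by
  obtain ⟨v, hv⟩ : ∃ v : Fin k → F, ∀ c : F, T d *ᵥ v ≠ c • v := by
    by_contra! hc
    obtain ⟨κ, hκ⟩ := (T d).mulVecLin.exists_eq_smul_id_of_forall_notLinearIndependent fun v hv => by
      obtain ⟨c, hc'⟩ := hc v
      have := (LinearIndependent.pair_iff.1 hv c (-1) (by rw [mulVecLin_apply, hc']; module)).2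
      exact one_ne_zero (neg_eq_zero.1 this)
    exact hns κ (Matrix.toLin'.injective (LinearMap.ext fun v => by
      rw [Matrix.toLin'_apply, Matrix.toLin'_apply, smul_mulVec, one_mulVec, ← mulVecLin_apply, hκ]; simp))
  set T0 := Function.update T d 1 with hT0
  have e : tens T = tens T0 * sl d (T d) := by
    rw [sl, tens_mul]
    congr 1
    funext l
    rcases eq_or_ne l d with rfl | hl <;> simp [hT0, *]
  rw [e] at hT
  have h := (hS.extract (T := T0) (i := i) (by rw [hT0, Function.update_of_ne hid]; exact hTi)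
    (sl_commute_of_one (Function.update_self d 1 T) _).symm hT (j := d) (Function.update_self d 1 T) v).2
  have hbv : bf J v (T d *ᵥ v) = 0 := by
    have h1 : (J * T d)ᵀ = -(J * T d) := by rw [transpose_mul, hS.skew, mul_neg, hadj]
    have h2 := bf_self hS.two h1 v
    rwa [bf, ← mulVec_mulVec] at h2
  refine ⟨v, T d *ᵥ v, hbv, fun e => hv 0 (by rw [e, mulVec_zero, smul_zero]), hv, ?_⟩
  have e1 : rk J v v * T d = rk J v (T d *ᵥ v) := by
    rw [rk, rk, vecMulVec_mul, vecMul_vecMul, ← hadj, ← vecMul_vecMul, vecMul_transpose]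
  refine cast (congrArg (Root H) ?_) h
  rw [sl_mul, sl_mul, e1, mul_rk, mul_sub, sl, sl, tens_mul, tens_mul,
    show T0 * Function.update (1 : Fin t → Matrix (Fin k) (Fin k) F) d (rk J v (T d *ᵥ v)) = Function.update T d (rk J v (T d *ᵥ v)) from funext fun l => by
      rcases eq_or_ne l d with rfl | hl <;> simp [hT0, *],
    show T0 * Function.update (1 : Fin t → Matrix (Fin k) (Fin k) F) d (rk J (T d *ᵥ v) v) = Function.update T d (rk J (T d *ᵥ v) v) from funext fun l => by
      rcases eq_or_ne l d with rfl | hl <;> simp [hT0, *],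
    sub_eq_add_neg, ← neg_one_smul F (tens _), ← tens_update_smul, ← tens_update_add, pl, neg_one_smul, sub_eq_add_neg]

/-- moving the first vector of a pair keeping orthogonality -/
theorem pl_step (d : Fin t) (z : Fin k → F) (s : F) (x y : Fin k → F) :
    ∃ g ∈ H, ∀ U : Fin t → Matrix (Fin k) (Fin k) F, U d = pl J x y →
      (g : Matrix (Fin t → Fin k) (Fin t → Fin k) F) * tens U *
        ((g⁻¹ : GL (Fin t → Fin k) F) : Matrix (Fin t → Fin k) (Fin t → Fin k) F) =
      tens (Function.update U d (pl J (x + (s * bf J z x) • z) (y + (s * bf J z y) • z))) := by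
  obtain ⟨g, hg, hge⟩ := hS.root d z s
  refine ⟨g, hg, fun U hU => ?_⟩
  rw [hge, inv_val_eq hge (by rw [smul_mul_assoc, mul_smul_comm, sl_mul, root_sq hS.two hS.skew, sl_zero, smul_zero,
      smul_zero]),
    show (1 : Matrix (Fin t → Fin k) (Fin t → Fin k) F) + s • sl d (rk J z z) = sl d (1 + s • rk J z z) by
      rw [sl_add, sl_one, sl_smul],
    show (1 : Matrix (Fin t → Fin k) (Fin t → Fin k) F) - s • sl d (rk J z z) = sl d (1 + (-s) • rk J z z) by
      rw [sl_add, sl_one, sl_smul, neg_smul, sub_eq_add_neg],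
    sl, sl, tens_mul, tens_mul]
  congr 1
  funext l
  rcases eq_or_ne l d with rfl | hl
  · simp only [Pi.mul_apply, Function.update_self, hU]
    exact pl_conj hS.skew hS.two z s x y
  · simp [Function.update_of_ne hl]

/-- all planes of one slot from one of them -/
theorem planeAt_of {T : Fin t → Matrix (Fin k) (Fin k) F} {d : Fin t} {x₀ y₀ : Fin k → F} (hk : 3 ≤ k)
    (hx₀ : x₀ ≠ 0) (hxy : bf J x₀ y₀ = 0) (hne : ∀ s : F, y₀ ≠ s • x₀) (hd : T d = pl J x₀ y₀)
    (hQ : ∀ j, j ≠ d → IsQ J (T j)) (hT : Root H (tens T)) : PlaneAt J H d := by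
  classical
  intro a x y h
  have hxy' : bf J x y = 0 := h.resolve_left (by omega)
  by_cases ha : ∃ j, j ≠ d ∧ a j = 0
  · obtain ⟨j, hj, haj⟩ := ha
    rw [tens_eq_zero_iff.2 ⟨j, by rw [Function.update_of_ne hj, haj, rk, zero_vecMulVec]⟩]
    exact Root.zero
  push Not at ha
  by_cases hxy0 : x = 0 ∨ ∃ s : F, y = s • x
  · rw [tens_eq_zero_iff.2 ⟨d, ?_⟩]
    · exact Root.zero
    rw [Function.update_self, pl]
    rcases hxy0 with rfl | ⟨s, rfl⟩
    · simp [rk]
    · rw [rk_smul_left, rk_smul_right, sub_self]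
  push Not at hxy0
  obtain ⟨hx, hy⟩ := hxy0
  -- transitivity on pairs
  let M : (Fin k → F) → (Fin k → F) → Prop := fun x y => Root H (tens (Function.update T d (pl J x y)))
  have hstep : ∀ {x y} (z : Fin k → F) (s : F), M x y → M (x + (s * bf J z x) • z) (y + (s * bf J z y) • z) :=
    fun {x y} z s h => by
      obtain ⟨g, hg, hU⟩ := hS.pl_step d z s x y
      have h1 := Root.conj h hg
      rwa [hU _ (Function.update_self d _ T), Function.update_idem] at h1
  have hmove : ∀ {x x' y}, bf J x x' ≠ 0 → M x y → ∀ z, z = x' + (-1 : F) • x →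
      M x' (y + ((bf J x' x)⁻¹ * bf J z y) • z) := fun {x x' y} hb h z hz => by
    have hb' : bf J x' x ≠ 0 := by rw [bf_skew hS.skew, neg_ne_zero]; exact hb
    have hzx : bf J z x = bf J x' x := by
      rw [hz, bf_add_left, bf_smul_left, bf_self hS.two hS.skew, mul_zero, add_zero]
    have h1 := hstep z (bf J x' x)⁻¹ h
    rwa [hzx, inv_mul_cancel₀ hb', one_smul, show x + z = x' by rw [hz]; module] at h1
  have hind : ∀ {x y : Fin k → F} (z : Fin k → F) (s : F), (∀ c : F, y ≠ c • x) →
      ∀ c : F, y + (s * bf J z y) • z ≠ c • (x + (s * bf J z x) • z) := fun {x y} z s h c e => by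
    have h1 : bf J z y = c * bf J z x := by
      have := congrArg (bf J z) e
      simp only [bf_add_right, bf_smul_right, bf_self hS.two hS.skew, mul_zero, add_zero] at this
      exact this
    exact h c (by rw [h1] at e; linear_combination (norm := module) e)
  have horth : ∀ {x y : Fin k → F} (z : Fin k → F) (s : F), bf J x y = 0 →
      bf J (x + (s * bf J z x) • z) (y + (s * bf J z y) • z) = 0 := fun {x y} z s h => by
    simp only [bf_add_left, bf_add_right, bf_smul_left, bf_smul_right, bf_self hS.two hS.skew, h,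
      bf_skew hS.skew x z]
    ring
  have hcommon : ∀ {p q : Fin k → F}, p ≠ 0 → q ≠ 0 → ∃ c, bf J p c ≠ 0 ∧ bf J q c ≠ 0 := fun {p q} hp hq => by
    obtain ⟨a, ha⟩ := exists_bf_ne J hS.det hp
    obtain ⟨b, hb⟩ := exists_bf_ne J hS.det hq
    by_cases h1 : bf J q a = 0
    · by_cases h0 : bf J p b = 0
      · exact ⟨a + b, by rwa [bf_add_right, h0, add_zero], by rwa [bf_add_right, h1, zero_add]⟩
      · exact ⟨b, h0, hb⟩
    · exact ⟨a, ha, h1⟩
  have hfirst : ∃ y', M x y' ∧ bf J x y' = 0 ∧ ∀ c : F, y' ≠ c • x := by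
    have h0 : M x₀ y₀ := by
      show Root H _
      rwa [← hd, Function.update_eq_self]
    have one : ∀ {p p' q}, bf J p p' ≠ 0 → M p q → bf J p q = 0 → (∀ c : F, q ≠ c • p) →
        ∃ q', M p' q' ∧ bf J p' q' = 0 ∧ ∀ c : F, q' ≠ c • p' := fun {p p' q} hb h ho hi => by
      set z := p' + (-1 : F) • p with hz
      have hzp : bf J z p = bf J p' p := by
        rw [hz, bf_add_left, bf_smul_left, bf_self hS.two hS.skew, mul_zero, add_zero]
      have e : p + ((bf J p' p)⁻¹ * bf J z p) • z = p' := by
        rw [hzp, inv_mul_cancel₀ (by rw [bf_skew hS.skew, neg_ne_zero]; exact hb), one_smul, hz]; module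
      have h2 := horth z (bf J p' p)⁻¹ ho
      have h3 := hind z (bf J p' p)⁻¹ hi
      rw [e] at h2 h3
      exact ⟨_, hmove hb h z hz, h2, h3⟩
    obtain ⟨c, hc₀, hc⟩ := hcommon hx₀ hx
    obtain ⟨q, hq, ho, hi⟩ := one hc₀ h0 hxy hne
    exact one (by rw [bf_skew hS.skew, neg_ne_zero]; exact hc) hq ho hi
  obtain ⟨y', hy', hxy'', hy'i⟩ := hfirst
  have hsecond : ∀ {p q}, bf J x p = 0 → bf J x q = 0 → bf J p q ≠ 0 → M x p → M x q := fun {p q} hp hq hb h => by
    set z := q + (-1 : F) • p with hz
    have hzx : bf J z x = 0 := by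
      rw [hz, bf_add_left, bf_smul_left, bf_skew hS.skew q x, bf_skew hS.skew p x, hp, hq]; simp
    have hzp : bf J z p = bf J q p := by
      rw [hz, bf_add_left, bf_smul_left, bf_self hS.two hS.skew, mul_zero, add_zero]
    have h1 := hstep z (bf J q p)⁻¹ h
    rwa [hzx, mul_zero, zero_smul, add_zero, hzp,
      inv_mul_cancel₀ (by rw [bf_skew hS.skew, neg_ne_zero]; exact hb), one_smul,
      show p + z = q by rw [hz]; module] at h1
  have hMxy : M x y := by
    have hdual : ∀ p : Fin k → F, (∀ c : F, p ≠ c • x) → ∃ w, bf J x w = 0 ∧ bf J p w ≠ 0 := fun p hp => by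
      by_contra! hc
      obtain ⟨w₀, hw₀⟩ := exists_bf_ne J hS.det hx
      obtain ⟨z, hz⟩ := exists_bf_ne J hS.det (show p + (-(bf J p w₀ / bf J x w₀)) • x ≠ 0 from fun e =>
        hp (bf J p w₀ / bf J x w₀) (by linear_combination (norm := module) e))
      refine hz ?_
      have h3 := hc (z + (-(bf J x z / bf J x w₀)) • w₀) (by
        rw [bf_add_right, bf_smul_right, neg_mul, div_mul_cancel₀ _ hw₀, add_neg_cancel])
      rw [bf_add_right, bf_smul_right] at h3
      rw [bf_add_left, bf_smul_left, ← h3]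
      field_simp
    obtain ⟨c, hxc, h1, h2⟩ : ∃ c, bf J x c = 0 ∧ bf J y' c ≠ 0 ∧ bf J y c ≠ 0 := by
      obtain ⟨a, hxa, ha⟩ := hdual y' hy'i
      obtain ⟨b, hxb, hb⟩ := hdual y hy
      by_cases h1 : bf J y a = 0
      · by_cases h0 : bf J y' b = 0
        · exact ⟨a + b, by rw [bf_add_right, hxa, hxb, add_zero], by rwa [bf_add_right, h0, add_zero],
            by rwa [bf_add_right, h1, zero_add]⟩
        · exact ⟨b, hxb, h0, hb⟩
      · exact ⟨a, hxa, ha, h1⟩
    exact hsecond hxc hxy' (by rw [bf_skew hS.skew, neg_ne_zero]; exact h2) (hsecond hxy'' hxc h1 hy')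
  -- the other slots
  have h1 := hS.conj_all _ (Finset.univ.erase d) (fun j => rk J (a j) (a j)) (fun j hj => ?_) hMxy
  · rwa [show (Finset.univ.erase d).piecewise (fun j => rk J (a j) (a j)) (Function.update T d (pl J x y)) =
        Function.update (fun j => rk J (a j) (a j)) d (pl J x y) from funext fun j => by
      rcases eq_or_ne j d with rfl | hj <;> simp [*]] at h1
  · have hjd := Finset.ne_of_mem_erase hj
    obtain ⟨u, hu, hTu⟩ := hQ j hjd
    obtain ⟨g, hg, hU⟩ := hS.move (j := j) hu (ha j hjd)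
    exact ⟨g, hg, fun U hUj => hU U (hUj.trans ((Function.update_of_ne hjd _ _).trans hTu))⟩

/-- products of slot roots on all but one slot -/
theorem top_of_hasQ (ht : Even t) (h : HasQ J H) (A : Finset (Fin t)) (hA : A.card = t - 1)
    (w : Fin t → Fin k → F) : Root H (tens (A.piecewise (fun j => rk J (w j) (w j)) 1)) := by
  classical
  obtain ⟨A₀, u, hodd, h3, hu, hroot⟩ := h
  have hle : A₀.card ≤ t := by
    have := Finset.card_le_univ A₀
    rwa [Fintype.card_fin] at this
  have hgrow : ∀ r, A₀.card + 2 * r ≤ t → ∃ (A' : Finset (Fin t)) (u : Fin t → Fin k → F),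
      A'.card = A₀.card + 2 * r ∧
      (∀ j ∈ A', u j ≠ 0) ∧ Root H (tens (A'.piecewise (fun j => rk J (u j) (u j)) 1)) := by
    intro r
    induction r with
    | zero => intro _; exact ⟨A₀, u, rfl, hu, hroot⟩
    | succ r ih =>
      intro hr
      exact hS.grow (a := A₀.card + 2 * r) (hodd.add_even ⟨r, by omega⟩) (by omega) (by omega) (ih (by omega))
  obtain ⟨r, hr⟩ : ∃ r, t - 1 = A₀.card + 2 * r := by
    obtain ⟨p, hp⟩ := hodd
    obtain ⟨q, hq⟩ := ht
    exact ⟨q - 1 - p, by omega⟩
  obtain ⟨A', u', hA', hu', hroot'⟩ := hgrow r (by omega)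
  exact hS.all_pure hu' hroot' (by omega) (by omega) w

/-- planes from products of slot roots on all but one slot -/
theorem planeAt_of_top (hk : 3 ≤ k) (ht : Even t) (ht4 : 4 ≤ t)
    (h : ∀ A : Finset (Fin t), A.card = t - 1 → ∀ w : Fin t → Fin k → F,
      Root H (tens (A.piecewise (fun j => rk J (w j) (w j)) 1))) : ∃ d, PlaneAt J H d := by
  classical
  obtain ⟨u, v, huv⟩ : ∃ u v : Fin k → F, bf J u v = 1 := by
    obtain ⟨z, hz⟩ := exists_bf_ne J hS.det (show (Pi.single (⟨0, by omega⟩ : Fin k) (1 : F) : Fin k → F) ≠ 0 by simp)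
    exact ⟨_, (bf J (Pi.single (⟨0, by omega⟩ : Fin k) 1) z)⁻¹ • z, by rw [bf_smul_right, inv_mul_cancel₀ hz]⟩
  have hvu : bf J v u = -1 := by rw [bf_skew hS.skew, huv]
  have huu := bf_self hS.two hS.skew u
  have hvv := bf_self hS.two hS.skew v
  set d : Fin t := ⟨0, by omega⟩
  set l : Fin t := ⟨1, by omega⟩
  set e : Fin t := ⟨2, by omega⟩
  have hdl : d ≠ l := by simp [d, l]
  have hde : d ≠ e := by simp [d, e]
  have hle : l ≠ e := by simp [l, e]
  set T : Fin t → Matrix (Fin k) (Fin k) F := (Finset.univ.erase d).piecewise (fun _ => rk J u u) 1 with hT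
  set T' : Fin t → Matrix (Fin k) (Fin k) F := (Finset.univ.erase l).piecewise (fun _ => rk J v v) 1 with hT'
  have hTr : Root H (tens T) := h _ (by simp) fun _ => u
  have hTr' : Root H (tens T') := h _ (by simp) fun _ => v
  have hTd : T d = 1 ∧ T' d = rk J v v := by simp [hT, hT', hdl]
  have hTl : T l = rk J u u ∧ T' l = 1 := by simp [hT, hT', hdl.symm]
  have hTo : ∀ j, j ≠ d → j ≠ l → T j = rk J u u ∧ T' j = rk J v v := fun j h1 h2 => by simp [hT, hT', h1, h2]
  have hz : ∀ {U : Fin t → Matrix (Fin k) (Fin k) F} (j : Fin t), U j = 0 → tens U = 0 := fun j hj =>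
    tens_eq_zero_iff.2 ⟨j, hj⟩
  have hc := hTr.comm hTr'
    (by rw [tens_mul]; exact hz l (by rw [Pi.mul_apply, hTl.1, root_sq hS.two hS.skew]))
    (by rw [tens_mul]; exact hz d (by rw [Pi.mul_apply, hTd.2, root_sq hS.two hS.skew]))
    (by rw [tens_mul, tens_mul]; exact hz l (by
      rw [Pi.mul_apply, Pi.mul_apply, hTl.1, hTl.2, mul_one, root_sq hS.two hS.skew]))
    (by rw [tens_mul, tens_mul]; exact hz d (by
      rw [Pi.mul_apply, Pi.mul_apply, hTd.1, hTd.2, mul_one, root_sq hS.two hS.skew]))
  set C : Fin t → Matrix (Fin k) (Fin k) F := Function.update (Function.update (fun _ => rk J u v) d (rk J v v)) l (rk J u u)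
    with hC
  set C' : Fin t → Matrix (Fin k) (Fin k) F := Function.update (Function.update (fun _ => rk J v u) d (rk J v v)) l (rk J u u)
    with hC'
  have hval : tens T * tens T' - tens T' * tens T = tens C + (-1 : F) • tens C' := by
    have e1 : T * T' = C := funext fun j => by
      rcases eq_or_ne j l with h1 | h1
      · simp [h1, hC, hTl]
      rcases eq_or_ne j d with h2 | h2
      · simp [h2, hC, hTd, hdl]
      simp [hC, h1, h2, hTo j h2 h1, rk_mul_rk, huv]
    have e2 : T' * T = fun j => (if j = d ∨ j = l then (1 : F) else -1) • C' j := funext fun j => by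
      rcases eq_or_ne j l with h1 | h1
      · simp [h1, hC', hTl]
      rcases eq_or_ne j d with h2 | h2
      · simp [h2, hC', hTd, hdl]
      simp [hC', h1, h2, hTo j h2 h1, rk_mul_rk, hvu]
    have e3 : ∏ j, (if j = d ∨ j = l then (1 : F) else -1) = 1 := by
      rw [← Finset.prod_erase_mul _ _ (Finset.mem_univ d), if_pos (Or.inl rfl), mul_one,
        ← Finset.prod_erase_mul _ _ (show l ∈ Finset.univ.erase d by simp [hdl.symm]), if_pos (Or.inr rfl), mul_one,
        Finset.prod_congr rfl (g := fun _ => (-1 : F)) (fun j hj => by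
          simp only [Finset.mem_erase] at hj
          rw [if_neg (by simp [hj.1, hj.2.1])]),
        Finset.prod_const]
      refine Even.neg_one_pow ?_
      rw [Finset.card_erase_of_mem (by simp [hdl.symm]), Finset.card_erase_of_mem (Finset.mem_univ d),
        Finset.card_univ, Fintype.card_fin]
      obtain ⟨q, hq⟩ := ht
      exact ⟨q - 1, by omega⟩
    rw [tens_mul, tens_mul, e1, e2, tens_smul, e3, one_smul, neg_one_smul, sub_eq_add_neg]
  rw [hval] at hc
  set s : Finset (Fin t) := ((Finset.univ.erase d).erase l).erase e with hs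
  have hmem : ∀ j, j ∈ s ↔ j ≠ d ∧ j ≠ l ∧ j ≠ e := fun j => by
    simp only [hs, Finset.mem_erase, Finset.mem_univ, and_true]; tauto
  have h1 := hS.contract hc (l := l) (y := u) (by simp [hC]) (by simp [hC']) (fun _ => u) (fun _ => v) s
    (fun h => ((hmem l).1 h).2.1 rfl) fun j hj => by
      obtain ⟨a, b, -⟩ := (hmem j).1 hj
      exact ⟨by simp [hC, a, b], by simp [hC', a, b], by rw [huv]; exact one_ne_zero⟩
  set W : Fin t → Matrix (Fin k) (Fin k) F :=
    Function.update (s.piecewise (fun _ => rk J (u + v) (u + v)) C) e (pl J u v) with hW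
  have hW' : Root H (tens W) := by
    refine cast (congrArg (Root H) ?_) h1
    have he : e ∉ s := fun h => ((hmem e).1 h).2.2 rfl
    have a1 : s.piecewise (fun _ => rk J (u + v) (u + v)) C =
        Function.update (s.piecewise (fun _ => rk J (u + v) (u + v)) C) e (rk J u v) := by
      rw [eq_comm, Function.update_eq_self_iff, Finset.piecewise_eq_of_notMem _ _ _ he]
      simp [hC, hle.symm, hde.symm]
    have a2 : s.piecewise (fun _ => rk J (u + v) (u + v)) C' =
        Function.update (s.piecewise (fun _ => rk J (u + v) (u + v)) C) e (rk J v u) := funext fun j => by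
      by_cases hj : j ∈ s
      · have : j ≠ e := fun h => he (h ▸ hj)
        simp [hj, this]
      rw [Finset.piecewise_eq_of_notMem _ _ _ hj]
      rcases eq_or_ne j e with h1 | h1
      · simp [h1, hC', hle.symm, hde.symm]
      rw [Function.update_of_ne h1, Finset.piecewise_eq_of_notMem _ _ _ hj]
      rcases eq_or_ne j l with h2 | h2
      · simp [h2, hC, hC']
      rcases eq_or_ne j d with h3 | h3
      · simp [h3, hdl, hC, hC']
      exact absurd ((hmem j).2 ⟨h3, h2, h1⟩) hj
    rw [a1, a2, ← tens_update_smul, ← tens_update_add, hW, pl, neg_one_smul, sub_eq_add_neg]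
  have hWe : W e = pl J u v := by simp [hW]
  obtain ⟨x, y, hxy, hx, hne, hroot⟩ := hS.pl_of_adj (T := W) (d := e) (i := l) hle
    (by
      have : l ∉ s := fun h => ((hmem l).1 h).2.1 rfl
      simp [hW, hle, this, hC, root_sq hS.two hS.skew])
    (by rw [hWe]; exact pl_adj hS.skew u v)
    (fun κ e' => by
      rw [hWe] at e'
      have h0 : κ = 0 := by
        by_contra hκ
        obtain ⟨w, hw⟩ : ∃ w : Fin k → F, ∀ a b : F, w ≠ a • u + b • v := by
          by_contra! hc
          have hle' : (⊤ : Submodule F (Fin k → F)) ≤ Submodule.span F ({u, v} : Set (Fin k → F)) := fun z _ => by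
            obtain ⟨a, b, hab⟩ := hc z
            exact Submodule.mem_span_pair.2 ⟨a, b, hab.symm⟩
          have h1 := Submodule.finrank_mono hle'
          rw [finrank_top, Module.finrank_fintype_fun_eq_card, Fintype.card_fin] at h1
          have h2 : Module.finrank F (Submodule.span F ({u, v} : Set (Fin k → F))) ≤ 2 := by
            rw [show ({u, v} : Set (Fin k → F)) = ↑({u, v} : Finset (Fin k → F)) by simp]
            exact (finrank_span_finset_le_card _).trans Finset.card_le_two
          omega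
        have h2 := congrArg (· *ᵥ w) e'
        simp only [pl_mulVec, smul_mulVec, one_mulVec] at h2
        refine hw (κ⁻¹ * bf J v w) (-(κ⁻¹ * bf J u w)) ?_
        rw [eq_comm, neg_smul, mul_smul, mul_smul, ← sub_eq_add_neg, ← smul_sub, h2, inv_smul_smul₀ hκ]
      have h3 := congrArg (· *ᵥ u) e'
      simp only [pl_mulVec, h0, zero_smul, huu, hvu, sub_zero, neg_one_smul, zero_mulVec] at h3
      rw [(neg_eq_zero.1 h3 : u = 0), bf, zero_dotProduct] at huv
      exact zero_ne_one huv)
    hW'
  refine ⟨e, hS.planeAt_of hk hx hxy hne (Function.update_self e _ W) (fun j hj => ?_) hroot⟩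
  rw [Function.update_of_ne hj, hW, Function.update_of_ne hj]
  have hu0 : u ≠ 0 := fun e => by rw [e, bf, zero_dotProduct] at huv; exact zero_ne_one huv
  have hv0 : v ≠ 0 := fun e => by rw [e, bf, mulVec_zero, dotProduct_zero] at huv; exact zero_ne_one huv
  by_cases hjs : j ∈ s
  · rw [Finset.piecewise_eq_of_mem _ _ _ hjs]
    exact ⟨u + v, fun e => by
      have : bf J u (u + v) = 0 := by rw [e, bf, mulVec_zero, dotProduct_zero]
      rw [bf_add_right, huu, zero_add, huv] at this
      exact one_ne_zero this, rfl⟩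
  rw [Finset.piecewise_eq_of_notMem _ _ _ hjs]
  rcases eq_or_ne j l with h2 | h2
  · exact ⟨u, hu0, by simp [h2, hC]⟩
  rcases eq_or_ne j d with h3 | h3
  · exact ⟨v, hv0, by simp [h3, hdl, hC]⟩
  exact absurd ((hmem j).2 ⟨h3, h2, hj⟩) hjs

/-- all planes at some slot -/
theorem planeAt (hk : 3 ≤ k) (ht : Even t) (hrad : Rad J H) : ∃ d, PlaneAt J H d := by
  classical
  have htop : HasQ J H → ∃ d, PlaneAt J H d := fun h => hS.planeAt_of_top hk ht (by
    obtain ⟨A, u, -, h3, -, -⟩ := h
    have := Finset.card_le_univ A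
    rw [Fintype.card_fin] at this
    obtain ⟨q, hq⟩ := ht
    omega) (hS.top_of_hasQ ht h)
  rcases hS.hasQ_or_mon hrad with h | ⟨-, T, A, hodd, hA, hB, ⟨d, hd⟩, hroot⟩
  · exact htop h
  obtain ⟨x, y, hy, hxy, hne, hTd⟩ := hB d hd
  have hx : x ≠ 0 := fun e => hne 0 (by rw [e, zero_smul])
  have hne' : ∀ s : F, y ≠ s • x := fun s e => by
    rcases eq_or_ne s 0 with rfl | hs
    · exact hy (by rw [e, zero_smul])
    · exact hne s⁻¹ (by rw [e, inv_smul_smul₀ hs])
  by_cases hone : ∀ j, j ≠ d → j ∈ A
  · exact ⟨d, hS.planeAt_of hk hx hxy hne' hTd (fun j hj => hA j (hone j hj)) hroot⟩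
  push Not at hone
  obtain ⟨l, hld, hl⟩ := hone
  -- the second element
  have hQd : ∀ j, ∃ u u' : Fin k → F, j ∈ A → bf J u u' ≠ 0 ∧ T j = rk J u u ∧
      ∃ g ∈ H, ∀ U : Fin t → Matrix (Fin k) (Fin k) F, U j = T j →
        (g : Matrix (Fin t → Fin k) (Fin t → Fin k) F) * tens U *
          ((g⁻¹ : GL (Fin t → Fin k) F) : Matrix (Fin t → Fin k) (Fin t → Fin k) F) =
        tens (Function.update U j (rk J u' u')) := fun j => by
    by_cases hj : j ∈ A
    · obtain ⟨u, hu, hTu⟩ := hA j hj
      obtain ⟨g, hg, u', huu', hU⟩ := hS.isQ_conj (j := j) hu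
      exact ⟨u, u', fun _ => ⟨huu', hTu, g, hg, fun U hUj => hU U (hUj.trans hTu)⟩⟩
    · exact ⟨0, 0, fun h => absurd h hj⟩
  choose u u' hu using hQd
  have hPd : ∀ j, ∃ x y x' : Fin k → F, j ∉ A → y ≠ 0 ∧ bf J x y = 0 ∧ bf J x x' ≠ 0 ∧ bf J y x' = 0 ∧
      T j = pl J x y ∧
      ∃ g ∈ H, ∀ U : Fin t → Matrix (Fin k) (Fin k) F, U j = T j →
        (g : Matrix (Fin t → Fin k) (Fin t → Fin k) F) * tens U *
          ((g⁻¹ : GL (Fin t → Fin k) F) : Matrix (Fin t → Fin k) (Fin t → Fin k) F) =
        tens (Function.update U j (pl J x' y)) := fun j => by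
    by_cases hj : j ∈ A
    · exact ⟨0, 0, 0, fun h => absurd hj h⟩
    · obtain ⟨x, y, hy, hxy, hne, hTx⟩ := hB j hj
      obtain ⟨g, hg, x', hxx', hyx', hU⟩ := hS.isP_conj (j := j) hy hxy hne
      exact ⟨x, y, x', fun _ => ⟨hy, hxy, hxx', hyx', hTx, g, hg, fun U hUj => hU U (hUj.trans hTx)⟩⟩
  choose p r p' hp using hPd
  obtain ⟨hr0, hpr, hpp', hrp', hTdp, -⟩ := hp d hd
  have hpr' : bf J (r d) (p d) = 0 := by rw [bf_skew hS.skew, hpr, neg_zero]
  have hp'r : bf J (p' d) (r d) = 0 := by rw [bf_skew hS.skew, hrp', neg_zero]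
  -- moving the second vector at the chosen slot
  obtain ⟨z, hpz, hp'z, hrz⟩ : ∃ z, bf J (p d) z = 0 ∧ bf J (p' d) z = 0 ∧ bf J (r d) z ≠ 0 := by
    obtain ⟨z₀, hz₀⟩ := exists_bf_ne J hS.det hr0
    set α := bf J (p d) (p' d)
    refine ⟨z₀ + (-(bf J (p d) z₀ / α)) • p' d + (bf J (p' d) z₀ / α) • p d, ?_, ?_, ?_⟩
    · simp only [bf_add_right, bf_smul_right, bf_self hS.two hS.skew, mul_zero, add_zero]
      field_simp; ring
    · simp only [bf_add_right, bf_smul_right, bf_self hS.two hS.skew, bf_skew hS.skew (p' d) (p d), mul_zero,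
        add_zero]
      field_simp; ring
    · simp only [bf_add_right, bf_smul_right, hrp', hpr', mul_zero, add_zero]
      exact hz₀
  set r' := r d + (1 * bf J z (r d)) • z with hr'
  have hzp' : bf J z (p' d) = 0 := by rw [bf_skew hS.skew, hp'z, neg_zero]
  have hpr'' : bf J (p d) r' = 0 := by rw [hr', bf_add_right, bf_smul_right, hpr, hpz, mul_zero, add_zero]
  have hp'r' : bf J (p' d) r' = 0 := by rw [hr', bf_add_right, bf_smul_right, hp'r, hp'z, mul_zero, add_zero]
  have hrr' : bf J (r d) r' ≠ 0 := by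
    rw [hr', bf_add_right, bf_smul_right, bf_self hS.two hS.skew, zero_add, one_mul, bf_skew hS.skew z, neg_mul,
      neg_ne_zero]
    exact mul_ne_zero hrz hrz
  let T' : Fin t → Matrix (Fin k) (Fin k) F := fun j => if j = d then pl J (p' d) r'
    else if j ∈ A then rk J (u' j) (u' j) else pl J (p' j) (r j)
  have hroot' : Root H (tens T') := by
    let T1 : Fin t → Matrix (Fin k) (Fin k) F := fun j => if j ∈ A then rk J (u' j) (u' j) else pl J (p' j) (r j)
    have h := hS.conj_all T Finset.univ T1 (fun j _ => ?_) hroot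
    · rw [Finset.piecewise_univ] at h
      obtain ⟨g, hg, hU⟩ := hS.pl_step d z 1 (p' d) (r d)
      have h1 := h.conj hg
      rw [hU T1 (by simp only [T1, if_neg hd]), hzp', mul_zero, zero_smul, add_zero] at h1
      rwa [show Function.update T1 d (pl J (p' d) r') = T' from funext fun j => by
        rcases eq_or_ne j d with rfl | hj
        · simp [T']
        · simp [T', T1, hj]] at h1
    · by_cases hj : j ∈ A
      · obtain ⟨g, hg, hU⟩ := (hu j hj).2.2
        exact ⟨g, hg, fun U hUj => by rw [hU U hUj]; simp only [T1, if_pos hj]⟩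
      · obtain ⟨g, hg, hU⟩ := (hp j hj).2.2.2.2.2
        exact ⟨g, hg, fun U hUj => by rw [hU U hUj]; simp only [T1, if_neg hj]⟩
  set S := T d * T' d + T' d * T d with hSd
  let cf : Fin t → F := fun j => if j = d then 1 else if j ∈ A then bf J (u j) (u' j) else -bf J (p j) (p' j)
  let sg : Fin t → F := fun j => if j = d then 1 else -1
  let C : Fin t → Matrix (Fin k) (Fin k) F := fun j => if j = d then T d * T' d
    else if j ∈ A then rk J (u j) (u' j) else rk J (r j) (r j)
  let C' : Fin t → Matrix (Fin k) (Fin k) F := fun j => if j = d then T' d * T d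
    else if j ∈ A then rk J (u' j) (u j) else rk J (r j) (r j)
  have hTT : T * T' = fun j => cf j • C j := funext fun j => by
    simp only [Pi.mul_apply, cf, C]
    rcases eq_or_ne j d with rfl | hjd
    · simp
    rw [if_neg hjd, if_neg hjd]
    by_cases hj : j ∈ A
    · simp only [T', if_neg hjd, if_pos hj]
      rw [(hu j hj).2.1, rk_mul_rk]
    · obtain ⟨-, h1, -, h4, h5, -⟩ := hp j hj
      simp only [T', if_neg hjd, if_neg hj]
      rw [h5]
      simp only [pl, sub_mul, mul_sub, rk_mul_rk, h1, h4, bf_self hS.two hS.skew, zero_smul, sub_zero, zero_sub,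
        neg_smul]
  have hT'T : T' * T = fun j => (sg j * cf j) • C' j := funext fun j => by
    simp only [Pi.mul_apply, cf, C', sg]
    rcases eq_or_ne j d with rfl | hjd
    · simp
    rw [if_neg hjd, if_neg hjd, if_neg hjd, neg_one_mul]
    by_cases hj : j ∈ A
    · simp only [T', if_neg hjd, if_pos hj]
      rw [(hu j hj).2.1, rk_mul_rk, bf_skew hS.skew]
    · obtain ⟨-, h1, -, h4, h5, -⟩ := hp j hj
      simp only [T', if_neg hjd, if_neg hj]
      rw [h5]
      simp only [pl, sub_mul, mul_sub, rk_mul_rk, bf_self hS.two hS.skew, bf_skew hS.skew (r j) (p j),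
        bf_skew hS.skew (p' j) (r j), bf_skew hS.skew (p' j) (p j), h1, h4, neg_zero, zero_smul, sub_zero, zero_sub,
        neg_smul, neg_neg, sub_self]
  have hsg : ∏ j, sg j = -1 := by
    rw [← Finset.prod_erase_mul _ _ (Finset.mem_univ d),
      Finset.prod_congr rfl (g := fun _ => (-1 : F)) (fun j hj => by
        simp only [sg, if_neg (Finset.ne_of_mem_erase hj)]),
      Finset.prod_const, Finset.card_erase_of_mem (Finset.mem_univ d), Finset.card_univ, Fintype.card_fin]
    simp only [sg, if_true, mul_one]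
    obtain ⟨q, hq⟩ := ht
    exact Odd.neg_one_pow ⟨q - 1, by have := hS.tpos; omega⟩
  have hcf : ∏ j, cf j ≠ 0 := Finset.prod_ne_zero_iff.2 fun j _ => by
    simp only [cf]
    split_ifs with h1 h2
    exacts [one_ne_zero, (hu j h2).1, neg_ne_zero.2 (hp j h2).2.2.1]
  have hcomm : Root H (tens C + (1 : F) • tens C') := by
    refine Root.of_smul hcf ?_
    obtain ⟨-, h1, -, h4, h5, -⟩ := hp l hl
    have h1' : bf J (r l) (p l) = 0 := by rw [bf_skew hS.skew, h1, neg_zero]
    have h4' : bf J (p' l) (r l) = 0 := by rw [bf_skew hS.skew, h4, neg_zero]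
    have hl' : T' l = pl J (p' l) (r l) := by simp only [T', if_neg hld, if_neg hl]
    have h := hroot.comm hroot'
      (by
        rw [tens_mul]
        refine tens_eq_zero_iff.2 ⟨l, ?_⟩
        simp only [Pi.mul_apply, h5, pl, sub_mul, mul_sub, rk_mul_rk, h1, h1', bf_self hS.two hS.skew, zero_smul,
          sub_self])
      (by
        rw [tens_mul]
        refine tens_eq_zero_iff.2 ⟨l, ?_⟩
        simp only [Pi.mul_apply, hl', pl, sub_mul, mul_sub, rk_mul_rk, h4, h4', bf_self hS.two hS.skew, zero_smul,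
          sub_self])
      (by
        rw [tens_mul, tens_mul]
        refine tens_eq_zero_iff.2 ⟨l, ?_⟩
        rw [Pi.mul_apply, hTT]
        simp only [C, if_neg hld, if_neg hl, h5, pl, smul_mul_assoc, mul_sub, rk_mul_rk, h1', bf_self hS.two hS.skew,
          zero_smul, sub_self, smul_zero])
      (by
        rw [tens_mul, tens_mul]
        refine tens_eq_zero_iff.2 ⟨l, ?_⟩
        rw [Pi.mul_apply, hT'T]
        simp only [C', if_neg hld, if_neg hl, hl', pl, smul_mul_assoc, mul_sub, rk_mul_rk, h4, bf_self hS.two hS.skew,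
          zero_smul, sub_self, smul_zero])
    rw [tens_mul, tens_mul, hTT, hT'T, tens_smul, tens_smul, Finset.prod_mul_distrib, hsg, neg_one_mul, neg_smul,
      sub_neg_eq_add, ← smul_add] at h
    rwa [one_smul]
  have h1 := hS.contract hcomm (l := l) (y := r l) (by simp only [C, if_neg hld, if_neg hl])
    (by simp only [C', if_neg hld, if_neg hl]) u u' A hl fun j hj => by
      have hjd : j ≠ d := fun h => hd (h ▸ hj)
      exact ⟨by simp only [C, if_neg hjd, if_pos hj], by simp only [C', if_neg hjd, if_pos hj], (hu j hj).1⟩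
  let V : Fin t → Fin k → F := fun j => if j ∈ A then u j + u' j else r j
  have hV : ∀ j, V j ≠ 0 := fun j => by
    simp only [V]
    split_ifs with hj
    · refine fun e => (hu j hj).1 ?_
      rw [eq_neg_of_add_eq_zero_left e, ← neg_one_smul F (u' j), bf_smul_left, bf_self hS.two hS.skew, mul_zero]
    · exact (hp j hj).1
  set W : Fin t → Matrix (Fin k) (Fin k) F := Function.update (fun j => rk J (V j) (V j)) d S with hW
  have hWr : Root H (tens W) := by
    refine cast (congrArg (Root H) ?_) h1
    have e1 : A.piecewise (fun j => rk J (u j + u' j) (u j + u' j)) C =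
        Function.update (fun j => rk J (V j) (V j)) d (T d * T' d) := funext fun j => by
      rcases eq_or_ne j d with rfl | hjd
      · rw [Finset.piecewise_eq_of_notMem _ _ _ hd, Function.update_self]; simp only [C, if_true]
      · by_cases hj : j ∈ A <;> simp [hj, hjd, V, C]
    have e2 : A.piecewise (fun j => rk J (u j + u' j) (u j + u' j)) C' =
        Function.update (fun j => rk J (V j) (V j)) d (T' d * T d) := funext fun j => by
      rcases eq_or_ne j d with rfl | hjd
      · rw [Finset.piecewise_eq_of_notMem _ _ _ hd, Function.update_self]; simp only [C', if_true]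
      · by_cases hj : j ∈ A <;> simp [hj, hjd, V, C']
    rw [e1, e2, one_smul, ← tens_update_add, hW, hSd]
  have hT'd : T' d = pl J (p' d) r' := by simp only [T', if_true]
  by_cases hsc : ∃ κ : F, S = κ • (1 : Matrix (Fin k) (Fin k) F)
  · obtain ⟨κ, hκ⟩ := hsc
    have hκ0 : κ ≠ 0 := fun e => by
      rw [e, zero_smul] at hκ
      have h2 := congrArg (· *ᵥ p d) hκ
      rw [hSd, hT'd, hTdp] at h2
      simp only [add_mulVec, ← mulVec_mulVec, pl_mulVec, hpr', bf_self hS.two hS.skew, zero_smul, sub_zero,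
        mulVec_zero, add_zero, zero_mulVec, bf_skew hS.skew r' (p d), hpr'', neg_zero, zero_sub, mulVec_neg,
        mulVec_smul, zero_smul, neg_eq_zero, smul_eq_zero] at h2
      rcases h2 with h2 | h2 | h2
      · rw [bf_skew hS.skew, neg_eq_zero] at h2; exact hpp' h2
      · exact hrr' h2
      · exact hpp' (by rw [h2, bf, zero_dotProduct])
    refine htop ⟨Finset.univ.erase d, V, ?_, ?_, fun j _ => hV j, ?_⟩
    · rw [Finset.card_erase_of_mem (Finset.mem_univ d), Finset.card_univ, Fintype.card_fin]
      obtain ⟨q, hq⟩ := ht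
      exact ⟨q - 1, by have := hS.tpos; omega⟩
    · rw [Finset.card_erase_of_mem (Finset.mem_univ d), Finset.card_univ, Fintype.card_fin]
      have hsub : insert d (insert l A) ⊆ Finset.univ := Finset.subset_univ _
      have h2 := Finset.card_le_card hsub
      rw [Finset.card_univ, Fintype.card_fin, Finset.card_insert_of_notMem (by simp [hld.symm, hd]),
        Finset.card_insert_of_notMem hl] at h2
      obtain ⟨q, hq⟩ := hodd
      obtain ⟨q', hq'⟩ := ht
      omega
    · refine Root.of_smul hκ0 (cast (congrArg (Root H) ?_) hWr)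
      rw [hW, hκ, tens_update_smul]
      congr 2
      funext j
      rcases eq_or_ne j d with rfl | hj <;> simp [*]
  push Not at hsc
  have hWd : W d = S := Function.update_self ..
  obtain ⟨x', y', hxy', hx', hne'', hroot''⟩ := hS.pl_of_adj (T := W) (d := d) (i := l) hld
    (by rw [hW, Function.update_of_ne hld, root_sq hS.two hS.skew])
    (by
      rw [hWd, hSd, hT'd, hTdp, transpose_add, add_mul, transpose_mul, transpose_mul, mul_assoc, pl_adj hS.skew,
        mul_assoc _ _ J, pl_adj hS.skew, ← mul_assoc, pl_adj hS.skew, ← mul_assoc, pl_adj hS.skew, mul_add,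
        ← mul_assoc, ← mul_assoc, add_comm])
    (fun κ => by rw [hWd]; exact hsc κ) hWr
  refine ⟨d, hS.planeAt_of hk hx' hxy' hne'' (Function.update_self d _ W) (fun j hj => ?_) hroot''⟩
  rw [Function.update_of_ne hj, hW, Function.update_of_ne hj]
  exact ⟨V j, hV j, rfl⟩

/-- two-dimensional slots -/
theorem planeAt_two (hk : k = 2) (ht : Even t) (hrad : Rad J H) : 4 ≤ t ∧ ∀ d, PlaneAt J H d := by
  classical
  rcases hS.hasQ_or_mon hrad with h | ⟨-, T, A, -, -, hB, ⟨d, hd⟩, -⟩
  · refine ⟨?_, fun d a x y _ => ?_⟩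
    · obtain ⟨A, u, -, h3, -, -⟩ := h
      have := Finset.card_le_univ A
      rw [Fintype.card_fin] at this
      obtain ⟨q, hq⟩ := ht
      omega
    have h1 := hS.top_of_hasQ ht h (Finset.univ.erase d)
      (by rw [Finset.card_erase_of_mem (Finset.mem_univ d), Finset.card_univ, Fintype.card_fin]) a
    rw [pl_two hk hS.two hS.skew, tens_update_smul]
    refine Root.smul (cast (congrArg (fun U => Root H (tens U)) (funext fun j => ?_)) h1) _
    rcases eq_or_ne j d with rfl | hj <;> simp [*]
  · exfalso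
    obtain ⟨x, y, hy, hxy, hne, -⟩ := hB d hd
    obtain ⟨z, hz⟩ := exists_bf_ne J hS.det hy
    have hyx : bf J y x = 0 := by rw [bf_skew hS.skew, hxy, neg_zero]
    have hli : LinearIndependent F ![x, y] := linearIndependent_fin2.2 ⟨hy, fun s e => hne s e.symm⟩
    have htop := hli.span_eq_top_of_card_eq_finrank (by rw [Module.finrank_fintype_fun_eq_card]; simp [hk])
    obtain ⟨c, hc⟩ := (Submodule.mem_span_range_iff_exists_fun F).1 (htop ▸ Submodule.mem_top : z ∈ _)
    apply hz
    rw [← hc, Fin.sum_univ_two]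
    simp [bf_add_right, bf_smul_right, hyx, bf_self hS.two hS.skew]

end Setting

end Cfsg.Agent.ClassicalMax.SpWreath
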