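import Cfsg.Agent.ClassicalMax.SpWreath.Grow
import Cfsg.Agent.ClassicalMax.Symplectic
import Cfsg.Agent.Asch.Transport
import Cfsg.Agent.NotMax.Basic

/-!
The stabiliser of a tensor power of a symplectic form is maximal in the symplectic group.
-/

set_option autoImplicit false
set_option linter.unusedSectionVars false

namespace Cfsg.Agent.ClassicalMax.SpWreath

open Matrix Cfsg.Geo Cfsg.Agent.Classical Cfsg.Agent.ClassicalMax Cfsg.Agent.ClassicalMax.TPow
open scoped MatrixGroups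

section Form

variable {F : Type*} [Field F] {ν : Type} [Fintype ν] [DecidableEq ν]

theorem bf_single (G : Matrix ν ν F) (a b : ν) : bf G (Pi.single a 1) (Pi.single b 1) = G a b := by
  simp [bf, dotProduct, mulVec, Pi.single_apply, Finset.sum_ite_eq']

theorem bf_mulVec (G A : Matrix ν ν F) (x y : ν → F) : bf G (A *ᵥ x) (A *ᵥ y) = bf (Aᵀ * G * A) x y := by
  rw [bf, bf, ← mulVec_mulVec, ← mulVec_mulVec, dotProduct_mulVec x Aᵀ, vecMul_transpose]

end Form

variable {F : Type*} [Field F] [Finite F] {k t : ℕ} {J : Matrix (Fin k) (Fin k) F}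

/-- transvections with a pure centre are not in the wreath group -/
theorem not_mem_standard (h2 : (2 : F) ≠ 0) (hJ : Jᵀ = -J) (ht : 2 ≤ t) {u v : Fin k → F} (huv : bf J u v ≠ 0)
    {g : GL (Fin t → Fin k) F}
    (hg : (g : Matrix (Fin t → Fin k) (Fin t → Fin k) F) = 1 + rk (GV J) (pv fun _ => u) (pv fun _ => u)) :
    g ∉ tensorWreathStandard k t F := by
  intro hmem
  let S : Set ((Fin t → Fin k) → F) := {w | ∃ a : Fin t → Fin k → F, w = pv a}
  have hgen : tensorWreathStandard k t F ≤ Cfsg.stabilizing (Cfsg.glToMat (Fin t → Fin k) F) S := by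
    refine (Subgroup.closure_le _).2 fun x hx => NotMax.mem_stabilizing S x ?_
    rintro _ ⟨a, rfl⟩
    rcases hx with ⟨gs, hgs⟩ | ⟨σ, hσ⟩
    · refine ⟨fun j => (gs j : Matrix (Fin k) (Fin k) F) *ᵥ a j, funext fun z => ?_⟩
      simp only [mulVec, dotProduct, pv, hgs, ← Finset.prod_mul_distrib]
      exact (Fintype.prod_sum fun j l => (gs j : Matrix (Fin k) (Fin k) F) (z j) l * a j l).symm
    · refine ⟨fun j => a (σ.symm j), funext fun z => ?_⟩
      simp only [mulVec, dotProduct, pv, hσ, ite_mul, one_mul, zero_mul, Finset.sum_ite_eq', Finset.mem_univ, if_true,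
        Function.comp_apply]
      exact Fintype.prod_equiv σ _ _ fun j => by rw [Equiv.symm_apply_apply]
  obtain ⟨a, ha⟩ := ((hgen hmem) (pv fun _ : Fin t => v)).1 ⟨_, rfl⟩
  change (g : Matrix (Fin t → Fin k) (Fin t → Fin k) F) *ᵥ pv (fun _ : Fin t => v) = pv a at ha
  rw [hg, add_mulVec, one_mulVec, rk_mulVec, bf_pv] at ha
  have key : ∀ z : Fin t → Fin k → F, ∏ j, bf J (z j) (a j) =
      (∏ j, bf J (z j) v) + (∏ _j : Fin t, bf J u v) * ∏ j, bf J (z j) u := fun z => by
    rw [← bf_pv, ← ha, bf_add_right, bf_smul_right, bf_pv, bf_pv]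
  have hvu : bf J v u ≠ 0 := by rw [bf_skew hJ, neg_ne_zero]; exact huv
  set j₀ : Fin t := ⟨0, by omega⟩
  set j₁ : Fin t := ⟨1, by omega⟩
  have h1 := key fun _ => v
  have h3 := key (Function.update (fun _ => u) j₀ v)
  have hu : ∀ j, bf J u (a j) ≠ 0 := fun j e => by
    have h := key fun _ => u
    rw [Finset.prod_eq_zero (Finset.mem_univ j) (show (fun j => bf J u (a j)) j = 0 from e),
      Finset.prod_eq_zero (f := fun _ : Fin t => bf J u u) (Finset.mem_univ j) (bf_self h2 hJ u), mul_zero, add_zero] at h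
    exact Finset.prod_ne_zero_iff.2 (fun _ _ => huv) h.symm
  have hv : ∀ j, bf J v (a j) ≠ 0 := fun j e => by
    rw [Finset.prod_eq_zero (Finset.mem_univ j) (show (fun j => bf J v (a j)) j = 0 from e),
      Finset.prod_eq_zero (f := fun _ : Fin t => bf J v v) (Finset.mem_univ j) (bf_self h2 hJ v), zero_add] at h1
    exact mul_ne_zero (Finset.prod_ne_zero_iff.2 fun _ _ => huv) (Finset.prod_ne_zero_iff.2 fun _ _ => hvu) h1.symm
  have hne : j₁ ≠ j₀ := by simp [j₀, j₁]
  rw [Finset.prod_eq_zero (f := fun j => bf J (Function.update (fun _ => u) j₀ v j) v) (Finset.mem_univ j₀) (show bf J (Function.update (fun _ => u) j₀ v j₀) v = 0 by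
      rw [Function.update_self, bf_self h2 hJ]),
    Finset.prod_eq_zero (f := fun j => bf J (Function.update (fun _ => u) j₀ v j) u) (Finset.mem_univ j₁) (by
      rw [Function.update_of_ne hne, bf_self h2 hJ]), mul_zero, add_zero] at h3
  refine Finset.prod_ne_zero_iff.2 (fun j _ => ?_) h3
  rcases eq_or_ne j j₀ with rfl | hj
  · rw [Function.update_self]; exact hv _
  · rw [Function.update_of_ne hj]; exact hu _

/-- maximality -/
theorem isMaximalIn {m : ℕ} (h2 : (2 : F) ≠ 0) (hJ : Jᵀ = -J) (hdet : IsUnit J.det) (hodd : Odd t) (ht : 2 ≤ t)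
    (hk : 2 ≤ k) (hq : k = 2 → 5 ≤ Nat.card F) (e : (Fin m ⊕ Fin m) ≃ (Fin t → Fin k))
    (P : GL (Fin m ⊕ Fin m) F) {c₀ : F} (hc₀ : c₀ ≠ 0)
    (hf : ∀ x y, Cfsg.sympForm m F (Asch.frL e P x) (Asch.frL e P y) = c₀ * bf (GV J) x y) :
    IsMaximalIn (Cfsg.spGL m F) (tensorWreathSubgroup k t e P ⊓ Cfsg.spGL m F) := by
  classical
  set K := tensorWreathSubgroup k t e P with hK
  set E := glEquiv (Fin m ⊕ Fin m) F
  set A := sympB_isAlt (F := F) (m := m)
  have hKiff : ∀ g, Asch.fr e P g ∈ K ↔ g ∈ tensorWreathStandard k t F := fun g => by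
    rw [hK, ← Asch.map_fr_eq_wreath]
    exact Subgroup.mem_map_iff_mem (f := (Asch.fr e P).toMonoidHom) (Asch.fr e P).injective
  have hiso : ∀ g, Asch.fr e P g ∈ Cfsg.spGL m F ↔ (g : Matrix (Fin t → Fin k) (Fin t → Fin k) F)ᵀ * GV J *
      (g : Matrix (Fin t → Fin k) (Fin t → Fin k) F) = GV J := fun g => by
    have hpair : ∀ x y, Cfsg.sympForm m F ((Asch.fr e P g : Matrix (Fin m ⊕ Fin m) (Fin m ⊕ Fin m) F) *ᵥ
        Asch.frL e P x) ((Asch.fr e P g : Matrix (Fin m ⊕ Fin m) (Fin m ⊕ Fin m) F) *ᵥ Asch.frL e P y) =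
        c₀ * bf ((g : Matrix (Fin t → Fin k) (Fin t → Fin k) F)ᵀ * GV J *
          (g : Matrix (Fin t → Fin k) (Fin t → Fin k) F)) x y := fun x y => by
      rw [Asch.fr_mulVec, Asch.fr_mulVec, hf, bf_mulVec]
    constructor
    · intro h
      ext a b
      have h1 : Cfsg.sympForm m F _ _ = _ := h (Asch.frL e P (Pi.single a 1)) (Asch.frL e P (Pi.single b 1))
      rw [show (Cfsg.glToMat (Fin m ⊕ Fin m) F) (Asch.fr e P g) = (Asch.fr e P g :
        Matrix (Fin m ⊕ Fin m) (Fin m ⊕ Fin m) F) from rfl, hpair, hf, bf_single, bf_single] at h1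
      exact mul_left_cancel₀ hc₀ h1
    · intro h u v
      obtain ⟨x, rfl⟩ := (Asch.frL e P).surjective u
      obtain ⟨y, rfl⟩ := (Asch.frL e P).surjective v
      refine (hpair x y).trans ?_
      rw [h, hf]
  have hG : (GV J (β := Fin t))ᵀ = -GV J := by
    rw [GV_transpose hJ, Fintype.card_fin, hodd.neg_one_pow, neg_one_smul]
  have htv : ∀ (w : (Fin t → Fin k) → F) (s : F) (g : GL (Fin t → Fin k) F),
      (g : Matrix (Fin t → Fin k) (Fin t → Fin k) F) = 1 + (-(s * c₀)) • rk (GV J) w w →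
      Alt.tv A (Asch.frL e P w) s = E (Asch.fr e P g) := fun w s g hg => by
    refine LinearEquiv.ext fun u => ?_
    obtain ⟨x, rfl⟩ := (Asch.frL e P).surjective u
    rw [glEquiv_apply, Asch.fr_mulVec, show PrimeDim.mat g = _ from hg, add_mulVec, one_mulVec, smul_mulVec, rk_mulVec, Alt.tv_apply, sympB_apply,
      hf, map_add, map_smul, map_smul, smul_smul, bf_skew hG w x]
    congr 2
    ring
  have hrk : ∀ w, rk (GV J) w w * rk (GV J (β := Fin t)) w w = 0 := fun w => by
    rw [rk_mul_rk, bf_self h2 hG, zero_smul]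
  refine isMaximalIn_spGL K ?_ fun M hK' hg v => ?_
  · obtain ⟨u, v, huv⟩ : ∃ u v, bf J u v ≠ 0 := by
      have hu : (Pi.single (⟨0, by omega⟩ : Fin k) (1 : F) : Fin k → F) ≠ 0 := by simp
      exact ⟨_, exists_bf_ne J hdet hu⟩
    set w : (Fin t → Fin k) → F := pv fun _ => u
    refine ⟨Asch.frL e P w, -c₀⁻¹, fun hmem => ?_⟩
    refine not_mem_standard h2 hJ ht huv (g := uni (rk (GV J) w w) (hrk w)) rfl ((hKiff _).1 ?_)
    rw [htv w _ (uni (rk (GV J) w w) (hrk w)) (by
      rw [neg_mul, neg_neg, inv_mul_cancel₀ hc₀, one_smul]; rfl), MulEquiv.symm_apply_apply] at hmem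
    exact hmem
  · let H : Subgroup (GL (Fin t → Fin k) F) :=
      ((M.comap E.toMonoidHom) ⊓ Cfsg.spGL m F).comap (Asch.fr e P).toMonoidHom
    have hS : Setting J H :=
      Setting.of_wreath h2 hJ hdet hodd hk (fun g hgH => (hiso g).1 hgH.2)
        fun g hgw hgi => ⟨hK' _ ((glEquiv_mem_iso_iff _).2 ((hiso g).2 hgi)) (by
            rw [MulEquiv.coe_toMonoidHom, MulEquiv.symm_apply_apply]; exact (hKiff g).2 hgw), (hiso g).2 hgi⟩
    obtain ⟨x, hxM, hxi, hxK⟩ := hg
    obtain ⟨g, hgx⟩ := (Asch.fr e P).surjective (E.symm x)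
    have hgH : g ∈ H := by
      show E (Asch.fr e P g) ∈ M ∧ Asch.fr e P g ∈ Cfsg.spGL m F
      rw [hgx, MulEquiv.apply_symm_apply]
      refine ⟨hxM, ?_⟩
      rw [← glEquiv_mem_iso_iff, MulEquiv.apply_symm_apply]
      exact hxi
    have hrad : Rad J H := by
      by_contra hne
      exact hxK (hgx ▸ (hKiff g).2 (hS.rad_or_standard hq hne hgH))
    obtain ⟨w, rfl⟩ := (Asch.frL e P).surjective v
    intro s
    obtain ⟨h, hh, hhe⟩ := hS.all_transvections hodd (hS.hasQ hodd hrad) w (-(s * c₀))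
    rw [htv w s h hhe]
    exact hh.1

end Cfsg.Agent.ClassicalMax.SpWreath
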