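import Cfsg.Agent.ClassicalMax.SpWreath.Reduce

/-!
From a root element that is a product of slot root elements on an odd set of slots to all transvections.
-/

set_option autoImplicit false
set_option linter.unusedSectionVars false

namespace Cfsg.Agent.ClassicalMax.SpWreath

open Matrix Cfsg.Geo Cfsg.Agent.ClassicalMax.TPow

variable {F : Type*} [Field F] [Finite F] {k t : ℕ} {J : Matrix (Fin k) (Fin k) F}
  {H : Subgroup (GL (Fin t → Fin k) F)}

/-- a pure tensor -/
def pv {α : Type} [Fintype α] (f : α → Fin k → F) : (α → Fin k) → F := fun y => ∏ j, f j (y j)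

theorem vecMul_pv {α : Type} [Fintype α] [DecidableEq α] (f : α → Fin k → F) (y : α → Fin k) :
    (pv f ᵥ* GV J) y = ∏ j, (f j ᵥ* J) (y j) := by
  simp only [vecMul, dotProduct, pv, GV, tens_apply, ← Finset.prod_mul_distrib]
  exact (Fintype.prod_sum fun j a => f j a * J a (y j)).symm

theorem rk_pv {α : Type} [Fintype α] [DecidableEq α] (f g : α → Fin k → F) :
    rk (GV J) (pv f) (pv g) = tens fun j => rk J (f j) (g j) := by
  ext x y
  simp only [rk, vecMulVec_apply, tens_apply, vecMul_pv, Finset.prod_mul_distrib]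
  rfl

theorem bf_pv {α : Type} [Fintype α] [DecidableEq α] (f g : α → Fin k → F) :
    bf (GV J) (pv f) (pv g) = ∏ j, bf J (f j) (g j) := by
  simp only [bf, dotProduct_mulVec]
  simp only [dotProduct, vecMul_pv, pv, ← Finset.prod_mul_distrib]
  exact (Fintype.prod_sum fun j a => (f j ᵥ* J) a * g j a).symm

/-- all root elements supported by the slots in the image of a map -/
def Full (J : Matrix (Fin k) (Fin k) F) (H : Subgroup (GL (Fin t → Fin k) F)) {α : Type} [Fintype α] [DecidableEq α]
    {e : α → Fin t} (he : Function.Injective e) : Prop :=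
  ∀ f : (α → Fin k) → F, Root H (emb he (rk (GV J) f f) 1)

/-- three non-zero functionals have a common non-zero value -/
theorem avoid {ν : Type} [Fintype ν] [DecidableEq ν] (h2 : (2 : F) ≠ 0) {φ : Fin 3 → ν → F} (h : ∀ i, φ i ≠ 0) :
    ∃ c : ν → F, ∀ i, φ i ⬝ᵥ c ≠ 0 := by
  obtain ⟨x, hx0, hx1⟩ : ∃ x, φ 0 ⬝ᵥ x ≠ 0 ∧ φ 1 ⬝ᵥ x ≠ 0 := by
    obtain ⟨a, ha⟩ := Function.ne_iff.1 (h 0)
    obtain ⟨b, hb⟩ := Function.ne_iff.1 (h 1)
    have ha' : φ 0 ⬝ᵥ Pi.single a 1 ≠ 0 := by rwa [dotProduct_single_one]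
    have hb' : φ 1 ⬝ᵥ Pi.single b 1 ≠ 0 := by rwa [dotProduct_single_one]
    by_cases h1 : φ 1 ⬝ᵥ Pi.single a 1 = 0
    · by_cases h0 : φ 0 ⬝ᵥ Pi.single b 1 = 0
      · refine ⟨Pi.single a 1 + Pi.single b 1, ?_, ?_⟩
        · rwa [dotProduct_add, h0, add_zero]
        · rwa [dotProduct_add, h1, zero_add]
      · exact ⟨_, h0, hb'⟩
    · exact ⟨_, ha', h1⟩
  by_cases hx2 : φ 2 ⬝ᵥ x = 0
  swap
  · exact ⟨x, fun i => by fin_cases i <;> assumption⟩
  obtain ⟨b, hb⟩ := Function.ne_iff.1 (h 2)
  set y : ν → F := Pi.single b 1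
  have hy : φ 2 ⬝ᵥ y ≠ 0 := by rwa [dotProduct_single_one]
  by_cases hy' : φ 0 ⬝ᵥ y ≠ 0 ∧ φ 1 ⬝ᵥ y ≠ 0
  · exact ⟨y, fun i => by fin_cases i <;> [exact hy'.1; exact hy'.2; exact hy]⟩
  rw [not_and_or, not_not, not_not] at hy'
  have h11 : (1 : F) ≠ -1 := fun e => h2 (by linear_combination e)
  obtain ⟨s, hs, hs0, hs1⟩ : ∃ s : F, s ≠ 0 ∧ φ 0 ⬝ᵥ x + s * (φ 0 ⬝ᵥ y) ≠ 0 ∧ φ 1 ⬝ᵥ x + s * (φ 1 ⬝ᵥ y) ≠ 0 := by
    rcases hy' with h0 | h1
    · by_cases e : φ 1 ⬝ᵥ x + 1 * (φ 1 ⬝ᵥ y) = 0
      · refine ⟨-1, neg_ne_zero.2 one_ne_zero, by rwa [h0, mul_zero, add_zero], fun e' => hx1 ?_⟩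
        refine (mul_eq_zero.1 (show (2 : F) * (φ 1 ⬝ᵥ x) = 0 by linear_combination e + e')).resolve_left h2
      · exact ⟨1, one_ne_zero, by rwa [h0, mul_zero, add_zero], e⟩
    · by_cases e : φ 0 ⬝ᵥ x + 1 * (φ 0 ⬝ᵥ y) = 0
      · refine ⟨-1, neg_ne_zero.2 one_ne_zero, fun e' => hx0 ?_, by rwa [h1, mul_zero, add_zero]⟩
        refine (mul_eq_zero.1 (show (2 : F) * (φ 0 ⬝ᵥ x) = 0 by linear_combination e + e')).resolve_left h2
      · exact ⟨1, one_ne_zero, e, by rwa [h1, mul_zero, add_zero]⟩
  refine ⟨x + s • y, fun i => ?_⟩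
  fin_cases i
  · simpa [dotProduct_add, dotProduct_smul] using hs0
  · simpa [dotProduct_add, dotProduct_smul] using hs1
  · simp [dotProduct_add, dotProduct_smul, hx2, hs, hy]

/-- three non-zero functionals have a common pure tensor with non-zero values -/
theorem avoid_pure {α : Type} [Fintype α] [DecidableEq α] (h2 : (2 : F) ≠ 0) {ψ : Fin 3 → (α → Fin k) → F}
    (h : ∀ i, ψ i ≠ 0) : ∃ c : α → Fin k → F, ∀ i, ψ i ⬝ᵥ pv c ≠ 0 := by
  classical
  rcases isEmpty_or_nonempty (α → Fin k) with hE | ⟨⟨z⟩⟩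
  · exact absurd (funext fun y => isEmptyElim y) (h 0)
  suffices ∀ s : Finset α, ∃ c : α → Fin k → F, ∀ i,
      tens (s.piecewise (fun j => Matrix.of fun _ a => c j a) 1) *ᵥ ψ i ≠ 0 by
    obtain ⟨c, hc⟩ := this Finset.univ
    refine ⟨c, fun i hi => hc i ?_⟩
    rw [Finset.piecewise_univ]
    funext y
    simp only [mulVec, dotProduct, tens_apply, Matrix.of_apply] at hi ⊢
    rw [Pi.zero_apply, ← hi]
    exact Finset.sum_congr rfl fun w _ => mul_comm _ _
  intro s
  induction s using Finset.induction_on with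
  | empty => exact ⟨0, fun i => by rw [Finset.piecewise_empty, tens_one, one_mulVec]; exact h i⟩
  | insert j s hj ih =>
    obtain ⟨c, hc⟩ := ih
    choose y hy using fun i => Function.ne_iff.1 (hc i)
    obtain ⟨cj, hcj⟩ := avoid h2 (φ := fun i a =>
      (tens (s.piecewise (fun j => Matrix.of fun _ a => c j a) 1) *ᵥ ψ i) (Function.update (y i) j a)) fun i e => hy i (by
        have := congrFun e (y i j)
        rwa [Function.update_eq_self] at this)
    refine ⟨Function.update c j cj, fun i e => hcj i ?_⟩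
    have e1 : tens ((insert j s).piecewise (fun l => Matrix.of fun _ a => Function.update c j cj l a) 1) =
        sl j (Matrix.of fun _ a => cj a) * tens (s.piecewise (fun l => Matrix.of fun _ a => c l a) 1) := by
      rw [sl, tens_mul]
      congr 1
      funext l
      rcases eq_or_ne l j with rfl | hl
      · simp [hj]
      · simp [Finset.piecewise, hl]
    rw [e1, ← mulVec_mulVec] at e
    have h3 := congrFun e (y i)
    set φ' := tens (s.piecewise (fun l => Matrix.of fun _ a => c l a) 1) *ᵥ ψ i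
    rw [Pi.zero_apply] at h3
    rw [← h3]
    simp only [mulVec, dotProduct, sl_apply, Matrix.of_apply, ite_mul, zero_mul]
    refine Finset.sum_of_injOn (fun a => Function.update (y i) j a) (fun a _ b _ h => ?_) (by simp) (fun w _ hw => ?_)
      (fun a _ => ?_)
    · simpa using congrFun h j
    · rw [if_neg]
      intro h
      refine hw ⟨w j, by simp, funext fun l => ?_⟩
      rcases eq_or_ne l j with rfl | hl
      · simp
      · simp [hl, h l hl]
    · rw [if_pos fun l hl => by simp [hl], Function.update_self]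
      exact mul_comm _ _

namespace Setting

variable (hS : Setting J H)
include hS

theorem move_one {j : Fin t} {u w : Fin k → F} (h : bf J u w ≠ 0) :
    ∃ g ∈ H, ∀ U : Fin t → Matrix (Fin k) (Fin k) F, U j = rk J u u →
      (g : Matrix (Fin t → Fin k) (Fin t → Fin k) F) * tens U *
        ((g⁻¹ : GL (Fin t → Fin k) F) : Matrix (Fin t → Fin k) (Fin t → Fin k) F) =
      tens (Function.update U j (rk J w w)) := by
  set s := (bf J w u)⁻¹ with hs
  have hwu : bf J w u ≠ 0 := by rw [bf_skew hS.skew, neg_ne_zero]; exact h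
  set z := w + (-1 : F) • u with hz
  have hzu : bf J z u = bf J w u := by
    rw [hz, bf_add_left, bf_smul_left, bf_self hS.two hS.skew, mul_zero, add_zero]
  have huz : bf J u z = -bf J w u := by rw [bf_skew hS.skew, hzu]
  obtain ⟨g, hg, hge⟩ := hS.root j z s
  refine ⟨g, hg, fun U hU => ?_⟩
  rw [hge, inv_val_eq hge (by rw [smul_mul_assoc, mul_smul_comm, sl_mul, root_sq hS.two hS.skew, sl_zero, smul_zero,
      smul_zero]),
    show (1 : Matrix (Fin t → Fin k) (Fin t → Fin k) F) + s • sl j (rk J z z) = sl j (1 + s • rk J z z) by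
      rw [sl_add, sl_one, sl_smul],
    show (1 : Matrix (Fin t → Fin k) (Fin t → Fin k) F) - s • sl j (rk J z z) = sl j (1 + (-s) • rk J z z) by
      rw [sl_add, sl_one, sl_smul, neg_smul, sub_eq_add_neg],
    sl, sl, tens_mul, tens_mul]
  congr 1
  funext l
  rcases eq_or_ne l j with rfl | hl
  · have hw : w = u + (s * bf J z u) • z := by
      rw [hzu, hs, inv_mul_cancel₀ hwu, one_smul, hz]; module
    simp only [Pi.mul_apply, Function.update_self, hU]
    rw [hw]
    simp only [mul_add, add_mul, one_mul, mul_one, mul_smul_comm, smul_mul_assoc, rk_add_left, rk_add_right,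
      rk_smul_left, rk_smul_right, rk_mul_rk, hzu, huz]
    module
  · simp [Function.update_of_ne hl]

theorem move {j : Fin t} {u w : Fin k → F} (hu : u ≠ 0) (hw : w ≠ 0) :
    ∃ g ∈ H, ∀ U : Fin t → Matrix (Fin k) (Fin k) F, U j = rk J u u →
      (g : Matrix (Fin t → Fin k) (Fin t → Fin k) F) * tens U *
        ((g⁻¹ : GL (Fin t → Fin k) F) : Matrix (Fin t → Fin k) (Fin t → Fin k) F) =
      tens (Function.update U j (rk J w w)) := by
  by_cases h : bf J u w = 0
  swap
  · exact hS.move_one h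
  obtain ⟨a, ha⟩ := exists_bf_ne J hS.det hu
  obtain ⟨b, hb⟩ := exists_bf_ne J hS.det hw
  obtain ⟨c, hcu, hcw⟩ : ∃ c, bf J u c ≠ 0 ∧ bf J w c ≠ 0 := by
    by_cases h1 : bf J w a = 0
    · by_cases h0 : bf J u b = 0
      · exact ⟨a + b, by rwa [bf_add_right, h0, add_zero], by rwa [bf_add_right, h1, zero_add]⟩
      · exact ⟨b, h0, hb⟩
    · exact ⟨a, ha, h1⟩
  obtain ⟨g, hg, hgU⟩ := hS.move_one (j := j) hcu
  obtain ⟨g', hg', hgU'⟩ := hS.move_one (j := j) (u := c) (w := w) (by rw [bf_skew hS.skew, neg_ne_zero]; exact hcw)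
  refine ⟨g' * g, mul_mem hg' hg, fun U hU => ?_⟩
  have e := hgU' _ (Function.update_self j (rk J c c) U)
  rw [← hgU U hU, Function.update_idem] at e
  rw [← e, Units.val_mul, _root_.mul_inv_rev, Units.val_mul]
  simp only [mul_assoc]

/-- all vectors and all sets of the same size -/
theorem all_pure {A : Finset (Fin t)} {u : Fin t → Fin k → F} (hu : ∀ j ∈ A, u j ≠ 0)
    (h : Root H (tens (A.piecewise (fun j => rk J (u j) (u j)) 1))) {A' : Finset (Fin t)}
    (hcard : A'.card = A.card) (h2 : 2 ≤ A'.card) (w : Fin t → Fin k → F) :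
    Root H (tens (A'.piecewise (fun j => rk J (w j) (w j)) 1)) := by
  classical
  by_cases hw : ∀ j ∈ A', w j ≠ 0
  swap
  · push Not at hw
    obtain ⟨j, hj, hwj⟩ := hw
    rw [tens_eq_zero_iff.2 ⟨j, by rw [Finset.piecewise_eq_of_mem _ _ _ hj, hwj, rk, zero_vecMulVec]⟩]
    exact Root.zero
  have e : {x // x ∈ A} ≃ {x // x ∈ A'} := Fintype.equivOfCardEq (by simp [hcard])
  let τ : Equiv.Perm (Fin t) := Equiv.extendSubtype e
  have hτ : ∀ j, τ.symm j ∈ A ↔ j ∈ A' := fun j => by
    constructor
    · intro h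
      have := Equiv.extendSubtype_mem e (τ.symm j) h
      rwa [Equiv.apply_symm_apply] at this
    · intro h
      by_contra hn
      have := Equiv.extendSubtype_not_mem e (τ.symm j) hn
      rw [Equiv.apply_symm_apply] at this
      exact this h
  obtain ⟨σ, hσs, hσ⟩ : ∃ σ : Equiv.Perm (Fin t), (Equiv.Perm.sign σ = 1 ∨ Odd t) ∧ ∀ j, σ.symm j ∈ A ↔ j ∈ A' := by
    rcases Int.units_eq_one_or (Equiv.Perm.sign τ) with h1 | h1
    · exact ⟨τ, Or.inl h1, hτ⟩
    obtain ⟨a₁, ha₁, a₂, ha₂, hne⟩ := Finset.one_lt_card.1 h2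
    refine ⟨Equiv.swap a₁ a₂ * τ, Or.inl (by rw [map_mul, h1, Equiv.Perm.sign_swap hne]; rfl), fun j => ?_⟩
    show τ.symm ((Equiv.swap a₁ a₂) j) ∈ A ↔ _
    rw [hτ]
    rcases eq_or_ne j a₁ with rfl | h3
    · simp [ha₁, ha₂]
    rcases eq_or_ne j a₂ with rfl | h4
    · simp [ha₁, ha₂]
    rw [Equiv.swap_apply_of_ne_of_ne h3 h4]
  have h1 := hS.root_perm h σ hσs
  have h2 := hS.conj_all _ A' (fun j => rk J (w j) (w j)) (fun j hj => ?_) h1
  · rwa [show A'.piecewise (fun j => rk J (w j) (w j))
        (fun j => A.piecewise (fun j => rk J (u j) (u j)) 1 (σ.symm j)) =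
      A'.piecewise (fun j => rk J (w j) (w j)) 1 from funext fun j => by
        by_cases hj : j ∈ A'
        · simp [hj]
        · simp [hj, (hσ j).not.2 hj]] at h2
  · obtain ⟨g, hg, hU⟩ := hS.move (j := j) (hu _ ((hσ j).2 hj)) (hw j hj)
    exact ⟨g, hg, fun U hUj => hU U (hUj.trans (Finset.piecewise_eq_of_mem _ _ _ ((hσ j).2 hj)))⟩

theorem emb_pure {α : Type} [Fintype α] [DecidableEq α] {e : α → Fin t} (he : Function.Injective e)
    (f g : Fin t → Fin k → F) : emb he (rk (GV J) (pv (f ∘ e)) (pv (g ∘ e))) 1 =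
      tens ((Finset.univ.map ⟨e, he⟩).piecewise (fun j => rk J (f j) (g j)) 1) := by
  rw [rk_pv, ← emb_tens he ((Finset.univ.map ⟨e, he⟩).piecewise (fun j => rk J (f j) (g j)) 1)]
  congr 1
  · congr 1
    funext a
    simp only [Function.comp_apply]
    rw [Finset.piecewise_eq_of_mem]
    exact Finset.mem_map_of_mem ⟨e, he⟩ (Finset.mem_univ a)
  · rw [← tens_one]
    congr 1
    funext j
    rw [Finset.piecewise_eq_of_notMem]
    · rfl
    · simp only [Finset.mem_map, Finset.mem_univ, true_and, Function.Embedding.coeFn_mk, not_exists]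
      exact fun a => j.2 a

/-- closure of the centres -/
theorem full_of_pure {α : Type} [Fintype α] [DecidableEq α] {e : α → Fin t} (he : Function.Injective e)
    (hodd : Odd (Fintype.card α)) (h : ∀ f : α → Fin k → F, Root H (emb he (rk (GV J) (pv f) (pv f)) 1)) :
    Full J H he := by
  classical
  have hG : (GV J (β := α))ᵀ = -GV J := by rw [GV_transpose hS.skew, hodd.neg_one_pow, neg_one_smul]
  set C : Set ((α → Fin k) → F) := {f | Root H (emb he (rk (GV J) f f) 1)} with hC
  have hsm : ∀ (c : F) f, f ∈ C → c • f ∈ C := fun c f hf => by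
    show Root H _
    rw [rk_smul_left, rk_smul_right, smul_smul, emb_smul_left]
    exact Root.smul hf _
  have hstep : ∀ f g, f ∈ C → g ∈ C → bf (GV J) f g ≠ 0 → f + g ∈ C := fun f g hf hg hfg => by
    set r := (bf (GV J) g f)⁻¹ with hr
    have hgf : bf (GV J) g f ≠ 0 := by rw [bf_skew hG, neg_ne_zero]; exact hfg
    obtain ⟨a, ha, hae⟩ := hg r
    have h1 := Root.conj hf ha
    have hgg := bf_self hS.two hG g
    rw [hae, inv_val_eq hae (by rw [smul_mul_assoc, mul_smul_comm, emb_mul, rk_mul_rk, hgg, zero_smul, one_mul,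
      emb_zero_left' he, smul_zero, smul_zero])] at h1
    show Root H _
    refine cast (congrArg (Root H) ?_) h1
    simp only [add_mul, one_mul, mul_sub, mul_one, smul_mul_assoc, mul_smul_comm, emb_mul, rk_mul_rk, rk_add_left,
      rk_add_right, emb_add_left, emb_smul_left, bf_skew hG f g, smul_smul, hr, smul_sub]
    match_scalars <;> field_simp
  have hpure : ∀ c : α → Fin k → F, pv c ∈ C := h
  have hadd : ∀ f ∈ C, ∀ w : α → Fin k → F, f + pv w ∈ C := fun f hf w => by
    by_cases hfw : bf (GV J) f (pv w) = 0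
    swap
    · exact hstep f _ hf (hpure w) hfw
    by_cases h0 : f + pv w = 0
    · rw [h0]
      simpa using hsm 0 f hf
    by_cases hf0 : f = 0
    · rw [hf0, zero_add]; exact hpure w
    by_cases hw0 : pv w = 0
    · rw [hw0, add_zero]; exact hf
    have hdet : IsUnit (GV J (β := α)).det := GV_det hS.det
    have hne : ∀ z : (α → Fin k) → F, z ≠ 0 → z ᵥ* GV J ≠ 0 := fun z hz e => hz
      (Matrix.vecMul_injective_of_isUnit ((isUnit_iff_isUnit_det _).2 hdet) (e.trans (zero_vecMul _).symm))
    obtain ⟨c, hc⟩ := avoid_pure (F := F) (k := k) (α := α) hS.two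
      (ψ := ![f ᵥ* GV J, pv w ᵥ* GV J, (f + pv w) ᵥ* GV J])
      (fun i => by fin_cases i <;> [exact hne _ hf0; exact hne _ hw0; exact hne _ h0])
    have hb0 : bf (GV J) f (pv c) ≠ 0 := by rw [bf, dotProduct_mulVec]; exact hc 0
    have hb1 : bf (GV J) (pv w) (pv c) ≠ 0 := by rw [bf, dotProduct_mulVec]; exact hc 1
    have hb2 : bf (GV J) (f + pv w) (pv c) ≠ 0 := by rw [bf, dotProduct_mulVec]; exact hc 2
    have h1 := hstep _ _ hf (hpure c) hb0
    have h2 := hstep _ _ h1 (hpure w) (by rw [bf_add_left, hfw, zero_add, bf_skew hG, neg_ne_zero]; exact hb1)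
    have h3 := hstep _ _ h2 (hsm (-1) _ (hpure c)) (by
      rw [bf_smul_right, show f + pv c + pv w = f + pv w + pv c by abel, bf_add_left, bf_self hS.two hG, add_zero]
      exact mul_ne_zero (neg_ne_zero.2 one_ne_zero) hb2)
    rwa [show f + pv c + pv w + (-1 : F) • pv c = f + pv w by module] at h3
  intro f
  show f ∈ C
  rcases isEmpty_or_nonempty α with hE | ⟨⟨a₀⟩⟩
  · exact absurd hodd (by rw [Fintype.card_eq_zero]; exact Nat.not_odd_zero)
  have e : f = ∑ y, pv (Function.update (fun j => Pi.single (y j) (1 : F)) a₀ (f y • Pi.single (y a₀) 1)) := by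
    funext x
    rw [Finset.sum_apply, Finset.sum_eq_single x]
    · simp only [pv]
      rw [← Finset.mul_prod_erase _ _ (Finset.mem_univ a₀), Function.update_self, Pi.smul_apply, Pi.single_eq_same,
        smul_eq_mul, mul_one, Finset.prod_eq_one fun j hj => ?_, mul_one]
      rw [Function.update_of_ne (Finset.ne_of_mem_erase hj), Pi.single_eq_same]
    · intro y _ hy
      obtain ⟨j, hj⟩ := Function.ne_iff.1 hy
      refine Finset.prod_eq_zero (Finset.mem_univ j) ?_
      rcases eq_or_ne j a₀ with rfl | hja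
      · simp [Ne.symm hj]
      · simp [hja, Ne.symm hj]
    · exact fun h => absurd (Finset.mem_univ x) h
  suffices ∀ (g : (α → Fin k) → α → Fin k → F) (s : Finset (α → Fin k)), ∑ y ∈ s, pv (g y) ∈ C by
    rw [e]
    exact this (fun y => Function.update (fun j => Pi.single (y j) (1 : F)) a₀ (f y • Pi.single (y a₀) 1)) Finset.univ
  intro g s
  induction s using Finset.induction_on with
  | empty =>
    show Root H _
    rw [Finset.sum_empty, rk, zero_vecMulVec, emb_zero_left' he]
    exact Root.zero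
  | insert y s hy hs =>
    rw [Finset.sum_insert hy, add_comm]
    exact hadd _ hs _

/-- root elements on all sets of slots of a size -/
theorem full_all {a : ℕ} (hodd : Odd a) (h3 : 3 ≤ a) (h : ∃ (A : Finset (Fin t)) (u : Fin t → Fin k → F), A.card = a ∧
      (∀ j ∈ A, u j ≠ 0) ∧ Root H (tens (A.piecewise (fun j => rk J (u j) (u j)) 1)))
    {e : Fin a → Fin t} (he : Function.Injective e) : Full J H he := by
  classical
  obtain ⟨A, u, hA, hu, hroot⟩ := h
  refine hS.full_of_pure he (by rwa [Fintype.card_fin]) fun f => ?_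
  let f' : Fin t → Fin k → F := Function.extend e f 0
  have hf : f' ∘ e = f := funext fun b => he.extend_apply f 0 b
  rw [← hf, hS.emb_pure he]
  refine hS.all_pure hu hroot ?_ ?_ f'
  · rw [Finset.card_map, Finset.card_univ, Fintype.card_fin, hA]
  · rw [Finset.card_map, Finset.card_univ, Fintype.card_fin]; omega

set_option maxHeartbeats 1000000 in
/-- two more slots -/
theorem grow {a : ℕ} (hodd : Odd a) (ha : 3 ≤ a) (hat : a + 2 ≤ t)
    (h : ∃ (A : Finset (Fin t)) (u : Fin t → Fin k → F), A.card = a ∧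
      (∀ j ∈ A, u j ≠ 0) ∧ Root H (tens (A.piecewise (fun j => rk J (u j) (u j)) 1))) :
    ∃ (A : Finset (Fin t)) (u : Fin t → Fin k → F), A.card = a + 2 ∧
      (∀ j ∈ A, u j ≠ 0) ∧ Root H (tens (A.piecewise (fun j => rk J (u j) (u j)) 1)) := by
  classical
  haveI : Nonempty (Fin k) := ⟨⟨0, by have := hS.kpos; omega⟩⟩
  obtain ⟨u, v, huv⟩ : ∃ u v : Fin k → F, bf J u v = 1 := by
    obtain ⟨z, hz⟩ := exists_bf_ne J hS.det (show (Pi.single (Classical.arbitrary (Fin k)) (1 : F) : Fin k → F) ≠ 0
      by simp)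
    exact ⟨_, (bf J (Pi.single (Classical.arbitrary (Fin k)) 1) z)⁻¹ • z, by
      rw [bf_smul_right, inv_mul_cancel₀ hz]⟩
  have hu0 : u ≠ 0 := fun e => by rw [e, bf, zero_dotProduct] at huv; exact zero_ne_one huv
  let sN : ℕ → Fin t := fun m => ⟨m % t, Nat.mod_lt _ (by omega)⟩
  have hsN : ∀ m, m < t → (sN m : ℕ) = m := fun m hm => Nat.mod_eq_of_lt hm
  set s0 := sN 0 with hs0
  set s1 := sN 1 with hs1
  set s2 := sN 2 with hs2
  have h01 : s0 ≠ s1 := fun e => by have := congrArg Fin.val e; rw [hsN 0 (by omega), hsN 1 (by omega)] at this; omega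
  have h02 : s0 ≠ s2 := fun e => by have := congrArg Fin.val e; rw [hsN 0 (by omega), hsN 2 (by omega)] at this; omega
  have h12 : s1 ≠ s2 := fun e => by have := congrArg Fin.val e; rw [hsN 1 (by omega), hsN 2 (by omega)] at this; omega
  let A₁ : Finset (Fin t) := Finset.univ.filter fun j : Fin t => (j : ℕ) < a
  let A₂ : Finset (Fin t) := Finset.univ.filter fun j : Fin t => (j : ℕ) < a + 2 ∧ (j : ℕ) ≠ 0 ∧ (j : ℕ) ≠ 2
  let A₃ : Finset (Fin t) := Finset.univ.filter fun j : Fin t => (j : ℕ) < a + 2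
  have hcardlt : ∀ b, b ≤ t → (Finset.univ.filter fun j : Fin t => (j : ℕ) < b).card = b := fun b hb => by
    rw [show (Finset.univ.filter fun j : Fin t => (j : ℕ) < b) = Finset.univ.map (Fin.castLEEmb hb) from by
      ext j
      simp only [Finset.mem_filter, Finset.mem_univ, true_and, Finset.mem_map, Fin.castLEEmb_apply]
      exact ⟨fun h => ⟨⟨j, h⟩, Fin.ext rfl⟩, fun ⟨i, hi⟩ => by rw [← hi]; exact i.2⟩,
      Finset.card_map, Finset.card_univ, Fintype.card_fin]
  have hA₂ : A₂.card = a := by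
    have : A₂ = (A₃.erase s0).erase s2 := by
      ext j
      simp only [A₂, A₃, Finset.mem_erase, Finset.mem_filter, Finset.mem_univ, true_and, ne_eq, Fin.ext_iff, hs0, hs2,
        hsN 0 (show 0 < t by omega), hsN 2 (show 2 < t by omega)]
      tauto
    rw [this, Finset.card_erase_of_mem, Finset.card_erase_of_mem, hcardlt (a + 2) hat]
    · omega
    all_goals
      simp [A₃, Finset.mem_erase, hs0, hs2, Fin.ext_iff, hsN 0 (show 0 < t by omega), hsN 2 (show 2 < t by omega)]
      try omega
  obtain ⟨A, w, hA, hw, hroot⟩ := h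
  have hQ : ∀ B : Finset (Fin t), B.card = a → ∀ z : Fin t → Fin k → F,
      Root H (tens (B.piecewise (fun j => rk J (z j) (z j)) 1)) := fun B hB z =>
    hS.all_pure hw hroot (hB.trans hA.symm) (by omega) z
  let e₁ : Fin a → Fin t := fun i => ⟨i, by omega⟩
  have he₁ : Function.Injective e₁ := fun i j h => Fin.ext (by simpa [e₁] using h)
  have hfull : Full J H he₁ := hS.full_all hodd ha ⟨A, w, hA, hw, hroot⟩ he₁
  have hmapA : Finset.univ.map ⟨e₁, he₁⟩ = A₁ := by
    ext j
    simp only [A₁, Finset.mem_map, Finset.mem_univ, true_and, Function.Embedding.coeFn_mk, Finset.mem_filter, e₁]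
    exact ⟨fun ⟨i, hi⟩ => by rw [← hi]; exact i.2, fun h => ⟨⟨j, h⟩, Fin.ext rfl⟩⟩
  have hs0A : s0 ∈ A₁ := by
    simp only [A₁, Finset.mem_filter, Finset.mem_univ, true_and, hs0, hsN 0 (show 0 < t by omega)]; omega
  -- mixed elements with identity on a set of slots
  let P : (Fin t → Fin k → F) → (Fin t → Fin k → F) → Finset (Fin t) → Matrix (Fin t → Fin k) (Fin t → Fin k) F :=
    fun f g s => tens ((A₁ \ s).piecewise (fun j => rk J (f j) (g j)) 1) +
      (-1 : F) ^ s.card • tens ((A₁ \ s).piecewise (fun j => rk J (g j) (f j)) 1)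
  have helim : ∀ s : Finset (Fin t), s ⊆ A₁ → s0 ∉ s → ∀ f g, f s0 = u → g s0 = u → Root H (P f g s) := fun s => by
    induction s using Finset.induction_on with
    | empty =>
      intro _ _ f g hf hg
      simp only [P, Finset.card_empty, pow_zero, one_smul]
      rw [show A₁ \ ∅ = A₁ by simp]
      rw [← hmapA, ← hS.emb_pure he₁, ← hS.emb_pure he₁]
      have hb : bf (GV J) (pv (f ∘ e₁)) (pv (g ∘ e₁)) = 0 := by
        rw [bf_pv]
        refine Finset.prod_eq_zero (Finset.mem_univ ⟨0, by omega⟩) ?_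
        have : e₁ ⟨0, by omega⟩ = s0 := Fin.ext (by simp [e₁, hs0, hsN 0 (show 0 < t by omega)])
        simp only [Function.comp_apply, this, hf, hg, bf_self hS.two hS.skew]
      have hG : (GV J (β := Fin a))ᵀ = -GV J := by
        rw [GV_transpose hS.skew, Fintype.card_fin, hodd.neg_one_pow, neg_one_smul]
      set p := pv (f ∘ e₁)
      set q := pv (g ∘ e₁)
      have hb' : bf (GV J) q p = 0 := by rw [bf_skew hG, hb, neg_zero]
      have h1 := (((hfull (p + q)).add ((hfull p).neg) ?_).add ((hfull q).neg) ?_)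
      · refine cast (congrArg (Root H) ?_) h1
        simp only [rk_add_left, rk_add_right, emb_add_left]
        abel
      · rw [mul_neg, emb_mul, rk_mul_rk, bf_add_left, bf_self hS.two hG, hb', add_zero, zero_smul,
          emb_zero_left' he₁, neg_zero]
      · rw [mul_neg, add_mul, neg_mul, emb_mul, emb_mul, rk_mul_rk, rk_mul_rk, bf_add_left, hb, bf_self hS.two hG,
          add_zero, zero_smul, zero_smul, emb_zero_left' he₁, neg_zero, add_zero, neg_zero]
    | insert j s hj ih =>
      intro hsub h0 f g hf hg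
      have hjA : j ∈ A₁ := hsub (Finset.mem_insert_self j s)
      have hj0 : j ≠ s0 := fun h => h0 (h ▸ Finset.mem_insert_self j s)
      have hsum : ∀ s' : Finset (Fin k), Root H (∑ b ∈ s', P (Function.update f j (Pi.single b 1))
          (Function.update g j ((1 : Matrix (Fin k) (Fin k) F).row b ᵥ* J⁻¹)) s) := fun s' => by
        induction s' using Finset.induction_on with
        | empty => rw [Finset.sum_empty]; exact Root.zero
        | insert b s' hb ih' =>
          rw [Finset.sum_insert hb, add_comm]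
          refine ih'.add (ih (fun l hl => hsub (Finset.mem_insert_of_mem hl))
            (fun h => h0 (Finset.mem_insert_of_mem h)) _ _
            (by rw [Function.update_of_ne hj0.symm, hf]) (by rw [Function.update_of_ne hj0.symm, hg])) ?_
          rw [Finset.sum_mul]
          refine Finset.sum_eq_zero fun b' _ => ?_
          have hz : ∀ f₁ g₁ f₂ g₂ : Fin t → Fin k → F, f₁ s0 = u → g₁ s0 = u → f₂ s0 = u → g₂ s0 = u →
              tens ((A₁ \ s).piecewise (fun j => rk J (f₁ j) (g₁ j)) 1) *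
                tens ((A₁ \ s).piecewise (fun j => rk J (f₂ j) (g₂ j)) 1) = 0 := fun f₁ g₁ f₂ g₂ a1 a2 a3 a4 => by
            rw [tens_mul]
            refine tens_eq_zero_iff.2 ⟨s0, ?_⟩
            rw [Pi.mul_apply, Finset.piecewise_eq_of_mem, Finset.piecewise_eq_of_mem, a1, a2, a3, a4,
              root_sq hS.two hS.skew] <;>
            exact Finset.mem_sdiff.2 ⟨hs0A, fun h => h0 (Finset.mem_insert_of_mem h)⟩
          simp only [P, add_mul, mul_add, smul_mul_assoc, mul_smul_comm]
          rw [hz _ _ _ _ ?_ ?_ ?_ ?_, hz _ _ _ _ ?_ ?_ ?_ ?_, hz _ _ _ _ ?_ ?_ ?_ ?_, hz _ _ _ _ ?_ ?_ ?_ ?_,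
            ]
          all_goals simp [Function.update_of_ne hj0.symm, hf, hg]
      have h1 := hsum Finset.univ
      have e1 : ∑ b, rk J (Pi.single b 1) ((1 : Matrix (Fin k) (Fin k) F).row b ᵥ* J⁻¹) = 1 := by
        ext x y
        simp only [rk, Matrix.sum_apply, vecMulVec_apply, vecMul_vecMul, nonsing_inv_mul J hS.det, vecMul_one,
          Pi.single_apply, ite_mul, one_mul, zero_mul, Finset.sum_ite_eq, Finset.mem_univ, if_true]
        rfl
      have e2 : ∑ b, rk J ((1 : Matrix (Fin k) (Fin k) F).row b ᵥ* J⁻¹) (Pi.single b 1) = -1 := by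
        have h := congrArg (fun M => Mᵀ * J) e1
        simp only [transpose_sum, Finset.sum_mul, rk_transpose J (ε := (-1 : F)) (by rw [hS.skew, neg_one_smul]),
          transpose_one, one_mul, ← Finset.smul_sum, ← Finset.mul_sum] at h
        refine ((isUnit_iff_isUnit_det J).2 hS.det).mul_right_injective ?_
        show J * _ = J * _
        rw [mul_neg, mul_one, ← neg_inj, neg_neg]
        conv_rhs => rw [← h]
        rw [neg_one_smul]
      refine cast (congrArg (Root H) ?_) h1
      simp only [P]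
      rw [Finset.sum_add_distrib, ← Finset.smul_sum, Finset.card_insert_of_notMem hj, pow_succ, mul_smul]
      have hnot : j ∉ A₁ \ insert j s := fun h => (Finset.mem_sdiff.1 h).2 (Finset.mem_insert_self j s)
      have hsp : ∀ (f' g' : Fin k → (Fin k → F)) (f g : Fin t → Fin k → F) (M : Matrix (Fin k) (Fin k) F),
          ∑ b, rk J (f' b) (g' b) = M →
          ∑ b, tens ((A₁ \ s).piecewise (fun l => rk J (Function.update f j (f' b) l) (Function.update g j (g' b) l)) 1)
            = tens (Function.update ((A₁ \ insert j s).piecewise (fun l => rk J (f l) (g l)) 1) j M) :=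
        fun f' g' f g M hM => by
          rw [← hM]
          have e3 : ∀ b, (A₁ \ s).piecewise (fun l => rk J (Function.update f j (f' b) l) (Function.update g j (g' b) l)) 1
              = Function.update ((A₁ \ insert j s).piecewise (fun l => rk J (f l) (g l)) 1) j (rk J (f' b) (g' b)) :=
            fun b => funext fun l => by
              rcases eq_or_ne l j with rfl | hl
              · rw [Finset.piecewise_eq_of_mem _ _ _ (Finset.mem_sdiff.2 ⟨hjA, hj⟩)]; simp
              · rw [Function.update_of_ne hl]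
                by_cases hl' : l ∈ A₁ \ insert j s
                · rw [Finset.piecewise_eq_of_mem _ _ _ hl', Finset.piecewise_eq_of_mem, Function.update_of_ne hl,
                    Function.update_of_ne hl]
                  exact Finset.sdiff_subset_sdiff le_rfl (Finset.subset_insert j s) hl'
                · rw [Finset.piecewise_eq_of_notMem _ _ _ hl', Finset.piecewise_eq_of_notMem]
                  intro h
                  rw [Finset.mem_sdiff, Finset.mem_insert, not_or] at hl'
                  exact hl' ⟨(Finset.mem_sdiff.1 h).1, hl, (Finset.mem_sdiff.1 h).2⟩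
          simp only [e3]
          exact (map_sum (AddMonoidHom.mk' (fun M : Matrix (Fin k) (Fin k) F => tens (Function.update
            ((A₁ \ insert j s).piecewise (fun l => rk J (f l) (g l)) 1) j M)) (tens_update_add _ j)) _ _).symm
      have hu1 : ∀ U : Fin t → Matrix (Fin k) (Fin k) F, U j = 1 → Function.update U j 1 = U := fun U h => by
        rw [← h, Function.update_eq_self]
      rw [hsp _ _ f g 1 e1, hsp _ _ g f (-1) e2, ← neg_one_smul F (1 : Matrix (Fin k) (Fin k) F), tens_update_smul,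
        hu1 _ (Finset.piecewise_eq_of_notMem _ _ _ hnot), hu1 _ (Finset.piecewise_eq_of_notMem _ _ _ hnot)]
  set S : Finset (Fin t) := A₁ \ {s0, s1, s2} with hSd
  have hsub3 : ({s0, s1, s2} : Finset (Fin t)) ⊆ A₁ := by
    intro j hj
    simp only [Finset.mem_insert, Finset.mem_singleton] at hj
    simp only [A₁, Finset.mem_filter, Finset.mem_univ, true_and]
    rcases hj with rfl | rfl | rfl <;> simp only [hs0, hs1, hs2, hsN 0 (show 0 < t by omega),
      hsN 1 (show 1 < t by omega), hsN 2 (show 2 < t by omega)] <;> omega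
  have hScard : Even S.card := by
    rw [hSd, Finset.card_sdiff_of_subset hsub3, hcardlt a (by omega),
      Finset.card_insert_of_notMem (by simp [h01, h02]), Finset.card_pair h12]
    obtain ⟨r, hr⟩ := hodd
    exact ⟨r - 1, by omega⟩
  have hX := helim S Finset.sdiff_subset (by simp [hSd]) (fun _ => u) (fun j => if j = s1 ∨ j = s2 then v else u)
    rfl (by simp [h01, h02])
  simp only [P] at hX
  rw [hScard.neg_one_pow, one_smul, hSd, Finset.sdiff_sdiff_eq_self hsub3] at hX
  set C : Fin t → Matrix (Fin k) (Fin k) F := ({s0, s1, s2} : Finset (Fin t)).piecewise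
    (fun j => rk J u (if j = s1 ∨ j = s2 then v else u)) 1 with hC
  set C' : Fin t → Matrix (Fin k) (Fin k) F := ({s0, s1, s2} : Finset (Fin t)).piecewise
    (fun j => rk J (if j = s1 ∨ j = s2 then v else u) u) 1 with hC'
  set T' : Fin t → Matrix (Fin k) (Fin k) F := A₂.piecewise (fun _ => rk J u u) 1 with hT'
  have hT'r : Root H (tens T') := hQ A₂ hA₂ fun _ => u
  have hA₂0 : s0 ∉ A₂ := by simp [A₂, hs0, hsN 0 (show 0 < t by omega)]
  have hA₂1 : s1 ∈ A₂ := by simp [A₂, hs1, hsN 1 (show 1 < t by omega)]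
  have hA₂2 : s2 ∉ A₂ := by simp [A₂, hs2, hsN 2 (show 2 < t by omega)]
  set s3 := sN (a + 1) with hs3
  have hA₂3 : s3 ∈ A₂ := by
    simp only [A₂, hs3, Finset.mem_filter, Finset.mem_univ, true_and, hsN (a + 1) (show a + 1 < t by omega)]; omega
  have h3out : s3 ∉ ({s0, s1, s2} : Finset (Fin t)) := by
    simp only [Finset.mem_insert, Finset.mem_singleton, Fin.ext_iff, hs0, hs1, hs2, hs3,
      hsN 0 (show 0 < t by omega), hsN 1 (show 1 < t by omega), hsN 2 (show 2 < t by omega),
      hsN (a + 1) (show a + 1 < t by omega)]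
    omega
  have huu := bf_self hS.two hS.skew u
  have hvu : bf J v u = -1 := by rw [bf_skew hS.skew, huv]
  have hQQ := root_sq hS.two hS.skew u
  have hzero : ∀ {U U' : Fin t → Matrix (Fin k) (Fin k) F} (j : Fin t), U j * U' j = 0 → tens U * tens U' = 0 :=
    fun j hj => by rw [tens_mul]; exact tens_eq_zero_iff.2 ⟨j, hj⟩
  have hzero3 : ∀ {U U' U'' : Fin t → Matrix (Fin k) (Fin k) F} (j : Fin t), U j * U' j * U'' j = 0 →
      tens U * tens U' * tens U'' = 0 :=
    fun j hj => by rw [tens_mul, tens_mul]; exact tens_eq_zero_iff.2 ⟨j, hj⟩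
  have C0 : C s0 = rk J u u ∧ C' s0 = rk J u u ∧ T' s0 = 1 := by simp [hC, hC', hT', h01, h02, hA₂0]
  have C1 : C s1 = rk J u v ∧ C' s1 = rk J v u ∧ T' s1 = rk J u u := by simp [hC, hC', hT', hA₂1]
  have C2 : C s2 = rk J u v ∧ C' s2 = rk J v u ∧ T' s2 = 1 := by simp [hC, hC', hT', hA₂2]
  have C3 : C s3 = 1 ∧ C' s3 = 1 ∧ T' s3 = rk J u u := by simp [hC, hC', hT', hA₂3, h3out]
  have hcomm := hX.comm hT'r
    (by simp only [add_mul, mul_add, hzero s0 (show C s0 * C s0 = 0 by rw [C0.1, hQQ]),
      hzero s0 (show C s0 * C' s0 = 0 by rw [C0.1, C0.2.1, hQQ]), hzero s0 (show C' s0 * C s0 = 0 by rw [C0.1, C0.2.1, hQQ]),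
      hzero s0 (show C' s0 * C' s0 = 0 by rw [C0.2.1, hQQ]), add_zero])
    (hzero s1 (by rw [C1.2.2, hQQ]))
    (by simp only [add_mul, mul_add, hzero3 s0 (show C s0 * T' s0 * C s0 = 0 by rw [C0.1, C0.2.2, mul_one, hQQ]),
      hzero3 s0 (show C s0 * T' s0 * C' s0 = 0 by rw [C0.1, C0.2.1, C0.2.2, mul_one, hQQ]),
      hzero3 s0 (show C' s0 * T' s0 * C s0 = 0 by rw [C0.1, C0.2.1, C0.2.2, mul_one, hQQ]),
      hzero3 s0 (show C' s0 * T' s0 * C' s0 = 0 by rw [C0.2.1, C0.2.2, mul_one, hQQ]), add_zero])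
    (by simp only [add_mul, mul_add, hzero3 s3 (show T' s3 * C s3 * T' s3 = 0 by rw [C3.1, C3.2.2, mul_one, hQQ]),
      hzero3 s3 (show T' s3 * C' s3 * T' s3 = 0 by rw [C3.2.1, C3.2.2, mul_one, hQQ]), add_zero])
  -- the new element
  let D : Fin t → Matrix (Fin k) (Fin k) F := fun j => if j = s2 then rk J u v + rk J v u
    else if j ∈ A₃ then rk J u u else 1
  have hA₃mem : ∀ j, j ∈ A₃ ↔ (j ∈ A₂ ∨ j = s0 ∨ j = s2) := fun j => by
    simp only [A₂, A₃, Finset.mem_filter, Finset.mem_univ, true_and, Fin.ext_iff, hs0, hs2,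
      hsN 0 (show 0 < t by omega), hsN 2 (show 2 < t by omega)]
    omega
  have hval : (tens C + tens C') * tens T' - tens T' * (tens C + tens C') = (-1 : F) • tens D := by
    have z1 : tens C' * tens T' = 0 := hzero s1 (by rw [C1.2.1, C1.2.2, rk_mul_rk, huu, zero_smul])
    have z2 : tens T' * tens C = 0 := hzero s1 (by rw [C1.1, C1.2.2, rk_mul_rk, huu, zero_smul])
    have hD : ∀ j, j ≠ s1 → j ≠ s2 → C j * T' j = D j ∧ T' j * C' j = D j := fun j h1 h2 => by
      simp only [D, if_neg h2, hA₃mem]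
      rcases eq_or_ne j s0 with h0 | h0
      · rw [h0, C0.1, C0.2.1, C0.2.2]; simp
      · have hnot : j ∉ ({s0, s1, s2} : Finset (Fin t)) := by simp [h0, h1, h2]
        by_cases hj2 : j ∈ A₂ <;> simp [hC, hC', hT', hnot, hj2, h0, h2]
    have hD1 : D s1 = rk J u u := by simp only [D, if_neg h12, hA₃mem, hA₂1, true_or, if_true]
    have m1 : tens C * tens T' = (-1 : F) • tens (Function.update D s2 (rk J u v)) := by
      have hD1' : Function.update D s2 (rk J u v) s1 = rk J u u := by rw [Function.update_of_ne h12, hD1]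
      have e : C * T' = Function.update (Function.update D s2 (rk J u v)) s1 ((-1 : F) • rk J u u) := by
        funext j
        rcases eq_or_ne j s1 with h1 | h1
        · rw [h1, Function.update_self, Pi.mul_apply, C1.1, C1.2.2, rk_mul_rk, hvu]
        rw [Function.update_of_ne h1]
        rcases eq_or_ne j s2 with h2 | h2
        · rw [h2, Function.update_self, Pi.mul_apply, C2.1, C2.2.2, mul_one]
        · rw [Function.update_of_ne h2]; exact (hD j h1 h2).1
      rw [tens_mul, e, tens_update_smul, ← hD1', Function.update_eq_self]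
    have m2 : tens T' * tens C' = tens (Function.update D s2 (rk J v u)) := by
      rw [tens_mul]
      congr 1
      funext j
      rcases eq_or_ne j s2 with rfl | h2
      · simp [C2]
      rw [Function.update_of_ne h2]
      rcases eq_or_ne j s1 with rfl | h1
      · simp [C1, rk_mul_rk, huv, hD1]
      · exact (hD j h1 h2).2
    rw [add_mul, mul_add, z1, z2, m1, m2, add_zero, zero_add, neg_one_smul, ← neg_add', ← tens_update_add,
      neg_one_smul, show rk J u v + rk J v u = D s2 by simp [D], Function.update_eq_self]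
  rw [hval] at hcomm
  have hD := Root.of_smul (neg_ne_zero.2 one_ne_zero) hcomm
  set T0 : Fin t → Matrix (Fin k) (Fin k) F := Function.update 1 s0 (rk J u u) with hT0
  have hD0 : D s0 = rk J u u := by simp only [D, if_neg h02, hA₃mem, true_or, or_true, if_true]
  have e : tens D = tens T0 * tens (Function.update D s0 1) := by
    rw [tens_mul]
    congr 1
    funext j
    rcases eq_or_ne j s0 with h0 | h0
    · simp [hT0, h0, hD0]
    · simp [hT0, h0]
  rw [e] at hD
  have hfin := (hS.extract (T := T0) (i := s0) (by rw [hT0, Function.update_self, hQQ])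
    (sl_commute_of_one (Function.update_self s0 1 D) _) hD (j := s2)
    (by rw [hT0, Function.update_of_ne h02.symm]; rfl) u).2
  refine ⟨A₃, fun _ => u, hcardlt (a + 2) hat, fun _ _ => hu0, ?_⟩
  refine Root.of_smul (c := (2 : F)) hS.two (cast (congrArg (Root H) ?_) hfin)
  rw [mul_sub, sl, tens_mul, tens_mul, tens_mul, tens_mul]
  have hupd : ∀ M : Matrix (Fin k) (Fin k) F, Function.update (A₃.piecewise (fun _ => rk J u u) 1) s2 M =
      fun j => if j = s2 then M else T0 j * Function.update D s0 1 j := fun M => funext fun j => by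
    rcases eq_or_ne j s2 with rfl | h2
    · simp
    · rw [Function.update_of_ne h2, if_neg h2]
      rcases eq_or_ne j s0 with rfl | h0
      · simp [hT0, hA₃mem]
      · simp [hT0, h0, D, h2, Finset.piecewise]
  have l1 : T0 * (Function.update (1 : Fin t → Matrix (Fin k) (Fin k) F) s2 (rk J u u) * Function.update D s0 1) =
      Function.update (A₃.piecewise (fun _ => rk J u u) 1) s2 ((1 : F) • rk J u u) := by
    rw [hupd]
    funext j
    rcases eq_or_ne j s2 with rfl | h2
    · simp [hT0, h02.symm, D, mul_add, rk_mul_rk, huv, huu]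
    · simp [h2]
  have l2 : T0 * (Function.update D s0 1 * Function.update (1 : Fin t → Matrix (Fin k) (Fin k) F) s2 (rk J u u)) =
      Function.update (A₃.piecewise (fun _ => rk J u u) 1) s2 ((-1 : F) • rk J u u) := by
    rw [hupd]
    funext j
    rcases eq_or_ne j s2 with rfl | h2
    · simp [hT0, h02.symm, D, add_mul, rk_mul_rk, hvu, huu]
    · simp [h2]
  rw [l1, l2, tens_update_smul, tens_update_smul,
    Function.update_eq_self_iff.2 (Finset.piecewise_eq_of_mem _ _ _ ((hA₃mem s2).2 (Or.inr (Or.inr rfl)))).symm]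
  module

/-- every transvection -/
theorem all_transvections (ht : Odd t) (h : HasQ J H) (v : (Fin t → Fin k) → F) : Root H (rk (GV J) v v) := by
  classical
  obtain ⟨A, u, hodd, h3, hu, hroot⟩ := h
  have hgrow : ∀ r, A.card + 2 * r ≤ t → ∃ (A' : Finset (Fin t)) (u : Fin t → Fin k → F), A'.card = A.card + 2 * r ∧
      (∀ j ∈ A', u j ≠ 0) ∧ Root H (tens (A'.piecewise (fun j => rk J (u j) (u j)) 1)) := by
    intro r
    induction r with
    | zero => intro _; exact ⟨A, u, rfl, hu, hroot⟩
    | succ r ih =>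
      intro hr
      exact hS.grow (a := A.card + 2 * r) (hodd.add_even ⟨r, by omega⟩) (by omega) (by omega) (ih (by omega))
  obtain ⟨r, hr⟩ : ∃ r, t = A.card + 2 * r := by
    have hle : A.card ≤ t := by
      have := Finset.card_le_univ A
      rwa [Fintype.card_fin] at this
    obtain ⟨p, hp⟩ := hodd
    obtain ⟨q, hq⟩ := ht
    exact ⟨q - p, by omega⟩
  obtain ⟨A', u', hA', hu', hroot'⟩ := hgrow r hr.ge
  have hfull := hS.full_all ht (by omega) ⟨A', u', hA'.trans hr.symm, hu', hroot'⟩ (e := id) Function.injective_id v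
  refine cast (congrArg (Root H) ?_) hfull
  ext x y
  haveI : IsEmpty (Rest (id : Fin t → Fin t)) := ⟨fun j => j.2 j.1 rfl⟩
  rw [emb, Matrix.submatrix_apply, Matrix.kroneckerMap_apply, Matrix.one_apply, if_pos (Subsingleton.elim _ _), mul_one]
  rfl

end Setting

end Cfsg.Agent.ClassicalMax.SpWreath
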