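import Cfsg.Agent.ClassicalMax.SpWreath.Crit

/-!
From a root element `Q ⊗ c` with `c` not scalar to a root element that is a tensor product of an odd number, at least
three, of slot root elements.
-/

set_option autoImplicit false
set_option linter.unusedSectionVars false

namespace Cfsg.Agent.ClassicalMax.SpWreath

open Matrix Cfsg.Geo Cfsg.Agent.ClassicalMax.TPow

variable {F : Type*} [Field F] [Finite F] {k t : ℕ} {J : Matrix (Fin k) (Fin k) F}
  {H : Subgroup (GL (Fin t → Fin k) F)}

/-- the kinds of slots -/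
def IsQ (J : Matrix (Fin k) (Fin k) F) (P : Matrix (Fin k) (Fin k) F) : Prop := ∃ x, x ≠ 0 ∧ P = rk J x x

/-- a plane element -/
def IsP (J : Matrix (Fin k) (Fin k) F) (P : Matrix (Fin k) (Fin k) F) : Prop :=
  ∃ x v, v ≠ 0 ∧ bf J x v = 0 ∧ (∀ c : F, x ≠ c • v) ∧ P = rk J x v - rk J v x

/-- a root element that is a product of slot root elements on an odd number of slots, at least three -/
def HasQ (J : Matrix (Fin k) (Fin k) F) (H : Subgroup (GL (Fin t → Fin k) F)) : Prop :=
  ∃ (A : Finset (Fin t)) (u : Fin t → Fin k → F), Odd A.card ∧ 3 ≤ A.card ∧ (∀ j ∈ A, u j ≠ 0) ∧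
    Root H (tens (A.piecewise (fun j => rk J (u j) (u j)) 1))

theorem tens_commute {β : Type} [Fintype β] [DecidableEq β] {R : Matrix (β → Fin k) (β → Fin k) F}
    {T : β → Matrix (Fin k) (Fin k) F} {s : Finset β} (hT : ∀ j ∉ s, T j = 1)
    (h : ∀ j ∈ s, ∀ A, Commute R (sl j A)) : Commute R (tens T) := by
  classical
  suffices ∀ s' : Finset β, s' ⊆ s → Commute R (tens (s'.piecewise T 1)) by
    have h1 := this s le_rfl
    rwa [show s.piecewise T 1 = T from funext fun j => by
      by_cases hj : j ∈ s <;> simp [hj, hT j]] at h1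
  intro s'
  induction s' using Finset.induction_on with
  | empty => intro; rw [Finset.piecewise_empty, tens_one]; exact Commute.one_right R
  | insert j s' hj ih =>
    intro hsub
    have e : tens ((insert j s').piecewise T 1) = sl j (T j) * tens (s'.piecewise T 1) := by
      rw [sl, tens_mul]
      congr 1
      funext l
      rcases eq_or_ne l j with rfl | hl
      · simp [hj]
      · simp [hl, Finset.piecewise]
    rw [e]
    exact (h j (hsub (Finset.mem_insert_self j s')) _).mul_right
      (ih fun l hl => hsub (Finset.mem_insert_of_mem hl))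

/-- two shaped matrices annihilate each other -/
theorem shape_mul {β : Type} [Fintype β] [DecidableEq β] {T : β → Matrix (Fin k) (Fin k) F} {i : β}
    (hT : T i * T i = 0) {R R' : Matrix (β → Fin k) (β → Fin k) F} (hR : Commute R (tens T)) :
    tens T * R * (tens T * R') = 0 := by
  have h0 : tens T * tens T = 0 := by rw [tens_mul]; exact tens_eq_zero_iff.2 ⟨i, hT⟩
  rw [mul_assoc, ← mul_assoc R, hR.eq, ← mul_assoc (tens T), ← mul_assoc (tens T) (tens T), h0, zero_mul, zero_mul]

namespace Setting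

variable (hS : Setting J H)
include hS

theorem root_skewG {X : Matrix (Fin t → Fin k) (Fin t → Fin k) F} (hX : Root H X) :
    Xᵀ * GV J = -(GV J * X) := by
  obtain ⟨a, ha, ea⟩ := hX 1
  obtain ⟨b, hb, eb⟩ := hX (-1)
  have h1 := hS.iso a ha
  have h2 := hS.iso b hb
  rw [ea, one_smul] at h1
  rw [eb, neg_one_smul] at h2
  simp only [transpose_add, transpose_neg, transpose_one, add_mul, mul_add, one_mul, mul_one, neg_mul, mul_neg,
    neg_neg] at h1 h2
  have h3 : (2 : F) • (Xᵀ * GV J + GV J * X) = 0 := by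
    have h4 := h1.trans h2.symm
    rw [← sub_eq_zero] at h4
    rw [← h4]
    module
  exact eq_neg_of_add_eq_zero_left ((smul_eq_zero.1 h3).resolve_left hS.two)

/-- contractions by slot roots of a shaped root element -/
theorem extract {T : Fin t → Matrix (Fin k) (Fin k) F} {i : Fin t} (hTi : T i * T i = 0)
    {R : Matrix (Fin t → Fin k) (Fin t → Fin k) F} (hR : Commute R (tens T))
    (hX : Root H (tens T * R)) {j : Fin t} (hj : T j = 1) (v : Fin k → F) :
    Root H (tens T * (sl j (rk J v v) * R * sl j (rk J v v))) ∧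
      Root H (tens T * (sl j (rk J v v) * R - R * sl j (rk J v v))) := by
  set N := sl j (rk J v v) with hN
  have hc : Commute (tens T) N := sl_commute_of_one hj _
  have hNN : N * N = 0 := by rw [hN, sl_mul, root_sq hS.two hS.skew, sl_zero]
  have hcomb : ∀ s : F, Root H (tens T * (R + s • (N * R - R * N) - (s * s) • (N * R * N))) := fun s => by
    obtain ⟨a, ha, ea⟩ := hS.root j v s
    have h := hX.conj ha
    rw [← hN] at ea
    rw [ea, inv_val_eq ea (by rw [smul_mul_assoc, mul_smul_comm, hNN, smul_zero, smul_zero])] at h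
    have e : (1 + s • N) * (tens T * R) * (1 - s • N) =
        tens T * (R + s • (N * R - R * N) - (s * s) • (N * R * N)) := by
      have e1 : N * (tens T * R) = tens T * (N * R) := by rw [← mul_assoc, ← hc.eq, mul_assoc]
      simp only [add_mul, one_mul, mul_sub, mul_one, smul_mul_assoc, mul_smul_comm, e1, mul_add, mul_assoc,
        smul_smul, smul_sub]
      module
    rwa [e] at h
  have hcm : ∀ Z, Z = R ∨ Z = N * R * N ∨ Z = N * R - R * N → Commute Z (tens T) := by
    rintro Z (rfl | rfl | rfl)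
    · exact hR
    · exact (hc.symm.mul_left hR).mul_left hc.symm
    · exact (hc.symm.mul_left hR).sub_left (hR.mul_left hc.symm)
  have hcs : ∀ s : F, Commute (R + s • (N * R - R * N) - (s * s) • (N * R * N)) (tens T) := fun s =>
    (((hcm _ (Or.inl rfl)).add_left ((hcm _ (Or.inr (Or.inr rfl))).smul_left s)).sub_left
      ((hcm _ (Or.inr (Or.inl rfl))).smul_left _))
  have h1 : Root H (tens T * (N * R * N)) := by
    refine Root.of_smul (c := (-2 : F)) (neg_ne_zero.2 hS.two) ?_
    have h := ((hcomb 1).add (hcomb (-1)) (shape_mul hTi (hcs 1))).add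
      ((hX.smul (-2 : F)))
      (by rw [← mul_add, mul_smul_comm, shape_mul hTi ((hcs 1).add_left (hcs (-1))), smul_zero])
    rw [← mul_smul_comm (-2 : F) (tens T) R, ← mul_add, ← mul_add] at h
    rw [← mul_smul_comm]
    refine cast (congrArg (fun Z => Root H (tens T * Z)) ?_) h
    module
  refine ⟨h1, ?_⟩
  have h := ((hcomb 1).add h1 (shape_mul hTi (hcs 1))).add hX.neg
    (by rw [← mul_add, mul_neg, shape_mul hTi ((hcs 1).add_left (hcm _ (Or.inr (Or.inl rfl)))), neg_zero])
  rw [← mul_neg, ← mul_add, ← mul_add] at h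
  refine cast (congrArg (fun Z => Root H (tens T * Z)) ?_) h
  module

/-- the shape reached from a root element `Q ⊗ c` -/
theorem exists_mon (hrad : Rad J H) :
    ∃ (T : Fin t → Matrix (Fin k) (Fin k) F) (i : Fin t), (∀ j, T j = 1 ∨ IsQ J (T j) ∨ IsP J (T j)) ∧ IsQ J (T i) ∧
      (∃ j, j ≠ i ∧ (IsQ J (T j) ∨ IsP J (T j))) ∧ Root H (tens T) := by
  classical
  obtain ⟨i, u, hu, c, hc, hX⟩ := hrad
  set R₀ := emb (at1_inj i) (1 : Matrix (Fin 1 → Fin k) (Fin 1 → Fin k) F) c with hR₀
  have hX' : inS i u * c * outS J i u = sl i (rk J u u) * R₀ := by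
    rw [inS, outS, inM_mul_outM, rk_fu]
    conv_rhs => rw [← emb_sl0, hR₀, emb_mul, mul_one, one_mul]
  have hR₀i : ∀ A, Commute R₀ (sl i A) := fun A => by
    show _ = _
    rw [hR₀, ← emb_sl0, emb_mul, emb_mul, one_mul, mul_one, mul_one, one_mul]
  have hR₀ns : ∀ κ : F, R₀ ≠ κ • (1 : Matrix (Fin t → Fin k) (Fin t → Fin k) F) := fun κ e => hc κ (by
    refine sub_eq_zero.1 (inM_outM_scalar (he := at1_inj i) (G := GV J) (GV_det hS.det) (fu_ne hu) (fu_ne hu) ?_)
    show inS i u * (c - κ • 1) * outS J i u = 0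
    rw [Matrix.mul_sub, Matrix.sub_mul, hX', e]
    simp only [Matrix.mul_smul, Matrix.smul_mul, Matrix.mul_one, inS_outS, mul_one, mul_smul_comm, sub_self])
  suffices ∀ s : Finset (Fin t), i ∈ s → ∃ (T : Fin t → Matrix (Fin k) (Fin k) F) (R : Matrix (Fin t → Fin k) (Fin t → Fin k) F),
      (∀ j, T j = 1 ∨ IsQ J (T j) ∨ IsP J (T j)) ∧ (∀ j ∉ s, T j = 1) ∧ IsQ J (T i) ∧ R ≠ 0 ∧
      (∀ j ∈ s, ∀ A, Commute R (sl j A)) ∧ Root H (tens T * R) ∧ ((∀ j, j ≠ i → T j = 1) → R = R₀) by
    obtain ⟨T, R, hT, -, hQ, hR0, hRc, hroot, hsame⟩ := this Finset.univ (Finset.mem_univ i)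
    haveI : Nonempty (Fin k) := ⟨⟨0, by have := hS.kpos; omega⟩⟩
    obtain ⟨κ, hκ⟩ := eq_smul_one_of_commute R fun j A => (hRc j (Finset.mem_univ j) A).eq
    have hκ0 : κ ≠ 0 := fun e => hR0 (by rw [hκ, e, zero_smul])
    refine ⟨T, i, hT, hQ, ?_, Root.of_smul hκ0 (by rwa [hκ, mul_smul_comm, mul_one] at hroot)⟩
    by_contra! hne
    exact hR₀ns κ ((hsame fun j hj => (hT j).resolve_right (by rintro (h | h); exacts [(hne j hj).1 h, (hne j hj).2 h])).symm.trans hκ)
  intro s his
  suffices ∀ s : Finset (Fin t), ∃ (T : Fin t → Matrix (Fin k) (Fin k) F) (R : Matrix (Fin t → Fin k) (Fin t → Fin k) F),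
      (∀ j, T j = 1 ∨ IsQ J (T j) ∨ IsP J (T j)) ∧ (∀ j ∉ insert i s, T j = 1) ∧ IsQ J (T i) ∧ R ≠ 0 ∧
      (∀ j ∈ insert i s, ∀ A, Commute R (sl j A)) ∧ Root H (tens T * R) ∧ ((∀ j, j ≠ i → T j = 1) → R = R₀) by
    have := this s
    rwa [Finset.insert_eq_of_mem his] at this
  clear his s
  intro s
  induction s using Finset.induction_on with
  | empty =>
    refine ⟨Function.update 1 i (rk J u u), R₀, fun j => ?_, fun j hj => ?_, ⟨u, hu, Function.update_self ..⟩,
      fun e => hR₀ns 0 (by rw [e, zero_smul]), fun j hj => ?_, hX' ▸ hX, fun _ => rfl⟩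
    · rcases eq_or_ne j i with rfl | hj
      · exact Or.inr (Or.inl ⟨u, hu, Function.update_self ..⟩)
      · exact Or.inl (Function.update_of_ne hj _ _)
    · rw [Function.update_of_ne (by simpa using hj)]; rfl
    · obtain rfl : j = i := by simpa using hj
      exact hR₀i
  | insert j s _ ih =>
    obtain ⟨T, R, hT, hout, hQ, hR0, hRc, hroot, hsame⟩ := ih
    by_cases hjs : j ∈ insert i s
    · rw [Finset.insert_comm, Finset.insert_eq_of_mem hjs]
      exact ⟨T, R, hT, hout, hQ, hR0, hRc, hroot, hsame⟩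
    have hTj : T j = 1 := hout j hjs
    have hRT : Commute R (tens T) := tens_commute hout hRc
    obtain ⟨xi, hxi, hTi⟩ := hQ
    have hTi2 : T i * T i = 0 := by rw [hTi, root_sq hS.two hS.skew]
    have hji : j ≠ i := fun h => hjs (h ▸ Finset.mem_insert_self i s)
    -- a new factor `P` in slot `j`
    have step : ∀ (P : Matrix (Fin k) (Fin k) F) (φ : Matrix (Fin k) (Fin k) F →ₗ[F] F) (Z : Matrix (Fin t → Fin k) (Fin t → Fin k) F),
        IsQ J P ∨ IsP J P → P ≠ 0 → P ≠ 1 → (∀ x y, slice' Z j x y = φ (slice' R j x y) • P) →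
        (∃ x y, φ (slice' R j x y) ≠ 0) → (∀ l ∈ insert i s, ∀ A, Commute Z (sl l A)) → Root H (tens T * Z) →
        ∃ (T : Fin t → Matrix (Fin k) (Fin k) F) (R : Matrix (Fin t → Fin k) (Fin t → Fin k) F),
          (∀ j, T j = 1 ∨ IsQ J (T j) ∨ IsP J (T j)) ∧ (∀ l ∉ insert i (insert j s), T l = 1) ∧ IsQ J (T i) ∧ R ≠ 0 ∧
          (∀ l ∈ insert i (insert j s), ∀ A, Commute R (sl l A)) ∧ Root H (tens T * R) ∧
          ((∀ j, j ≠ i → T j = 1) → R = R₀) := by
      intro P φ Z hP hP0 hP1 hZs hne hZc hZ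
      obtain ⟨x, y, hxy⟩ := hne
      have hZe : Z = sl j P * lift j φ R := eq_sl_mul_lift j φ hZs
      refine ⟨Function.update T j P, lift j φ R, fun l => ?_, fun l hl => ?_, ⟨xi, hxi, by
        rw [Function.update_of_ne hji.symm]; exact hTi⟩, fun e => ?_, fun l hl A => ?_, ?_, fun h => ?_⟩
      · rcases eq_or_ne l j with rfl | hl
        · rw [Function.update_self]; exact Or.inr hP
        · rw [Function.update_of_ne hl]; exact hT l
      · have hlj : l ≠ j := fun h => hl (by simp [h])
        rw [Function.update_of_ne hlj]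
        exact hout l fun h => hl (Finset.mem_insert.2 ((Finset.mem_insert.1 h).imp id Finset.mem_insert_of_mem))
      · have h0 : slice' Z j x y = 0 := by rw [hZe, e, mul_zero]; rfl
        rw [hZs, smul_eq_zero] at h0
        exact h0.elim hxy hP0
      · rcases eq_or_ne l j with rfl | hlj
        · exact lift_commute _ _ _ A
        have hl' : l ∈ insert i s := by
          simp only [Finset.mem_insert] at hl ⊢
          rcases hl with h | h | h
          exacts [Or.inl h, absurd h hlj, Or.inr h]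
        refine sub_eq_zero.1 (eq_zero_of_sl_mul (i := j) (Z := lift j φ R * sl l A - sl l A * lift j φ R) hP0
          (fun B => ?_) ?_)
        · exact ((lift_commute j φ R B).mul_left (sl_commute hlj A B)).sub_left
            ((sl_commute hlj A B).mul_left (lift_commute j φ R B))
        · rw [mul_sub, ← mul_assoc, ← hZe, ← mul_assoc, (sl_commute hlj.symm P A).eq, mul_assoc, ← hZe,
            (hZc l hl' A).eq, sub_self]
      · have e : tens (Function.update T j P) = tens T * sl j P := by
          rw [sl, tens_mul]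
          congr 1
          funext l
          rcases eq_or_ne l j with rfl | hl <;> simp [*]
        rw [e, mul_assoc, ← hZe]
        exact hZ
      · have := h j hji
        rw [Function.update_self] at this
        exact absurd this hP1
    have hcomm : ∀ v, ∀ l ∈ insert i s, ∀ A, Commute (sl j (rk J v v)) (sl l A) := fun v l hl A =>
      sl_commute (fun h => hjs (by rw [h]; exact hl)) _ A
    have hsq1 : ∀ P : Matrix (Fin k) (Fin k) F, P * P = 0 → P ≠ 1 := fun P hP e => by
      rw [e, one_mul] at hP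
      have := congrFun (congrFun hP ⟨0, by have := hS.kpos; omega⟩) ⟨0, by have := hS.kpos; omega⟩
      simp at this
    by_cases hα : ∃ v x y, bf J v (slice' R j x y *ᵥ v) ≠ 0
    · obtain ⟨v, x, y, hv⟩ := hα
      have hv0 : v ≠ 0 := fun h => hv (by rw [h, bf, zero_dotProduct])
      let φ : Matrix (Fin k) (Fin k) F →ₗ[F] F :=
        { toFun := fun S => bf J v (S *ᵥ v)
          map_add' := fun S S' => by rw [add_mulVec, bf_add_right]
          map_smul' := fun c S => by rw [smul_mulVec, bf_smul_right, RingHom.id_apply, smul_eq_mul] }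
      refine step (rk J v v) φ (sl j (rk J v v) * R * sl j (rk J v v)) (Or.inl ⟨v, hv0, rfl⟩)
        (rk_eq_zero J hS.det hv0 hv0) (hsq1 _ (root_sq hS.two hS.skew v)) (fun x y => ?_) ⟨x, y, hv⟩
        (fun l hl A => ((hcomm v l hl A).mul_left (hRc l hl A)).mul_left (hcomm v l hl A))
        (hS.extract hTi2 hRT hroot hTj v).1
      rw [slice'_mul_sl, slice'_sl_mul, mul_assoc, mul_rk J (slice' R j x y), rk_mul_rk]
      rfl
    push Not at hα
    have hadj : ∀ x y, adjJ J (slice' R j x y) = slice' R j x y := fun x y =>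
      quad_zero_adj hS.two hS.skew hS.det fun v => hα v x y
    by_cases hβ : ∀ x y, ∃ c : F, slice' R j x y = c • (1 : Matrix (Fin k) (Fin k) F)
    · refine ⟨T, R, hT, fun l hl => hout l fun h => hl (Finset.mem_insert.2 ((Finset.mem_insert.1 h).imp id
        Finset.mem_insert_of_mem)), ⟨xi, hxi, hTi⟩, hR0, fun l hl A => ?_, hroot, hsame⟩
      rcases eq_or_ne l j with rfl | hlj
      · exact commute_of_slice_scalar l hβ A
      · refine hRc l ?_ A
        simp only [Finset.mem_insert] at hl ⊢
        rcases hl with h | h | h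
        exacts [Or.inl h, absurd h hlj, Or.inr h]
    push Not at hβ
    obtain ⟨x₀, y₀, hxy⟩ := hβ
    obtain ⟨v, hv⟩ : ∃ v, ∀ c : F, slice' R j x₀ y₀ *ᵥ v ≠ c • v := by
      by_contra! h
      obtain ⟨c, hc'⟩ := (Matrix.toLin' (slice' R j x₀ y₀)).exists_eq_smul_id_of_forall_notLinearIndependent
        fun z hz => by
          obtain ⟨c, hc⟩ := h z
          have := (LinearIndependent.pair_iff.1 hz c (-1) (by rw [Matrix.toLin'_apply, hc]; module)).2
          exact one_ne_zero (neg_eq_zero.1 this)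
      refine hxy c (Matrix.toLin'.injective ?_)
      rw [hc', map_smul, Matrix.toLin'_one]
      rfl
    have hv0 : v ≠ 0 := fun h => hv 0 (by rw [h, mulVec_zero, smul_zero])
    set w := slice' R j x₀ y₀ *ᵥ v with hw
    obtain ⟨x, hvx, hwx⟩ : ∃ x, bf J v x = 0 ∧ bf J w x ≠ 0 := by
      by_contra! h
      obtain ⟨z₀, hz₀⟩ := exists_bf_ne J hS.det hv0
      obtain ⟨z, hz⟩ := exists_bf_ne J hS.det (show w + (-(bf J w z₀ / bf J v z₀)) • v ≠ 0 from fun e =>
        hv (bf J w z₀ / bf J v z₀) (by linear_combination (norm := module) e))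
      refine hz ?_
      have h3 := h (z + (-(bf J v z / bf J v z₀)) • z₀) (by
        rw [bf_add_right, bf_smul_right, neg_mul, div_mul_cancel₀ _ hz₀, add_neg_cancel])
      rw [bf_add_right, bf_smul_right] at h3
      rw [bf_add_left, bf_smul_left, ← h3]
      field_simp
    let φ : Matrix (Fin k) (Fin k) F →ₗ[F] F :=
      { toFun := fun S => bf J (S *ᵥ v) x
        map_add' := fun S S' => by rw [add_mulVec, bf_add_left]
        map_smul' := fun c S => by rw [smul_mulVec, bf_smul_left, RingHom.id_apply, smul_eq_mul] }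
    have hxv : bf J x v = 0 := by rw [bf_skew hS.skew, hvx, neg_zero]
    have hxnot : ∀ c : F, x ≠ c • v := fun c e => hwx (by
      rw [e, bf_smul_right, bf_skew hS.skew, hw, hα v x₀ y₀, neg_zero, mul_zero])
    have hP0 : rk J x v - rk J v x ≠ 0 := fun e => by
      obtain ⟨z, hz⟩ := exists_bf_ne J hS.det hv0
      have h1 := congrArg (· *ᵥ z) e
      simp only [sub_mulVec, rk_mulVec, zero_mulVec, sub_eq_zero] at h1
      exact hxnot ((bf J v z)⁻¹ * bf J x z) (by rw [mul_smul, ← h1, inv_smul_smul₀ hz])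
    have hP2 : (rk J x v - rk J v x) * (rk J x v - rk J v x) = 0 := by
      simp only [sub_mul, mul_sub, rk_mul_rk, bf_self hS.two hS.skew, hxv, hvx, zero_smul, sub_self]
    set R1 := sl j (rk J v v) * R - R * sl j (rk J v v) with hR1
    have hR1c : ∀ l ∈ insert i s, ∀ A, Commute R1 (sl l A) := fun l hl A =>
      ((hcomm v l hl A).mul_left (hRc l hl A)).sub_left ((hRc l hl A).mul_left (hcomm v l hl A))
    refine step _ φ (sl j (rk J x x) * R1 - R1 * sl j (rk J x x))
      (Or.inr ⟨x, v, hv0, hxv, hxnot, rfl⟩) hP0 (hsq1 _ hP2) (fun a b => ?_) ⟨x₀, y₀, hwx⟩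
      (fun l hl A => ((hcomm x l hl A).mul_left (hR1c l hl A)).sub_left ((hR1c l hl A).mul_left (hcomm x l hl A)))
      (hS.extract hTi2 (tens_commute hout hR1c) (hS.extract hTi2 hRT hroot hTj v).2 hTj x).2
    show _ = bf J (slice' R j a b *ᵥ v) x • _
    have hA := hadj a b
    set S := slice' R j a b with hSd
    have hsub : ∀ Z Z' : Matrix (Fin t → Fin k) (Fin t → Fin k) F,
        slice' (Z - Z') j a b = slice' Z j a b - slice' Z' j a b := fun _ _ => rfl
    rw [hsub, slice'_sl_mul, slice'_mul_sl, hR1, hsub, slice'_sl_mul, slice'_mul_sl, ← hSd, mul_rk J S]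
    have hQS : rk J v v * S = rk J v (S *ᵥ v) := by
      have e : Sᵀ * J = J * S := by
        have := congrArg (J * ·) hA
        simp only [adjJ, ← mul_assoc, mul_nonsing_inv J hS.det, one_mul] at this
        exact this
      rw [rk, rk, vecMulVec_mul, vecMul_vecMul, ← e, ← vecMul_vecMul, vecMul_transpose]
    rw [hQS]
    simp only [mul_sub, sub_mul, rk_mul_rk, hvx, hxv, bf_skew hS.skew x (S *ᵥ v), zero_smul, zero_sub, sub_zero,
      neg_smul]
    module

/-- a factor of rank one in each slot -/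
theorem isQ_conj {j : Fin t} {u : Fin k → F} (hu : u ≠ 0) :
    ∃ g ∈ H, ∃ u' : Fin k → F, bf J u u' ≠ 0 ∧ ∀ T : Fin t → Matrix (Fin k) (Fin k) F, T j = rk J u u →
      (g : Matrix (Fin t → Fin k) (Fin t → Fin k) F) * tens T *
        ((g⁻¹ : GL (Fin t → Fin k) F) : Matrix (Fin t → Fin k) (Fin t → Fin k) F) =
      tens (Function.update T j (rk J u' u')) := by
  obtain ⟨z, hz⟩ := exists_bf_ne J hS.det hu
  obtain ⟨g, hg, hge⟩ := hS.root j z 1
  rw [one_smul] at hge
  have hzu : bf J z u = -bf J u z := bf_skew hS.skew z u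
  refine ⟨g, hg, u + bf J z u • z, ?_, fun T hT => ?_⟩
  · rw [bf_add_right, bf_self hS.two hS.skew, zero_add, bf_smul_right, hzu, neg_mul, neg_ne_zero]
    exact mul_ne_zero hz hz
  rw [hge, inv_val_eq hge (by rw [sl_mul, root_sq hS.two hS.skew, sl_zero]),
    show (1 : Matrix (Fin t → Fin k) (Fin t → Fin k) F) + sl j (rk J z z) = sl j (1 + rk J z z) by rw [sl_add, sl_one],
    show (1 : Matrix (Fin t → Fin k) (Fin t → Fin k) F) - sl j (rk J z z) = sl j (1 + (-1 : F) • rk J z z) by
      rw [sl_add, sl_one, sl_smul, neg_one_smul, sub_eq_add_neg],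
    sl, sl, tens_mul, tens_mul]
  congr 1
  funext l
  rcases eq_or_ne l j with rfl | hl
  · simp only [Pi.mul_apply, Function.update_self, hT, mul_add, add_mul, one_mul, mul_one, mul_smul_comm,
      rk_add_left, rk_add_right, rk_smul_left, rk_smul_right, rk_mul_rk, smul_mul_assoc, smul_smul, hzu]
    module
  · simp [Function.update_of_ne hl]

/-- a plane element moved within its slot -/
theorem isP_conj {j : Fin t} {x y : Fin k → F} (hy : y ≠ 0) (hxy : bf J x y = 0) (hne : ∀ c : F, x ≠ c • y) :
    ∃ g ∈ H, ∃ x' : Fin k → F, bf J x x' ≠ 0 ∧ bf J y x' = 0 ∧ ∀ T : Fin t → Matrix (Fin k) (Fin k) F,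
      T j = rk J x y - rk J y x →
      (g : Matrix (Fin t → Fin k) (Fin t → Fin k) F) * tens T *
        ((g⁻¹ : GL (Fin t → Fin k) F) : Matrix (Fin t → Fin k) (Fin t → Fin k) F) =
      tens (Function.update T j (rk J x' y - rk J y x')) := by
  obtain ⟨z, hyz, hxz⟩ : ∃ z, bf J y z = 0 ∧ bf J x z ≠ 0 := by
    by_contra! h
    obtain ⟨z₀, hz₀⟩ := exists_bf_ne J hS.det hy
    obtain ⟨z, hz⟩ := exists_bf_ne J hS.det (show x + (-(bf J x z₀ / bf J y z₀)) • y ≠ 0 from fun e =>
      hne (bf J x z₀ / bf J y z₀) (by linear_combination (norm := module) e))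
    refine hz ?_
    have h3 := h (z + (-(bf J y z / bf J y z₀)) • z₀) (by
      rw [bf_add_right, bf_smul_right, neg_mul, div_mul_cancel₀ _ hz₀, add_neg_cancel])
    rw [bf_add_right, bf_smul_right] at h3
    rw [bf_add_left, bf_smul_left, ← h3]
    field_simp
  obtain ⟨g, hg, hge⟩ := hS.root j z 1
  rw [one_smul] at hge
  have hzx : bf J z x = -bf J x z := bf_skew hS.skew z x
  have hzy : bf J z y = 0 := by rw [bf_skew hS.skew, hyz, neg_zero]
  refine ⟨g, hg, x + bf J z x • z, ?_, ?_, fun T hT => ?_⟩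
  · rw [bf_add_right, bf_self hS.two hS.skew, zero_add, bf_smul_right, hzx, neg_mul, neg_ne_zero]
    exact mul_ne_zero hxz hxz
  · rw [bf_add_right, bf_smul_right, bf_skew hS.skew, hxy, neg_zero, zero_add, hyz, mul_zero]
  rw [hge, inv_val_eq hge (by rw [sl_mul, root_sq hS.two hS.skew, sl_zero]),
    show (1 : Matrix (Fin t → Fin k) (Fin t → Fin k) F) + sl j (rk J z z) = sl j (1 + rk J z z) by rw [sl_add, sl_one],
    show (1 : Matrix (Fin t → Fin k) (Fin t → Fin k) F) - sl j (rk J z z) = sl j (1 + (-1 : F) • rk J z z) by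
      rw [sl_add, sl_one, sl_smul, neg_one_smul, sub_eq_add_neg],
    sl, sl, tens_mul, tens_mul]
  congr 1
  funext l
  rcases eq_or_ne l j with rfl | hl
  · simp only [Pi.mul_apply, Function.update_self, hT, mul_add, add_mul, mul_sub, sub_mul, one_mul, mul_one,
      mul_smul_comm, rk_add_left, rk_add_right, rk_smul_left, rk_smul_right, rk_mul_rk, smul_mul_assoc, smul_smul,
      hzx, hzy, hyz, smul_sub, zero_smul, zero_mul, smul_zero]
    module
  · simp [Function.update_of_ne hl]

/-- conjugating all slots of a set -/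
theorem conj_all (T : Fin t → Matrix (Fin k) (Fin k) F) (s : Finset (Fin t)) (T' : Fin t → Matrix (Fin k) (Fin k) F)
    (h : ∀ j ∈ s, ∃ g ∈ H, ∀ U : Fin t → Matrix (Fin k) (Fin k) F, U j = T j →
      (g : Matrix (Fin t → Fin k) (Fin t → Fin k) F) * tens U *
        ((g⁻¹ : GL (Fin t → Fin k) F) : Matrix (Fin t → Fin k) (Fin t → Fin k) F) = tens (Function.update U j (T' j)))
    (hT : Root H (tens T)) : Root H (tens (s.piecewise T' T)) := by
  induction s using Finset.induction_on with
  | empty => rwa [Finset.piecewise_empty]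
  | insert j s hj ih =>
    obtain ⟨g, hg, hU⟩ := h j (Finset.mem_insert_self j s)
    have h1 := (ih fun l hl => h l (Finset.mem_insert_of_mem hl)).conj hg
    rwa [hU _ (Finset.piecewise_eq_of_notMem _ _ _ hj), ← Finset.piecewise_insert] at h1

/-- permuting the slots -/
theorem root_perm {T : Fin t → Matrix (Fin k) (Fin k) F} (hT : Root H (tens T)) (σ : Equiv.Perm (Fin t))
    (hσ : Equiv.Perm.sign σ = 1 ∨ Odd t) :
    Root H (tens fun j => T (σ.symm j)) := by
  have h := hT.conj (hS.perm σ hσ)
  suffices ∀ s : Finset (Fin t), (Asch.permM σ : Matrix (Fin t → Fin k) (Fin t → Fin k) F) * tens (s.piecewise T 1) =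
      tens (fun j => s.piecewise T 1 (σ.symm j)) * Asch.permM σ by
    have e := this Finset.univ
    simp only [Finset.piecewise_univ] at e
    have h' : (Asch.permM σ * tens T) *
        (((Asch.permU σ)⁻¹ : GL (Fin t → Fin k) F) : Matrix (Fin t → Fin k) (Fin t → Fin k) F) =
        tens fun j => T (σ.symm j) := by
      rw [e, mul_assoc]
      show _ * (((Asch.permU σ : GL (Fin t → Fin k) F) : Matrix (Fin t → Fin k) (Fin t → Fin k) F) * _) = _
      rw [← Units.val_mul, mul_inv_cancel, Units.val_one, mul_one]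
    exact cast (congrArg (Root H) h') h
  intro s
  induction s using Finset.induction_on with
  | empty =>
    rw [Finset.piecewise_empty, tens_one, mul_one]
    show _ = tens (1 : Fin t → Matrix (Fin k) (Fin k) F) * _
    rw [tens_one, one_mul]
  | insert j s hj ih =>
    have e1 : tens ((insert j s).piecewise T 1) = sl j (T j) * tens (s.piecewise T 1) := by
      rw [sl, tens_mul]
      congr 1
      funext l
      rcases eq_or_ne l j with rfl | hl <;> simp [Finset.piecewise, *]
    have e2 : tens (fun l => (insert j s).piecewise T 1 (σ.symm l)) =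
        sl (σ j) (T j) * tens (fun l => s.piecewise T 1 (σ.symm l)) := by
      rw [sl, tens_mul]
      congr 1
      funext l
      rcases eq_or_ne l (σ j) with rfl | hl
      · simp [Finset.piecewise, hj]
      · have : σ.symm l ≠ j := fun e => hl (by rw [← e, Equiv.apply_symm_apply])
        simp [Finset.piecewise, this, hl]
    rw [e1, e2, ← mul_assoc, permM_mul_sl, mul_assoc, ih, mul_assoc]

/-- the commutator of a monomial root element with a conjugate of itself -/
theorem pair_op {T : Fin t → Matrix (Fin k) (Fin k) F} {A B E : Finset (Fin t)} (hroot : Root H (tens T))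
    (hOne : ∀ j, j ∉ A → j ∉ B → T j = 1) (hE : E ⊆ A) (hEQ : ∀ j ∈ E, IsQ J (T j))
    (hB : ∀ j ∈ B, IsP J (T j)) (hdisj : Disjoint A B) (hBne : B.Nonempty) (σ : Equiv.Perm (Fin t))
    (hσs : Equiv.Perm.sign σ = 1 ∨ Odd t) (hσE : ∀ j ∈ E, σ.symm j = j) (hσB : ∀ j ∈ B, σ.symm j = j)
    (hσout : ∀ j, j ∉ E → j ∉ B → T j = 1 ∨ T (σ.symm j) = 1) (n : Finset (Fin t))
    (hnodd : Odd (E.card + B.card + n.card)) (hn3 : 3 ≤ E.card + B.card + n.card) (hEn : Disjoint E n)
    (hBn : Disjoint B n) (hnmem : ∀ j, j ∉ E → j ∉ B → (j ∈ n ↔ IsQ J (T j) ∨ IsQ J (T (σ.symm j))))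
    (hIQ : ∀ j ∈ A, IsQ J (T j)) (hsign : (-1 : F) ^ B.card = -(-1 : F) ^ E.card) : HasQ J H := by
  classical
  obtain ⟨d, hd⟩ := hBne
  have hBE : ∀ j ∈ B, j ∉ E := fun j hj h => Finset.disjoint_left.1 hdisj (hE h) hj
  -- conjugated vectors
  have hQd : ∀ j, ∃ u u' : Fin k → F, j ∈ E → bf J u u' ≠ 0 ∧ T j = rk J u u ∧
      ∃ g ∈ H, ∀ U : Fin t → Matrix (Fin k) (Fin k) F, U j = T j →
        (g : Matrix (Fin t → Fin k) (Fin t → Fin k) F) * tens U *
          ((g⁻¹ : GL (Fin t → Fin k) F) : Matrix (Fin t → Fin k) (Fin t → Fin k) F) =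
        tens (Function.update U j (rk J u' u')) := fun j => by
    by_cases hj : j ∈ E
    · obtain ⟨u, hu, hTu⟩ := hEQ j hj
      obtain ⟨g, hg, u', huu', hU⟩ := hS.isQ_conj (j := j) hu
      exact ⟨u, u', fun _ => ⟨huu', hTu, g, hg, fun U hUj => hU U (hUj.trans hTu)⟩⟩
    · exact ⟨0, 0, fun h => absurd h hj⟩
  choose u u' hu using hQd
  have hPd : ∀ j, ∃ x y x' : Fin k → F, j ∈ B → y ≠ 0 ∧ bf J x y = 0 ∧ bf J x x' ≠ 0 ∧ bf J y x' = 0 ∧
      T j = rk J x y - rk J y x ∧
      ∃ g ∈ H, ∀ U : Fin t → Matrix (Fin k) (Fin k) F, U j = T j →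
        (g : Matrix (Fin t → Fin k) (Fin t → Fin k) F) * tens U *
          ((g⁻¹ : GL (Fin t → Fin k) F) : Matrix (Fin t → Fin k) (Fin t → Fin k) F) =
        tens (Function.update U j (rk J x' y - rk J y x')) := fun j => by
    by_cases hj : j ∈ B
    · obtain ⟨x, y, hy, hxy, hne, hTx⟩ := hB j hj
      obtain ⟨g, hg, x', hxx', hyx', hU⟩ := hS.isP_conj (j := j) hy hxy hne
      exact ⟨x, y, x', fun _ => ⟨hy, hxy, hxx', hyx', hTx, g, hg, fun U hUj => hU U (hUj.trans hTx)⟩⟩
    · exact ⟨0, 0, 0, fun h => absurd h hj⟩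
  choose x y x' hx using hPd
  let T' : Fin t → Matrix (Fin k) (Fin k) F := fun j => if j ∈ E then rk J (u' j) (u' j)
    else if j ∈ B then rk J (x' j) (y j) - rk J (y j) (x' j) else T (σ.symm j)
  have hroot' : Root H (tens T') := by
    have h := hS.conj_all (fun j => T (σ.symm j)) (E ∪ B) T' (fun j hj => ?_) (hS.root_perm hroot σ hσs)
    · rwa [show (E ∪ B).piecewise T' (fun j => T (σ.symm j)) = T' from funext fun j => by
        by_cases hj : j ∈ E ∪ B
        · rw [Finset.piecewise_eq_of_mem _ _ _ hj]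
        · rw [Finset.piecewise_eq_of_notMem _ _ _ hj]
          rw [Finset.mem_union, not_or] at hj
          simp only [T', if_neg hj.1, if_neg hj.2]] at h
    rcases Finset.mem_union.1 hj with hjE | hjB
    · obtain ⟨g, hg, hU⟩ := (hu j hjE).2.2
      refine ⟨g, hg, fun U hUj => ?_⟩
      rw [hU U (by rw [hUj, hσE j hjE])]
      simp only [T', if_pos hjE]
    · obtain ⟨g, hg, hU⟩ := (hx j hjB).2.2.2.2.2
      refine ⟨g, hg, fun U hUj => ?_⟩
      rw [hU U (by rw [hUj, hσB j hjB])]
      simp only [T', if_neg (hBE j hjB), if_pos hjB]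
  let W : Fin t → Matrix (Fin k) (Fin k) F := fun j => if T j = 1 then T (σ.symm j) else T j
  have hW : ∀ j, j ∉ E → j ∉ B → T j * T' j = W j ∧ T' j * T j = W j := fun j h1 h2 => by
    simp only [T', if_neg h1, if_neg h2, W]
    by_cases h : T j = 1
    · simp [h]
    · simp [(hσout j h1 h2).resolve_left h, h]
  let C : Fin t → Matrix (Fin k) (Fin k) F := fun j => if j ∈ E then rk J (u j) (u' j)
    else if j ∈ B then rk J (y j) (y j) else W j
  let C' : Fin t → Matrix (Fin k) (Fin k) F := fun j => if j ∈ E then rk J (u' j) (u j)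
    else if j ∈ B then rk J (y j) (y j) else W j
  let cf : Fin t → F := fun j => if j ∈ E then bf J (u j) (u' j) else if j ∈ B then -bf J (x j) (x' j) else 1
  let sg : Fin t → F := fun j => if j ∈ E ∪ B then -1 else 1
  have hyy : ∀ j, bf J (y j) (y j) = 0 := fun j => bf_self hS.two hS.skew _
  have hTT : T * T' = fun j => cf j • C j := funext fun j => by
    simp only [Pi.mul_apply, cf, C]
    by_cases h1 : j ∈ E
    · simp only [T', if_pos h1]
      rw [(hu j h1).2.1, rk_mul_rk]
    · by_cases h2 : j ∈ B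
      · obtain ⟨-, hxy, -, hyx', hTx, -⟩ := hx j h2
        simp only [T', if_neg h1, if_pos h2]
        rw [hTx]
        simp only [sub_mul, mul_sub, rk_mul_rk, hxy, hyx', hyy, zero_smul, sub_zero, zero_sub, neg_smul]
      · simp only [if_neg h1, if_neg h2, one_smul]
        exact (hW j h1 h2).1
  have hT'T : T' * T = fun j => (sg j * cf j) • C' j := funext fun j => by
    simp only [Pi.mul_apply, cf, C', sg, Finset.mem_union]
    by_cases h1 : j ∈ E
    · simp only [T', if_pos h1, h1, true_or, if_true, neg_one_mul]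
      rw [(hu j h1).2.1, rk_mul_rk, bf_skew hS.skew]
    · by_cases h2 : j ∈ B
      · obtain ⟨-, hxy, -, hyx', hTx, -⟩ := hx j h2
        simp only [T', if_neg h1, if_pos h2, h1, h2, or_true, if_true]
        rw [hTx]
        simp only [sub_mul, mul_sub, rk_mul_rk, hyy, bf_skew hS.skew (y j) (x j), bf_skew hS.skew (x' j) (y j),
          bf_skew hS.skew (x' j) (x j), hxy, hyx', neg_zero, zero_smul, sub_zero, zero_sub, neg_smul, neg_neg,
          neg_one_mul]
        simp
      · simp only [if_neg h1, if_neg h2, h1, h2, or_self, if_false, one_mul, one_smul]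
        exact (hW j h1 h2).2
  have hsg : ∏ j, sg j = -1 := by
    simp only [sg]
    rw [← Finset.prod_filter, Finset.filter_mem_eq_inter, Finset.univ_inter, Finset.prod_const,
      Finset.card_union_of_disjoint (Finset.disjoint_left.2 fun j h h' => hBE j h' h), pow_add, hsign, mul_neg,
      ← mul_pow, neg_mul_neg, one_mul, one_pow]
  have hcf : ∏ j, cf j ≠ 0 := Finset.prod_ne_zero_iff.2 fun j _ => by
    simp only [cf]
    split_ifs with h1 h2
    exacts [(hu j h1).1, neg_ne_zero.2 (hx j h2).2.2.1, one_ne_zero]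
  have hcomm : Root H (tens C + tens C') := by
    refine Root.of_smul hcf ?_
    have hz1 : (T * T') d * T d = 0 ∧ (T' * T) d * T' d = 0 ∧ T d * T d = 0 ∧ T' d * T' d = 0 := by
      obtain ⟨-, hxy, -, hyx', hTx, -⟩ := hx d hd
      have hyx : bf J (y d) (x d) = 0 := by rw [bf_skew hS.skew, hxy, neg_zero]
      have hx'y : bf J (x' d) (y d) = 0 := by rw [bf_skew hS.skew, hyx', neg_zero]
      simp only [hTT, hT'T, C, C', T', if_neg (hBE d hd), if_pos hd, hTx, smul_mul_assoc]
      simp only [mul_sub, sub_mul, rk_mul_rk, hyy, hxy, hyx', hyx, hx'y, bf_self hS.two hS.skew (x d),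
        bf_self hS.two hS.skew (x' d), zero_smul, sub_self, smul_zero, and_self]
    have h := hroot.comm hroot' (by rw [tens_mul]; exact tens_eq_zero_iff.2 ⟨d, hz1.2.2.1⟩)
      (by rw [tens_mul]; exact tens_eq_zero_iff.2 ⟨d, hz1.2.2.2⟩)
      (by rw [tens_mul, tens_mul]; exact tens_eq_zero_iff.2 ⟨d, hz1.1⟩)
      (by rw [tens_mul, tens_mul]; exact tens_eq_zero_iff.2 ⟨d, hz1.2.1⟩)
    rw [tens_mul, tens_mul, hTT, hT'T, tens_smul, tens_smul, Finset.prod_mul_distrib, hsg, neg_one_mul, neg_smul,
      sub_neg_eq_add, ← smul_add] at h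
    exact h
  -- contracting the slots of `E`
  let v : Fin t → Matrix (Fin k) (Fin k) F := fun j => rk J (u j + u' j) (u j + u' j)
  have hext : ∀ s : Finset (Fin t), s ⊆ E → Root H (tens (s.piecewise v C) + tens (s.piecewise v C')) := fun s => by
    induction s using Finset.induction_on with
    | empty => intro; rwa [Finset.piecewise_empty, Finset.piecewise_empty]
    | insert j s hj ih =>
      intro hsub
      have hjE : j ∈ E := hsub (Finset.mem_insert_self j s)
      have hjd : j ≠ d := fun h => hBE d hd (h ▸ hjE)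
      have hds : d ∉ s := fun h => hBE d hd (hsub (Finset.mem_insert_of_mem h))
      have h := ih fun l hl => hsub (Finset.mem_insert_of_mem hl)
      set T0 : Fin t → Matrix (Fin k) (Fin k) F := Function.update 1 d (rk J (y d) (y d)) with hT0
      have hsplit : ∀ U : Fin t → Matrix (Fin k) (Fin k) F, U d = rk J (y d) (y d) →
          tens T0 * tens (Function.update U d 1) = tens U ∧ Commute (tens (Function.update U d 1)) (tens T0) :=
        fun U hU => by
          refine ⟨?_, (sl_commute_of_one (Function.update_self d 1 U) _)⟩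
          rw [tens_mul]
          congr 1
          funext l
          rcases eq_or_ne l d with rfl | hl <;> simp [*]
      have hd1 : s.piecewise v C d = rk J (y d) (y d) := by
        rw [Finset.piecewise_eq_of_notMem _ _ _ hds]; simp only [C, if_neg (hBE d hd), if_pos hd]
      have hd2 : s.piecewise v C' d = rk J (y d) (y d) := by
        rw [Finset.piecewise_eq_of_notMem _ _ _ hds]; simp only [C', if_neg (hBE d hd), if_pos hd]
      obtain ⟨e1, c1⟩ := hsplit _ hd1
      obtain ⟨e2, c2⟩ := hsplit _ hd2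
      rw [← e1, ← e2, ← mul_add] at h
      have h' := (hS.extract (T := T0) (i := d) (by rw [hT0, Function.update_self, root_sq hS.two hS.skew])
        (c1.add_left c2) h (j := j) (by rw [hT0, Function.update_of_ne hjd]; rfl) (u j + u' j)).1
      have hN : ∀ U : Fin t → Matrix (Fin k) (Fin k) F, (U j = rk J (u j) (u' j) ∨ U j = rk J (u' j) (u j)) →
          U d = rk J (y d) (y d) →
          tens T0 * (sl j (v j) * tens (Function.update U d 1) * sl j (v j)) =
            (bf J (u j) (u' j) * bf J (u j) (u' j)) • tens (Function.update U j (v j)) := fun U hU hUd => by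
        rw [← tens_update_smul, sl, tens_mul, tens_mul, tens_mul]
        congr 1
        funext l
        rcases eq_or_ne l j with rfl | hl
        · rw [hT0]
          simp only [Pi.mul_apply, Function.update_self, Function.update_of_ne hjd, one_mul, Pi.one_apply, v]
          rcases hU with hU | hU <;>
          · rw [hU, rk_mul_rk, smul_mul_assoc, rk_mul_rk, smul_smul]
            congr 1
            simp only [bf_add_left, bf_add_right, bf_self hS.two hS.skew, bf_skew hS.skew (u' l) (u l), zero_add,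
              add_zero, neg_mul_neg]
        · rcases eq_or_ne l d with rfl | hld
          · simp [hT0, hl, hUd]
          · simp [hT0, hl, hld]
      simp only [mul_add, add_mul] at h'
      rw [hN _ (Or.inl ?_) hd1, hN _ (Or.inr ?_) hd2, ← smul_add, ← Finset.piecewise_insert,
        ← Finset.piecewise_insert] at h'
      · exact Root.of_smul (mul_ne_zero (hu j hjE).1 (hu j hjE).1) h'
      · rw [Finset.piecewise_eq_of_notMem _ _ _ hj]; simp only [C', if_pos hjE]
      · rw [Finset.piecewise_eq_of_notMem _ _ _ hj]; simp only [C, if_pos hjE]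
  have hfin := hext E le_rfl
  have hCC : E.piecewise v C' = E.piecewise v C := funext fun j => by
    by_cases hj : j ∈ E
    · simp [hj]
    · simp [hj, C, C']
  rw [hCC, ← two_smul F] at hfin
  have hG := Root.of_smul hS.two hfin
  -- read off the vectors
  have hvec : ∀ j, ∃ w : Fin k → F, (j ∈ E ∪ B ∪ n → w ≠ 0 ∧ E.piecewise v C j = rk J w w) := fun j => by
    by_cases h1 : j ∈ E
    · refine ⟨u j + u' j, fun _ => ⟨fun e => (hu j h1).1 ?_, by rw [Finset.piecewise_eq_of_mem _ _ _ h1]⟩⟩
      rw [eq_neg_of_add_eq_zero_left e, ← neg_one_smul F (u' j), bf_smul_left, bf_self hS.two hS.skew, mul_zero]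
    by_cases h2 : j ∈ B
    · exact ⟨y j, fun _ => ⟨(hx j h2).1, by rw [Finset.piecewise_eq_of_notMem _ _ _ h1]; simp only [C, if_neg h1, if_pos h2]⟩⟩
    by_cases h3 : j ∈ n
    · have : IsQ J (W j) := by
        simp only [W]
        split_ifs with hT
        · rcases (hnmem j h1 h2).1 h3 with h | h
          · obtain ⟨w, -, hw⟩ := h
            have e := root_sq hS.two hS.skew w
            rw [← hw, hT, one_mul] at e
            have := congrFun (congrFun e ⟨0, by have := hS.kpos; omega⟩) ⟨0, by have := hS.kpos; omega⟩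
            simp at this
          · exact h
        · have h' := (hσout j h1 h2).resolve_left hT
          have hjA : j ∈ A := by by_contra h; exact hT (hOne j h h2)
          exact hIQ j hjA
      obtain ⟨w, hw, hWw⟩ := this
      exact ⟨w, fun _ => ⟨hw, by rw [Finset.piecewise_eq_of_notMem _ _ _ h1]; simp only [C, if_neg h1, if_neg h2, hWw]⟩⟩
    exact ⟨0, fun h => by simp [h1, h2, h3] at h⟩
  choose w hw using hvec
  refine ⟨E ∪ B ∪ n, w, ?_, ?_, fun j hj => (hw j hj).1, ?_⟩
  · rwa [Finset.card_union_of_disjoint (Finset.disjoint_union_left.2 ⟨hEn, hBn⟩),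
      Finset.card_union_of_disjoint (Finset.disjoint_left.2 fun j h h' => hBE j h' h)]
  · rwa [Finset.card_union_of_disjoint (Finset.disjoint_union_left.2 ⟨hEn, hBn⟩),
      Finset.card_union_of_disjoint (Finset.disjoint_left.2 fun j h h' => hBE j h' h)]
  · rwa [show (E ∪ B ∪ n).piecewise (fun j => rk J (w j) (w j)) 1 = E.piecewise v C from funext fun j => by
      by_cases hj : j ∈ E ∪ B ∪ n
      · rw [Finset.piecewise_eq_of_mem _ _ _ hj, (hw j hj).2]
      · rw [Finset.piecewise_eq_of_notMem _ _ _ hj]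
        simp only [Finset.mem_union, not_or] at hj
        obtain ⟨⟨h1, h2⟩, h3⟩ := hj
        rw [Finset.piecewise_eq_of_notMem _ _ _ h1]
        simp only [C, if_neg h1, if_neg h2, W, Pi.one_apply]
        have hno := mt (hnmem j h1 h2).2 h3
        rw [not_or] at hno
        split_ifs with hT
        · refine (hOne _ (fun hA' => hno.2 (hIQ _ hA')) fun h => h2 ?_).symm
          rwa [σ.symm.injective (hσB _ h)] at h
        · exact absurd (hOne j (fun hA' => hno.1 (hIQ _ hA')) h2) hT]

/-- the existence of a pure root element -/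
theorem hasQ_or_mon (hrad : Rad J H) : HasQ J H ∨ (Even t ∧ ∃ (T : Fin t → Matrix (Fin k) (Fin k) F) (A : Finset (Fin t)),
    Odd A.card ∧ (∀ j ∈ A, IsQ J (T j)) ∧ (∀ j ∉ A, IsP J (T j)) ∧ (∃ j, j ∉ A) ∧ Root H (tens T)) := by
  classical
  obtain ⟨T, i, hT, hQi, ⟨j₁, hj₁, hne⟩, hroot⟩ := hS.exists_mon hrad
  -- the sets of the two kinds
  let A : Finset (Fin t) := Finset.univ.filter fun j => IsQ J (T j)
  let B : Finset (Fin t) := Finset.univ.filter fun j => IsP J (T j) ∧ ¬ IsQ J (T j)
  have hA : ∀ j ∈ A, IsQ J (T j) := fun j hj => (Finset.mem_filter.1 hj).2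
  have hB : ∀ j ∈ B, IsP J (T j) := fun j hj => (Finset.mem_filter.1 hj).2.1
  have hOne : ∀ j, j ∉ A → j ∉ B → T j = 1 := fun j h1 h2 => by
    rcases hT j with h | h | h
    · exact h
    · exact absurd (Finset.mem_filter.2 ⟨Finset.mem_univ j, h⟩) h1
    · exact absurd (Finset.mem_filter.2 ⟨Finset.mem_univ j, h, fun h' =>
        h1 (Finset.mem_filter.2 ⟨Finset.mem_univ j, h'⟩)⟩) h2
  have hdisj : Disjoint A B := Finset.disjoint_filter.2 fun j _ h h' => h'.2 h
  have hi : i ∈ A := Finset.mem_filter.2 ⟨Finset.mem_univ i, hQi⟩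
  have hT0 : ∀ j, T j ≠ 0 := fun j => by
    rcases hT j with h | ⟨x, hx, h⟩ | ⟨x, v, hv, -, hxv, h⟩ <;> rw [h]
    · intro e
      have := congrFun (congrFun e ⟨0, by have := hS.kpos; omega⟩) ⟨0, by have := hS.kpos; omega⟩
      simp at this
    · exact rk_eq_zero J hS.det hx hx
    · intro e
      obtain ⟨z, hz⟩ := exists_bf_ne J hS.det hv
      have h1 := congrArg (· *ᵥ z) e
      simp only [sub_mulVec, rk_mulVec, zero_mulVec, sub_eq_zero] at h1
      exact hxv ((bf J v z)⁻¹ * bf J x z) (by rw [mul_smul, ← h1, inv_smul_smul₀ hz])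
  -- parity
  have hodd : Odd A.card := by
    have hsk := hS.root_skewG hroot
    have hne0 : tens T ≠ 0 := fun e => by
      obtain ⟨j, hj⟩ := tens_eq_zero_iff.1 e
      exact hT0 j hj
    have e1 : (tens T)ᵀ * GV J = (-1 : F) ^ A.card • (GV J * tens T) := by
      rw [GV, tens_transpose, tens_mul, tens_mul,
        show (-1 : F) ^ A.card = ∏ j, (if j ∈ A then (-1 : F) else 1) by
          rw [← Finset.prod_filter, Finset.filter_mem_eq_inter, Finset.univ_inter, Finset.prod_const],
        ← tens_smul]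
      congr 1
      funext j
      by_cases hj : j ∈ A
      · obtain ⟨x, -, h⟩ := hA j hj
        simp only [Pi.mul_apply, if_pos hj, h, neg_one_smul]
        rw [root_skew hS.skew]
      · simp only [Pi.mul_apply, if_neg hj, one_smul]
        by_cases hj' : j ∈ B
        · obtain ⟨x, v, -, -, -, h⟩ := hB j hj'
          rw [h, transpose_sub, sub_mul, rk_transpose J (ε := (-1 : F)) (by rw [hS.skew, neg_one_smul]),
            rk_transpose J (ε := (-1 : F)) (by rw [hS.skew, neg_one_smul]), mul_sub]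
          module
        · rw [hOne j hj hj', transpose_one, one_mul, mul_one]
    by_contra he
    rw [Nat.not_odd_iff_even] at he
    rw [e1, he.neg_one_pow, one_smul, eq_neg_iff_add_eq_zero, ← two_smul F] at hsk
    refine hne0 ?_
    have h0 := (smul_eq_zero.1 hsk).resolve_left hS.two
    exact ((isUnit_iff_isUnit_det _).2 (GV_det (β := Fin t) hS.det)).mul_right_injective
      (h0.trans (mul_zero _).symm)
  have hQsq : ∀ j ∈ A, T j * T j = 0 := fun j hj => by
    obtain ⟨x, -, h⟩ := hA j hj
    rw [h, root_sq hS.two hS.skew]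
  by_cases hBe : B = ∅
  · -- only rank-one factors
    have : ∀ j, ∃ u : Fin k → F, j ∈ A → u ≠ 0 ∧ T j = rk J u u := fun j => by
      by_cases hj : j ∈ A
      · obtain ⟨x, h⟩ := hA j hj; exact ⟨x, fun _ => h⟩
      · exact ⟨0, fun h => absurd h hj⟩
    choose u hu using this
    refine Or.inl ⟨A, u, hodd, ?_, fun j hj => (hu j hj).1, ?_⟩
    · have hj₁A : j₁ ∈ A := by
        rcases hne with h | h
        · exact Finset.mem_filter.2 ⟨Finset.mem_univ j₁, h⟩
        · by_contra h'
          have : j₁ ∈ B := Finset.mem_filter.2 ⟨Finset.mem_univ j₁, h, fun hq =>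
            h' (Finset.mem_filter.2 ⟨Finset.mem_univ j₁, hq⟩)⟩
          rw [hBe] at this
          exact absurd this (Finset.notMem_empty j₁)
      have h2 : 2 ≤ A.card := Finset.one_lt_card.2 ⟨j₁, hj₁A, i, hi, hj₁⟩
      obtain ⟨r, hr⟩ := hodd
      omega
    · rwa [show A.piecewise (fun j => rk J (u j) (u j)) 1 = T from funext fun j => by
        by_cases hj : j ∈ A
        · rw [Finset.piecewise_eq_of_mem _ _ _ hj, (hu j hj).2]
        · rw [Finset.piecewise_eq_of_notMem _ _ _ hj, hOne j hj (by rw [hBe]; exact Finset.notMem_empty j)]; rfl]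
  obtain ⟨d, hd⟩ := Finset.nonempty_iff_ne_empty.2 hBe
  -- no free slot
  by_cases hfull : Even t ∧ ∀ l, l ∈ A ∪ B
  · exact Or.inr ⟨hfull.1, T, A, hodd, hA, fun j hj => hB j ((Finset.mem_union.1 (hfull.2 j)).resolve_left hj),
      ⟨d, fun h => Finset.disjoint_left.1 hdisj h hd⟩, hroot⟩
  -- the slots of the second element
  obtain ⟨E, σ, hσs, hE, hσE, hσB, hσout, n, ⟨hnodd, hn3, hEn, hBn, hnmem⟩, hsign⟩ : ∃ (E : Finset (Fin t)) (σ : Equiv.Perm (Fin t)),
      (Equiv.Perm.sign σ = 1 ∨ Odd t) ∧ E ⊆ A ∧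
      (∀ j ∈ E, σ.symm j = j) ∧ (∀ j ∈ B, σ.symm j = j) ∧
      (∀ j, j ∉ E → j ∉ B → T j = 1 ∨ T (σ.symm j) = 1) ∧
      ∃ n : Finset (Fin t), (Odd (E.card + B.card + n.card) ∧ 3 ≤ E.card + B.card + n.card ∧ Disjoint E n ∧
        Disjoint B n ∧ ∀ j, j ∉ E → j ∉ B → (j ∈ n ↔ IsQ J (T j) ∨ IsQ J (T (σ.symm j)))) ∧
        (-1 : F) ^ B.card = -(-1 : F) ^ E.card := by
    rcases Nat.even_or_odd B.card with hb | hb
    · refine ⟨A, 1, Or.inl (map_one _), le_rfl, fun j _ => rfl, fun j _ => rfl, fun j h1 h2 => Or.inl (hOne j h1 h2), ∅,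
        ⟨?_, ?_, Finset.disjoint_empty_right A, Finset.disjoint_empty_right B, fun j h1 h2 => ?_⟩, ?_⟩
      · rw [Finset.card_empty, add_zero]; exact hodd.add_even hb
      · have : 2 ≤ B.card := by
          obtain ⟨r, hr⟩ := hb
          have := Finset.card_pos.2 ⟨d, hd⟩
          omega
        have := Finset.card_pos.2 ⟨i, hi⟩
        rw [Finset.card_empty]; omega
      · have hnq : ¬ IsQ J (T j) := fun h => h1 (Finset.mem_filter.2 ⟨Finset.mem_univ j, h⟩)
        simp only [Finset.notMem_empty, false_iff, not_or]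
        exact ⟨hnq, hnq⟩
      · rw [hb.neg_one_pow, hodd.neg_one_pow, neg_neg]
    · -- free slots
      have hnone : (∀ l, l ∈ A ∪ B) → Even t := fun h => by
        have h1 : Fintype.card (Fin t) = A.card + B.card := by
          rw [← Finset.card_univ, ← Finset.card_union_of_disjoint hdisj, Finset.eq_univ_iff_forall.2 h]
        rw [Fintype.card_fin] at h1
        exact h1 ▸ hodd.add_odd hb
      obtain ⟨l, hl⟩ : ∃ l, l ∉ A ∪ B := by
        by_contra! h
        exact hfull ⟨hnone h, h⟩
      rw [Finset.mem_union, not_or] at hl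
      have hil : i ≠ l := fun h => hl.1 (h ▸ hi)
      have hTl : T l = 1 := hOne l hl.1 hl.2
      obtain ⟨σ, hσs, hσl, hσi, hσo⟩ : ∃ σ : Equiv.Perm (Fin t), (Equiv.Perm.sign σ = 1 ∨ Odd t) ∧ σ.symm l = i ∧
          (σ.symm i ∉ A ∧ σ.symm i ∉ B) ∧
          ∀ j, j ≠ i → j ≠ l → σ.symm j = j ∨ ((j ∉ A ∧ j ∉ B) ∧ σ.symm j ∉ A ∧ σ.symm j ∉ B) := by
        rcases Nat.even_or_odd t with ht | ht
        · obtain ⟨l₂, hl₂, hne₂⟩ : ∃ l₂, l₂ ∉ A ∪ B ∧ l₂ ≠ l := by
            by_contra! h
            have h1 : A ∪ B = Finset.univ.erase l := by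
              ext j
              simp only [Finset.mem_erase, Finset.mem_univ, and_true]
              exact ⟨fun hj e => by rw [e, Finset.mem_union] at hj; exact hj.elim hl.1 hl.2,
                fun hj => by by_contra hn; exact hj (h j hn)⟩
            have h2 := congrArg Finset.card h1
            rw [Finset.card_union_of_disjoint hdisj, Finset.card_erase_of_mem (Finset.mem_univ l), Finset.card_univ,
              Fintype.card_fin] at h2
            have h3 := hodd.add_odd hb
            rw [h2] at h3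
            exact Nat.not_odd_iff_even.2 h3 (Nat.Even.sub_odd (by omega) ht odd_one)
          rw [Finset.mem_union, not_or] at hl₂
          have hi₂ : i ≠ l₂ := fun h => hl₂.1 (h ▸ hi)
          refine ⟨Equiv.swap i l * Equiv.swap l l₂, Or.inl ?_, ?_, ?_, fun j h1 h2 => ?_⟩
          · rw [map_mul, Equiv.Perm.sign_swap hil, Equiv.Perm.sign_swap hne₂.symm]; rfl
          · show (Equiv.swap l l₂) ((Equiv.swap i l) l) = i
            rw [Equiv.swap_apply_right, Equiv.swap_apply_of_ne_of_ne hil hi₂]
          · show (Equiv.swap l l₂) ((Equiv.swap i l) i) ∉ A ∧ (Equiv.swap l l₂) ((Equiv.swap i l) i) ∉ B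
            rw [Equiv.swap_apply_left, Equiv.swap_apply_left]
            exact hl₂
          · show (Equiv.swap l l₂) ((Equiv.swap i l) j) = j ∨ _ ∧ (Equiv.swap l l₂) ((Equiv.swap i l) j) ∉ A ∧
              (Equiv.swap l l₂) ((Equiv.swap i l) j) ∉ B
            rw [Equiv.swap_apply_of_ne_of_ne h1 h2]
            rcases eq_or_ne j l₂ with rfl | h3
            · exact Or.inr ⟨hl₂, by rw [Equiv.swap_apply_right]; exact hl⟩
            · exact Or.inl (Equiv.swap_apply_of_ne_of_ne h2 h3)
        · refine ⟨Equiv.swap i l, Or.inr ht, ?_, ?_, fun j h1 h2 => Or.inl ?_⟩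
          · rw [Equiv.symm_swap, Equiv.swap_apply_right]
          · rw [Equiv.symm_swap, Equiv.swap_apply_left]; exact hl
          · rw [Equiv.symm_swap, Equiv.swap_apply_of_ne_of_ne h1 h2]
      have hfix : ∀ j, j ∈ A ∨ j ∈ B → j ≠ i → σ.symm j = j := fun j hj hji =>
        ((hσo j hji fun h => by rw [h] at hj; exact hj.elim hl.1 hl.2).resolve_right fun h => hj.elim h.1.1 h.1.2)
      refine ⟨A.erase i, σ, hσs, Finset.erase_subset i A, fun j hj => ?_, fun j hj => ?_, fun j h1 h2 => ?_,
        {i, l}, ⟨?_, ?_, ?_, ?_, fun j h1 h2 => ?_⟩, ?_⟩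
      · exact hfix j (Or.inl (Finset.mem_of_mem_erase hj)) (Finset.ne_of_mem_erase hj)
      · exact hfix j (Or.inr hj) fun h => Finset.disjoint_left.1 hdisj hi (h ▸ hj)
      · rcases eq_or_ne j i with rfl | hji
        · exact Or.inr (hOne _ hσi.1 hσi.2)
        · exact Or.inl (hOne j (fun h => h1 (Finset.mem_erase.2 ⟨hji, h⟩)) h2)
      · rw [Finset.card_pair hil, Finset.card_erase_of_mem hi]
        obtain ⟨r, hr⟩ := hodd
        obtain ⟨r', hr'⟩ := hb
        exact ⟨r + r' + 1, by omega⟩
      · rw [Finset.card_pair hil, Finset.card_erase_of_mem hi]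
        have := Finset.card_pos.2 ⟨d, hd⟩
        omega
      · rw [Finset.disjoint_right]
        intro j hj
        rcases Finset.mem_insert.1 hj with rfl | hj
        · exact Finset.notMem_erase _ A
        · rw [Finset.mem_singleton.1 hj]; exact fun h => hl.1 (Finset.mem_of_mem_erase h)
      · rw [Finset.disjoint_right]
        intro j hj
        rcases Finset.mem_insert.1 hj with rfl | hj
        · exact Finset.disjoint_left.1 hdisj hi
        · rw [Finset.mem_singleton.1 hj]; exact hl.2
      · rw [Finset.mem_insert, Finset.mem_singleton]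
        constructor
        · rintro (rfl | rfl)
          · exact Or.inl hQi
          · exact Or.inr (by rw [hσl]; exact hQi)
        · intro h
          by_contra hn
          rw [not_or] at hn
          have hjA : j ∉ A := fun hA' => h1 (Finset.mem_erase.2 ⟨hn.1, hA'⟩)
          rcases h with h | h
          · exact hjA (Finset.mem_filter.2 ⟨Finset.mem_univ j, h⟩)
          · rcases hσo j hn.1 hn.2 with he | ⟨-, he, -⟩
            · rw [he] at h; exact hjA (Finset.mem_filter.2 ⟨Finset.mem_univ j, h⟩)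
            · exact he (Finset.mem_filter.2 ⟨Finset.mem_univ _, h⟩)
      · rw [Finset.card_erase_of_mem hi, hb.neg_one_pow]
        obtain ⟨r, hr⟩ := hodd
        rw [(show Even (A.card - 1) from ⟨r, by omega⟩).neg_one_pow]
  exact Or.inl (hS.pair_op hroot hOne hE (fun j hj => hA j (hE hj)) hB hdisj ⟨d, hd⟩ σ hσs hσE hσB hσout n hnodd hn3 hEn
    hBn hnmem hA hsign)

/-- for an odd number of slots a pure root element -/
theorem hasQ (ht : Odd t) (hrad : Rad J H) : HasQ J H :=
  (hS.hasQ_or_mon hrad).resolve_right fun h => Nat.not_even_iff_odd.2 ht h.1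

end Setting

end Cfsg.Agent.ClassicalMax.SpWreath
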